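import Mathlib
import Cfsg.Agent.LFourR.SideEx

/-!
# Statement S0510, type B5, `|F| = 5`: the input of the recognition of `PSL(4, 5)`

`z` an involution, `L1`, `L2 ≅ SL(2, 5)` commuting, permuted by `C(z)`, `h i, n i ∈ L i` of order `4`, `n i` inverts `h i`,
`e = h1 h2`, `ρ : z → e → z e → z`, `w = ρ (n1 n2) ρ⁻¹` swaps `L1` and `L2`, `U` an abelian `2`-group normalised by `ρ` which
contains the centralisers of `e` in `L1`, `L2`.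
-/

set_option autoImplicit false

namespace Cfsg.Agent.LFourFive

open Subgroup Cfsg.Agent.LFourR

/-- The input of the recognition of `PSL(4, 5)`. -/
structure InpFive {G : Type*} [Group G] (z e ρ n1 n2 h1 h2 : G) (L1 L2 U : Subgroup G) : Prop where
  zz : z * z = 1
  z_ne : z ≠ 1
  ee : e * e = 1
  e_ne : e ≠ 1
  e_ne_z : e ≠ z
  ze : z * e = e * z
  iso1 : Nonempty (L1 ≃* Matrix.SpecialLinearGroup (Fin 2) (ZMod 5))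
  z_mem : z ∈ L1
  comm : ∀ x ∈ L1, ∀ y ∈ L2, x * y = y * x
  perm : ∀ c : G, c * z = z * c → (cg c L1 = L1 ∧ cg c L2 = L2) ∨ (cg c L1 = L2 ∧ cg c L2 = L1)
  h1_mem : h1 ∈ L1
  h1_sq : h1 * h1 = z
  h2_mem : h2 ∈ L2
  h2_sq : h2 * h2 = z
  e_eq : e = h1 * h2
  n1_mem : n1 ∈ L1
  n1_sq : n1 * n1 = z
  n1_h1 : n1 * h1 * n1⁻¹ = h1⁻¹
  n2_mem : n2 ∈ L2
  n2_sq : n2 * n2 = z
  n2_h2 : n2 * h2 * n2⁻¹ = h2⁻¹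
  ρ_z : ρ * z * ρ⁻¹ = e
  ρ_e : ρ * e * ρ⁻¹ = z * e
  swap : cg (ρ * (n1 * n2) * ρ⁻¹) L1 = L2
  U_comm : ∀ u ∈ U, ∀ v ∈ U, u * v = v * u
  U_two : ∀ u ∈ U, ∃ m : ℕ, u ^ 2 ^ m = 1
  U_ρ : cg ρ U = U
  T1_le : ∀ t ∈ L1, t * e = e * t → t ∈ U
  T2_le : ∀ t ∈ L2, t * e = e * t → t ∈ U
  w_rot : ρ * (ρ * (n1 * n2) * ρ⁻¹) * ρ⁻¹ * (n1 * n2 * (ρ * (n1 * n2) * ρ⁻¹))⁻¹ ∈ U
  c_rot : ρ⁻¹ * (n1 * n2) * ρ * (n1 * n2 * (ρ * (n1 * n2) * ρ⁻¹))⁻¹ ∈ U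
  str : ∀ x : G, x * z = z * x → cg x L1 = L1 → ∃ l1 ∈ L1, ∃ l2 ∈ L2, ∃ u ∈ U, x = l1 * l2 * u
  cen : ∀ x : G, (∀ l ∈ L1, x * l = l * x) → x ∈ L2
  closed : ∀ M : Subgroup G, centralizer ({z} : Set G) ≤ M → ρ ∈ M → M = ⊤

end Cfsg.Agent.LFourFive
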