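import Mathlib
import Cfsg.Agent.LFourR.SideEx
import Cfsg.Agent.Lib.AutSL2
import Cfsg.Agent.Lib.PSL2Inv

/-!
# The two root groups of `SL(2, 5)` normalised by an element of order four
-/

set_option autoImplicit false

namespace Cfsg.Agent.LFourFive.LabSL

open Subgroup Cfsg.Agent.LFourR Cfsg.Agent.Lib.SL2Mat Cfsg.Agent.Lib.AutSL2

local notation "SL5" => Matrix.SpecialLinearGroup (Fin 2) (ZMod 5)

local instance factFive : Fact (Nat.Prime 5) := ⟨by norm_num⟩

theorem two_ne : (2 : ZMod 5) ≠ 0 := by decide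

/-- `diag(2, 3)` -/
def D : SL5 := dg 2 two_ne

/-- the lower unitriangular matrices -/
def loG : Subgroup SL5 where
  carrier := {x | ∃ b, lo b = x}
  one_mem' := ⟨0, lo_zero⟩
  mul_mem' := by
    rintro _ _ ⟨a, rfl⟩ ⟨b, rfl⟩
    exact ⟨a + b, (lo_mul a b).symm⟩
  inv_mem' := by
    rintro _ ⟨a, rfl⟩
    exact ⟨-a, (lo_inv a).symm⟩

theorem mem_loG {x : SL5} : x ∈ loG ↔ ∃ b, lo b = x := Iff.rfl

theorem card_up : Nat.card (upG (ZMod 5)) = 5 := by
  have : Nat.card (upG (ZMod 5)) = Nat.card (ZMod 5) := by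
    refine Nat.card_congr (Equiv.ofBijective (fun b : ZMod 5 => (⟨up b, up_mem b⟩ : upG (ZMod 5))) ⟨?_, ?_⟩).symm
    · intro a b h
      exact up_inj (congrArg Subtype.val h)
    · rintro ⟨_, b, rfl⟩
      exact ⟨b, rfl⟩
  rw [this, Nat.card_zmod]

theorem card_lo : Nat.card loG = 5 := by
  have : Nat.card loG = Nat.card (ZMod 5) := by
    refine Nat.card_congr (Equiv.ofBijective (fun b : ZMod 5 => (⟨lo b, ⟨b, rfl⟩⟩ : loG)) ⟨?_, ?_⟩).symm
    · intro a b h
      exact lo_inj (congrArg Subtype.val h)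
    · rintro ⟨_, b, rfl⟩
      exact ⟨b, rfl⟩
  rw [this, Nat.card_zmod]

theorem sup_eq_top : upG (ZMod 5) ⊔ loG = ⊤ := by
  rw [eq_top_iff]
  intro x _
  have key : ∀ x : SL5, ent x 1 0 ≠ 0 → x ∈ upG (ZMod 5) ⊔ loG := by
    intro x hx
    rw [eq_up_lo_up x hx]
    exact mul_mem (mul_mem (mem_sup_left ⟨_, rfl⟩) (mem_sup_right ⟨_, rfl⟩)) (mem_sup_left ⟨_, rfl⟩)
  by_cases hx : ent x 1 0 = 0
  · have h1 : ent (lo 1 * x) 1 0 ≠ 0 := by
      rw [ent_mul, lo_10, lo_11, hx]
      have h2 := det_eq x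
      rw [hx, mul_zero, sub_zero] at h2
      intro h3
      have h4 : ent x 0 0 = 0 := by linear_combination h3
      rw [h4, zero_mul] at h2
      exact zero_ne_one h2
    have h2 := key _ h1
    have h3 : x = (lo 1)⁻¹ * (lo 1 * x) := by group
    rw [h3]
    exact mul_mem (inv_mem (mem_sup_right ⟨1, rfl⟩)) h2
  · exact key x hx

theorem up_ne_lo : upG (ZMod 5) ≠ loG := by
  intro h
  obtain ⟨b, hb⟩ : up (1 : ZMod 5) ∈ loG := by rw [← h]; exact up_mem 1
  have := congrArg (fun x => ent x 0 1) hb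
  simp at this

theorem D_up (b : ZMod 5) : D * up b * D⁻¹ = (up b)⁻¹ := by
  rw [D, dg_up, mul_inv_cancel_right, up_inv]
  congr 1
  have : (2 : ZMod 5) ^ 2 = -1 := by decide
  rw [this]; ring

theorem D_lo (b : ZMod 5) : D * lo b * D⁻¹ = (lo b)⁻¹ := by
  rw [lo_inv, mul_inv_eq_iff_eq_mul]
  refine ext_ent ?_ ?_ ?_ ?_ <;> simp only [D, ent_mul, dg_00, dg_01, dg_10, dg_11, lo_00, lo_01, lo_10, lo_11]
  · ring
  · ring
  · have : (2 : ZMod 5)⁻¹ = -2 := inv_eq_of_mul_eq_one_right (by decide)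
    rw [this]; ring
  · ring

theorem exists_conj : ∀ h : SL5, h * h = -1 → ∃ s : SL5, s * h * s⁻¹ = D := by
  have key : ∀ a b c d : ZMod 5, a * d - b * c = 1 → a * a + b * c = -1 → b * (a + d) = 0 → c * (a + d) = 0 →
      ∃ p q r s : ZMod 5, p * s - q * r = 1 ∧ p * a + q * c = 2 * p ∧ p * b + q * d = 2 * q ∧
        r * a + s * c = 3 * r ∧ r * b + s * d = 3 * s := by decide +kernel
  intro h hh
  have e00 := congrArg (fun x => ent x 0 0) hh
  have e01 := congrArg (fun x => ent x 0 1) hh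
  have e10 := congrArg (fun x => ent x 1 0) hh
  simp only [ent_mul] at e00 e01 e10
  have m00 : ent (-1 : SL5) 0 0 = -1 := rfl
  have m01 : ent (-1 : SL5) 0 1 = 0 := by decide
  have m10 : ent (-1 : SL5) 1 0 = 0 := by decide
  obtain ⟨p, q, r, s, h1, h2, h3, h4, h5⟩ := key (ent h 0 0) (ent h 0 1) (ent h 1 0) (ent h 1 1) (det_eq h)
    (by rw [m00] at e00; linear_combination e00) (by rw [m01] at e01; linear_combination e01)
    (by rw [m10] at e10; linear_combination e10)
  refine ⟨mk p q r s h1, ?_⟩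
  rw [mul_inv_eq_iff_eq_mul]
  have h23 : (2 : ZMod 5)⁻¹ = 3 := inv_eq_of_mul_eq_one_right (by decide)
  refine ext_ent ?_ ?_ ?_ ?_ <;> simp only [D, ent_mul, dg_00, dg_01, dg_10, dg_11, mk_00, mk_01, mk_10, mk_11, h23]
  · linear_combination h2
  · linear_combination h3
  · linear_combination h4
  · linear_combination h5

/-- the only subgroups of order `5` normalised by `D` -/
theorem eq_or {X : Subgroup SL5} (hX : Nat.card X = 5) (hD : ∀ x ∈ X, D * x * D⁻¹ ∈ X) : X = upG (ZMod 5) ∨ X = loG := by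
  have key : ∀ a b c k : ZMod 5, a * (2 - a) - b * c = 1 → ¬ (b = 0 ∧ c = 0) →
      a = 1 + k * (a - 1) → 4 * b = k * b → 4 * c = k * c → (a = 1 ∧ (b = 0 ∨ c = 0)) := by decide +kernel
  -- a generator
  have hfin : Finite X := Nat.finite_of_card_ne_zero (by rw [hX]; norm_num)
  obtain ⟨g, hg⟩ := exists_prime_orderOf_dvd_card' (G := X) 5 (by rw [hX])
  obtain ⟨x, hx⟩ := g
  have hord : orderOf x = 5 := by
    have := hg
    rwa [Subgroup.orderOf_mk] at this
  have hzX : zpowers x = X := by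
    refine Subgroup.eq_of_le_of_card_ge (zpowers_le.2 hx) ?_
    rw [Nat.card_zpowers, hord, hX]
  have hx5 : x ^ 5 = 1 := by
    have := pow_orderOf_eq_one x
    rwa [hord] at this
  have hx1 : x ≠ 1 := by
    rintro rfl
    rw [orderOf_one] at hord
    norm_num at hord
  -- (x - 1)^5 = 0, so (x-1)^2 = 0
  have hnil : (x.1 - 1) ^ 5 = 0 := by
    have h1 : (x.1 : Matrix (Fin 2) (Fin 2) (ZMod 5)) ^ 5 = 1 := by
      have := congrArg Subtype.val hx5
      rwa [Matrix.SpecialLinearGroup.coe_pow, Matrix.SpecialLinearGroup.coe_one] at this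
    have : CharP (Matrix (Fin 2) (Fin 2) (ZMod 5)) 5 := inferInstance
    rw [sub_pow_char_of_commute 5 (Commute.one_right _), h1, one_pow, sub_self]
  have htr : ent x 0 0 + ent x 1 1 = 2 := by
    have h1 : ((x.1 - 1) ^ 5).det = 0 := by rw [hnil]; simp
    rw [Matrix.det_pow] at h1
    have h2 : (x.1 - 1).det = 0 := by
      by_contra h; exact pow_ne_zero 5 h h1
    rw [Matrix.det_fin_two] at h2
    simp only [Matrix.sub_apply, Matrix.one_apply_eq, Matrix.one_apply_ne (show (0 : Fin 2) ≠ 1 by decide),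
      Matrix.one_apply_ne (show (1 : Fin 2) ≠ 0 by decide), sub_zero] at h2
    have h3 := det_eq x
    change (ent x 0 0 - 1) * (ent x 1 1 - 1) - ent x 0 1 * ent x 1 0 = 0 at h2
    linear_combination h3 - h2
  -- the powers of `x`
  have hsq : ∀ i j, ent (x * x) i j = 2 * ent x i j - (if i = j then 1 else 0) := by
    have h3 := det_eq x
    intro i j
    rw [ent_mul]
    fin_cases i <;> fin_cases j <;> simp only [Fin.mk_zero, Fin.mk_one, Fin.isValue, if_true,
      show ((0 : Fin 2) = 1) = False from by simp, show ((1 : Fin 2) = 0) = False from by simp, if_false]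
    · linear_combination ent x 0 0 * htr - h3
    · linear_combination ent x 0 1 * htr
    · linear_combination ent x 1 0 * htr
    · linear_combination ent x 1 1 * htr - h3
  have hpow : ∀ n : ℕ, ∀ i j, ent (x ^ n) i j = n * (ent x i j - (if i = j then 1 else 0)) + (if i = j then 1 else 0) := by
    intro n
    induction n with
    | zero =>
      intro i j
      rw [pow_zero, Nat.cast_zero, zero_mul, zero_add]
      fin_cases i <;> fin_cases j <;> rfl
    | succ n ih =>
      intro i j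
      have h3 := det_eq x
      rw [pow_succ, ent_mul, ih, ih]
      fin_cases i <;> fin_cases j <;> simp only [Fin.mk_zero, Fin.mk_one, Fin.isValue, if_true,
        show ((0 : Fin 2) = 1) = False from by simp, show ((1 : Fin 2) = 0) = False from by simp, if_false, Nat.cast_succ]
      · linear_combination (n : ZMod 5) * ent x 0 0 * htr - n * h3
      · linear_combination (n : ZMod 5) * ent x 0 1 * htr
      · linear_combination (n : ZMod 5) * ent x 1 0 * htr
      · linear_combination (n : ZMod 5) * ent x 1 1 * htr - n * h3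
  have hDx : D * x * D⁻¹ ∈ zpowers x := by rw [hzX]; exact hD x hx
  obtain ⟨n, hn⟩ : ∃ n : ℕ, x ^ n = D * x * D⁻¹ := by
    have hfo : IsOfFinOrder x := isOfFinOrder_iff_pow_eq_one.2 ⟨5, by norm_num, hx5⟩
    obtain ⟨n, hn⟩ := (hfo.mem_powers_iff_mem_zpowers).2 hDx
    exact ⟨n, hn⟩
  have hDe : ∀ i j, ent (x ^ n * D) i j = ent (D * x) i j := by
    intro i j
    rw [hn]; congr 1; group
  have h23 : (2 : ZMod 5)⁻¹ = 3 := inv_eq_of_mul_eq_one_right (by decide)
  have d00 := hDe 0 0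
  have d01 := hDe 0 1
  have d10 := hDe 1 0
  have d11 := hDe 1 1
  simp only [ent_mul, D, dg_00, dg_01, dg_10, dg_11, hpow, h23, if_true,
    show ((0 : Fin 2) = 1) = False from by simp, show ((1 : Fin 2) = 0) = False from by simp, if_false] at d00 d01 d10 d11
  have h15 : ∀ y : ZMod 5, 2 * y = 0 → y = 0 := by decide
  have h35 : ∀ y : ZMod 5, 3 * y = 0 → y = 0 := by decide
  have c5 : (5 : ZMod 5) = 0 := by decide
  have hd : ent x 1 1 = 2 - ent x 0 0 := by linear_combination htr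
  obtain ⟨ha, hbc⟩ := key (ent x 0 0) (ent x 0 1) (ent x 1 0) (n : ZMod 5) (by rw [← hd]; exact det_eq x) (by
    rintro ⟨hb, hc⟩
    apply hx1
    have h1 := det_eq x
    rw [hb, hc, hd] at h1
    have h2 : (ent x 0 0 - 1) * (ent x 0 0 - 1) = 0 := by linear_combination -h1
    have h3 : ent x 0 0 = 1 := sub_eq_zero.1 (mul_self_eq_zero.1 h2)
    refine ext_ent h3 hb hc ?_
    rw [hd, h3]
    change (2 : ZMod 5) - 1 = 1
    decide) (by
      have := h15 (ent x 0 0 - (1 + n * (ent x 0 0 - 1))) (by linear_combination -d00)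
      linear_combination this) (by
      have := h35 (4 * ent x 0 1 - n * ent x 0 1) (by linear_combination (2 * ent x 0 1) * c5 - d01)
      linear_combination this) (by
      have := h15 (4 * ent x 1 0 - n * ent x 1 0) (by linear_combination (ent x 1 0) * c5 - d10)
      linear_combination this)
  have hd1 : ent x 1 1 = 1 := by
    rw [hd, ha]; decide
  rcases hbc with hb | hc
  · right
    refine (Subgroup.eq_of_le_of_card_ge ?_ (by rw [hX, card_lo]))
    rw [← hzX, zpowers_le]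
    exact ⟨ent x 1 0, ext_ent ha.symm hb.symm rfl hd1.symm⟩
  · left
    refine (Subgroup.eq_of_le_of_card_ge ?_ (by rw [hX, card_up]))
    rw [← hzX, zpowers_le]
    exact ⟨ent x 0 1, ext_ent ha.symm rfl hc.symm hd1.symm⟩

/-- automorphisms of `SL(2,5)` are conjugations by elements of `GL(2,5)` -/
theorem exists_gl (α : MulAut SL5) : ∃ g : GL (Fin 2) (ZMod 5), ∀ x, (α x).1 * g.1 = g.1 * x.1 := by
  obtain ⟨g, σ, hg⟩ := exists_gl_ringEquiv (MonoidHom.id SL5) (fun x => ⟨x, rfl⟩)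
    (by rw [MonoidHom.ker_id]; exact bot_le) α
  have hσ : σ = RingEquiv.refl (ZMod 5) := Subsingleton.elim _ _
  refine ⟨g, fun x => ?_⟩
  have h1 := hg x
  rw [hσ] at h1
  have h2 : fieldAut (RingEquiv.refl (ZMod 5)) x = x := by
    have : (RingEquiv.refl (ZMod 5)) = 1 := rfl
    rw [this, map_one]; rfl
  rw [h2] at h1
  have h3 : α x = conjGL g x := h1
  rw [h3, conjGL_val, Matrix.mul_assoc, ← Units.val_mul, inv_mul_cancel, Units.val_one, Matrix.mul_one]

theorem mul_ent (A B : Matrix (Fin 2) (Fin 2) (ZMod 5)) (i j : Fin 2) :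
    (A * B) i j = A i 0 * B 0 j + A i 1 * B 1 j := by
  rw [Matrix.mul_apply, Fin.sum_univ_two]

theorem aut_of_fix (α : MulAut SL5) (hα : α D = D) :
    (∀ b, α (up b) ∈ upG (ZMod 5)) ∧ ∀ b, α (lo b) ∈ loG := by
  obtain ⟨g, hg⟩ := exists_gl α
  have h23 : (2 : ZMod 5)⁻¹ = 3 := inv_eq_of_mul_eq_one_right (by decide)
  have hD := hg D
  rw [hα] at hD
  have e01 := congrFun (congrFun hD 0) 1
  have e10 := congrFun (congrFun hD 1) 0
  rw [mul_ent, mul_ent] at e01 e10
  change (2 : ZMod 5) * g.1 0 1 + 0 * g.1 1 1 = g.1 0 0 * 0 + g.1 0 1 * (2 : ZMod 5)⁻¹ at e01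
  change (0 : ZMod 5) * g.1 0 0 + (2 : ZMod 5)⁻¹ * g.1 1 0 = g.1 1 0 * 2 + g.1 1 1 * 0 at e10
  rw [h23] at e01 e10
  have g01 : g.1 0 1 = 0 := by linear_combination -e01
  have g10 : g.1 1 0 = 0 := by linear_combination e10
  have hdet : g.1.det ≠ 0 := (g.isUnit.map Matrix.detMonoidHom).ne_zero
  rw [Matrix.det_fin_two, g01, zero_mul, sub_zero] at hdet
  have g00 : g.1 0 0 ≠ 0 := left_ne_zero_of_mul hdet
  have g11 : g.1 1 1 ≠ 0 := right_ne_zero_of_mul hdet
  constructor
  · intro b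
    have h := hg (up b)
    have a00 := congrFun (congrFun h 0) 0
    have a10 := congrFun (congrFun h 1) 0
    have a11 := congrFun (congrFun h 1) 1
    rw [mul_ent, mul_ent, g10, g01] at a00
    rw [mul_ent, mul_ent, g10] at a10
    rw [mul_ent, mul_ent, g10, g01] at a11
    change ent (α (up b)) 0 0 * g.1 0 0 + ent (α (up b)) 0 1 * 0 = g.1 0 0 * 1 + 0 * 0 at a00
    change ent (α (up b)) 1 0 * g.1 0 0 + ent (α (up b)) 1 1 * 0 = 0 * 1 + g.1 1 1 * 0 at a10
    change ent (α (up b)) 1 0 * 0 + ent (α (up b)) 1 1 * g.1 1 1 = 0 * b + g.1 1 1 * 1 at a11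
    refine ⟨ent (α (up b)) 0 1, ext_ent ?_ rfl ?_ ?_⟩
    · exact (mul_right_cancel₀ g00 (by linear_combination a00 : ent (α (up b)) 0 0 * g.1 0 0 = 1 * g.1 0 0)).symm
    · exact (mul_right_cancel₀ g00 (by linear_combination a10 : ent (α (up b)) 1 0 * g.1 0 0 = 0 * g.1 0 0)).symm
    · exact (mul_right_cancel₀ g11 (by linear_combination a11 : ent (α (up b)) 1 1 * g.1 1 1 = 1 * g.1 1 1)).symm
  · intro b
    have h := hg (lo b)
    have a00 := congrFun (congrFun h 0) 0
    have a01 := congrFun (congrFun h 0) 1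
    have a11 := congrFun (congrFun h 1) 1
    rw [mul_ent, mul_ent, g10, g01] at a00
    rw [mul_ent, mul_ent, g01] at a01
    rw [mul_ent, mul_ent, g10, g01] at a11
    change ent (α (lo b)) 0 0 * g.1 0 0 + ent (α (lo b)) 0 1 * 0 = g.1 0 0 * 1 + 0 * b at a00
    change ent (α (lo b)) 0 0 * 0 + ent (α (lo b)) 0 1 * g.1 1 1 = g.1 0 0 * 0 + 0 * 1 at a01
    change ent (α (lo b)) 1 0 * 0 + ent (α (lo b)) 1 1 * g.1 1 1 = 0 * 0 + g.1 1 1 * 1 at a11
    refine ⟨ent (α (lo b)) 1 0, ext_ent ?_ ?_ rfl ?_⟩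
    · exact (mul_right_cancel₀ g00 (by linear_combination a00 : ent (α (lo b)) 0 0 * g.1 0 0 = 1 * g.1 0 0)).symm
    · exact (mul_right_cancel₀ g11 (by linear_combination a01 : ent (α (lo b)) 0 1 * g.1 1 1 = 0 * g.1 1 1)).symm
    · exact (mul_right_cancel₀ g11 (by linear_combination a11 : ent (α (lo b)) 1 1 * g.1 1 1 = 1 * g.1 1 1)).symm

theorem aut_of_inv (α : MulAut SL5) (hα : α D = D⁻¹) :
    (∀ b, α (up b) ∈ loG) ∧ ∀ b, α (lo b) ∈ upG (ZMod 5) := by
  -- compose with the Weyl element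
  have hw : wm (1 : ZMod 5) one_ne_zero * D⁻¹ * (wm (1 : ZMod 5) one_ne_zero)⁻¹ = D := by
    rw [mul_inv_eq_iff_eq_mul, ent_inv D]
    have h23 : (2 : ZMod 5)⁻¹ = 3 := inv_eq_of_mul_eq_one_right (by decide)
    refine ext_ent ?_ ?_ ?_ ?_ <;>
      simp only [D, ent_mul, dg_00, dg_01, dg_10, dg_11, mk_00, mk_01, mk_10, mk_11, wm_00, wm_01, wm_10, wm_11, h23]
    · ring
    · ring
    · ring
    · ring
  obtain ⟨h1, h2⟩ := aut_of_fix (MulAut.conj (wm (1 : ZMod 5) one_ne_zero) * α) (by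
    rw [MulAut.mul_apply, hα, MulAut.conj_apply, hw])
  constructor
  · intro b
    obtain ⟨c, hc⟩ := h1 b
    rw [MulAut.mul_apply, MulAut.conj_apply] at hc
    have h3 : α (up b) = (wm (1 : ZMod 5) one_ne_zero)⁻¹ * up c * wm 1 one_ne_zero := by rw [hc]; group
    rw [h3]
    refine ⟨-c, ?_⟩
    rw [mul_assoc, eq_inv_mul_iff_mul_eq, wm_lo]
    congr 2; ring
  · intro b
    obtain ⟨c, hc⟩ := h2 b
    rw [MulAut.mul_apply, MulAut.conj_apply] at hc
    have h3 : α (lo b) = (wm (1 : ZMod 5) one_ne_zero)⁻¹ * lo c * wm 1 one_ne_zero := by rw [hc]; group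
    rw [h3]
    refine ⟨-c, ?_⟩
    rw [mul_assoc, eq_inv_mul_iff_mul_eq, wm_up]
    congr 2; ring

end Cfsg.Agent.LFourFive.LabSL
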