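import Mathlib
import Cfsg.Agent.LFourFive.LabSL

/-!
# The two root groups of a subgroup `L ≅ SL(2, 5)` normalised by an element of order four
-/

set_option autoImplicit false

namespace Cfsg.Agent.LFourFive

open Subgroup Cfsg.Agent.LFourR Cfsg.Agent.Lib.SL2Mat Cfsg.Agent.Lib.AutSL2 Cfsg.Agent.LFourFive.LabSL

universe u

variable {G : Type u} [Group G]

/-- the two root groups `A`, `B` of `L` normalised by `h` -/
structure Roots (h : G) (L A B : Subgroup G) : Prop where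
  A_le : A ≤ L
  B_le : B ≤ L
  cardA : Nat.card A = 5
  cardB : Nat.card B = 5
  ne : A ≠ B
  sup : A ⊔ B = L
  invA : ∀ x ∈ A, h * x * h⁻¹ = x⁻¹
  invB : ∀ x ∈ B, h * x * h⁻¹ = x⁻¹
  only : ∀ X : Subgroup G, X ≤ L → Nat.card X = 5 → (∀ x ∈ X, h * x * h⁻¹ ∈ X) → X = A ∨ X = B
  fix : ∀ y, cg y L = L → y * h = h * y → cg y A = A ∧ cg y B = B
  swp : ∀ y, cg y L = L → y * h * y⁻¹ = h⁻¹ → cg y A = B ∧ cg y B = A

theorem card_cg (g : G) (H : Subgroup G) : Nat.card (cg g H) = Nat.card H :=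
  (Nat.card_congr (cgEquiv g H).toEquiv).symm

theorem eq_of_le_of_card_five {A B : Subgroup G} (h : A ≤ B) (hA : Nat.card A = 5) (hB : Nat.card B = 5) : A = B := by
  have : Finite B := Nat.finite_of_card_ne_zero (by rw [hB]; norm_num)
  exact Subgroup.eq_of_le_of_card_ge h (by rw [hA, hB])

theorem exists_roots {L : Subgroup G} (iso : Nonempty (L ≃* Matrix.SpecialLinearGroup (Fin 2) (ZMod 5))) {h z : G}
    (hh : h ∈ L) (hz : h * h = z) (hzz : z * z = 1) (hz1 : z ≠ 1) : ∃ A B : Subgroup G, Roots h L A B := by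
  have hfact : Fact (Nat.Prime 5) := ⟨by norm_num⟩
  obtain ⟨f⟩ := iso
  have h2 : f ⟨h, hh⟩ * f ⟨h, hh⟩ = -1 := by
    have h3 : (f ⟨h, hh⟩ * f ⟨h, hh⟩) * (f ⟨h, hh⟩ * f ⟨h, hh⟩) = 1 := by
      rw [← map_mul, ← map_mul]
      have : (⟨h, hh⟩ : L) * ⟨h, hh⟩ * (⟨h, hh⟩ * ⟨h, hh⟩) = 1 := by
        apply Subtype.ext
        change h * h * (h * h) = 1
        rw [hz, hzz]
      rw [this, map_one]
    rcases Cfsg.Agent.Lib.PSL2Inv.sq_eq_one LabSL.two_ne h3 with h4 | h4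
    · exfalso
      apply hz1
      rw [← map_mul, ← map_one f] at h4
      have := congrArg Subtype.val (f.injective h4)
      rw [← hz]; exact this
    · exact h4
  obtain ⟨s, hs⟩ := exists_conj _ h2
  set φ : L ≃* Matrix.SpecialLinearGroup (Fin 2) (ZMod 5) := f.trans (MulAut.conj s) with hφ
  have hφh : φ ⟨h, hh⟩ = LabSL.D := hs
  let R : Subgroup (Matrix.SpecialLinearGroup (Fin 2) (ZMod 5)) → Subgroup G :=
    fun X => (X.comap φ.toMonoidHom).map L.subtype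
  have memR : ∀ X x, x ∈ R X ↔ ∃ hx : x ∈ L, φ ⟨x, hx⟩ ∈ X := by
    intro X x
    constructor
    · rintro ⟨y, hy, rfl⟩
      exact ⟨y.2, hy⟩
    · rintro ⟨hx, hX⟩
      exact ⟨⟨x, hx⟩, hX, rfl⟩
  have cardR : ∀ X, Nat.card (R X) = Nat.card X := by
    intro X
    have h1 : Nat.card (R X) = Nat.card (X.comap φ.toMonoidHom) :=
      Nat.card_congr ((X.comap φ.toMonoidHom).equivMapOfInjective L.subtype (Subgroup.subtype_injective L)).toEquiv.symm
    rw [h1]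
    refine Nat.card_congr (Equiv.ofBijective
      (fun x : (X.comap φ.toMonoidHom : Subgroup L) => (⟨φ x.1, x.2⟩ : X)) ⟨?_, ?_⟩)
    · intro a b hab
      exact Subtype.ext (φ.injective (congrArg Subtype.val hab))
    · rintro ⟨y, hy⟩
      refine ⟨⟨φ.symm y, ?_⟩, Subtype.ext (φ.apply_symm_apply y)⟩
      change φ (φ.symm y) ∈ X
      rw [φ.apply_symm_apply]
      exact hy
  have Rmono : ∀ X Y, R X = R Y → X = Y := by
    intro X Y hXY
    ext x
    obtain ⟨y, rfl⟩ := φ.surjective x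
    have h1 := memR X y
    have h2 := memR Y y
    rw [hXY] at h1
    constructor
    · intro hx
      exact ((memR Y y).1 ((memR X y |>.2 ⟨y.2, hx⟩) |> fun h => by rwa [hXY] at h)).2
    · intro hy
      exact ((memR X y).1 ((memR Y y |>.2 ⟨y.2, hy⟩) |> fun h => by rwa [← hXY] at h)).2
  have conjR : ∀ y : G, cg y L = L → ∃ α : MulAut (Matrix.SpecialLinearGroup (Fin 2) (ZMod 5)),
      (∀ x (hx : x ∈ L) (hx' : y * x * y⁻¹ ∈ L), α (φ ⟨x, hx⟩) = φ ⟨y * x * y⁻¹, hx'⟩) ∧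
      ∀ X Y, (∀ x ∈ X, α x ∈ Y) → cg y (R X) ≤ R Y := by
    intro y hy
    have hyn := mem_normalizer_iff_cg.2 hy
    refine ⟨MulAut.congr φ (nact L hyn), ?_, ?_⟩
    · intro x hx hx'
      change φ (nact L hyn (φ.symm (φ ⟨x, hx⟩))) = _
      rw [φ.symm_apply_apply]
      rfl
    · intro X Y hXY x hx
      rw [mem_cg, memR] at hx
      obtain ⟨hx1, hx2⟩ := hx
      have hx3 : x ∈ L := by
        have : x ∈ cg y L := mem_cg.2 hx1
        rwa [hy] at this
      rw [memR]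
      refine ⟨hx3, ?_⟩
      have h4 := hXY _ hx2
      change φ (nact L hyn (φ.symm (φ ⟨y⁻¹ * x * y, hx1⟩))) ∈ Y at h4
      rw [φ.symm_apply_apply] at h4
      have h5 : nact L hyn ⟨y⁻¹ * x * y, hx1⟩ = ⟨x, hx3⟩ := by
        apply Subtype.ext
        rw [coe_nact]
        change y * (y⁻¹ * x * y) * y⁻¹ = x
        group
      rwa [h5] at h4
  refine ⟨R (upG (ZMod 5)), R loG, ?_⟩
  have cA : Nat.card (R (upG (ZMod 5))) = 5 := by rw [cardR, card_up]
  have cB : Nat.card (R loG) = 5 := by rw [cardR, card_lo]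
  have leL : ∀ X, R X ≤ L := fun X x hx => ((memR X x).1 hx).1
  have hinv : ∀ X, (∀ x ∈ X, LabSL.D * x * LabSL.D⁻¹ = x⁻¹) → ∀ x ∈ R X, h * x * h⁻¹ = x⁻¹ := by
    intro X hX x hx
    obtain ⟨hxL, hx2⟩ := (memR X x).1 hx
    have h1 := hX _ hx2
    rw [← hφh, ← map_mul, ← map_inv, ← map_inv, ← map_mul] at h1
    exact congrArg Subtype.val (φ.injective h1)
  refine ⟨leL _, leL _, cA, cB, ?_, ?_, ?_, ?_, ?_, ?_, ?_⟩
  · intro hAB
    exact up_ne_lo (Rmono _ _ hAB)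
  · apply le_antisymm (sup_le (leL _) (leL _))
    intro x hx
    have h1 : φ ⟨x, hx⟩ ∈ upG (ZMod 5) ⊔ loG := by rw [sup_eq_top]; exact mem_top _
    have h2 : ((R (upG (ZMod 5)) ⊔ R loG).subgroupOf L).map φ.toMonoidHom ≥ upG (ZMod 5) ⊔ loG := by
      refine sup_le ?_ ?_
      · intro y hy
        obtain ⟨⟨x', hx'⟩, rfl⟩ := φ.surjective y
        exact ⟨⟨x', hx'⟩, mem_subgroupOf.2 (mem_sup_left ((memR _ _).2 ⟨hx', hy⟩)), rfl⟩
      · intro y hy
        obtain ⟨⟨x', hx'⟩, rfl⟩ := φ.surjective y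
        exact ⟨⟨x', hx'⟩, mem_subgroupOf.2 (mem_sup_right ((memR _ _).2 ⟨hx', hy⟩)), rfl⟩
    obtain ⟨y, hy, hyx⟩ := h2 h1
    have h3 : y = ⟨x, hx⟩ := φ.injective hyx
    rw [h3] at hy
    exact mem_subgroupOf.1 hy
  · exact hinv _ (by rintro _ ⟨b, rfl⟩; exact D_up b)
  · exact hinv _ (by rintro _ ⟨b, rfl⟩; exact D_lo b)
  · intro X hXL hXc hXh
    have h1 : R ((X.subgroupOf L).map φ.toMonoidHom) = X := by
      ext x
      rw [memR]
      constructor
      · rintro ⟨hx, y, hy, hyx⟩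
        have h3 : y = ⟨x, hx⟩ := φ.injective hyx
        rw [h3] at hy
        exact mem_subgroupOf.1 hy
      · intro hx
        exact ⟨hXL hx, ⟨x, hXL hx⟩, mem_subgroupOf.2 hx, rfl⟩
    have h2 : Nat.card ((X.subgroupOf L).map φ.toMonoidHom) = 5 := by
      rw [← cardR, h1, hXc]
    rcases LabSL.eq_or h2 (by
      rintro _ ⟨y, hy, rfl⟩
      refine ⟨⟨h, hh⟩ * y * ⟨h, hh⟩⁻¹, mem_subgroupOf.2 (hXh _ (mem_subgroupOf.1 hy)), ?_⟩
      change φ _ = LabSL.D * φ y * LabSL.D⁻¹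
      rw [map_mul, map_mul, map_inv, hφh]) with h3 | h3
    · left; rw [← h1, h3]
    · right; rw [← h1, h3]
  · intro y hy hyh
    obtain ⟨α, hα, hα2⟩ := conjR y hy
    have hyh' : y * h * y⁻¹ = h := by rw [hyh, mul_inv_cancel_right]
    obtain ⟨h5, h6⟩ := aut_of_fix α (by
      rw [← hφh, hα h hh (by rw [hyh']; exact hh)]
      congr 1
      exact Subtype.ext hyh')
    constructor
    · exact eq_of_le_of_card_five (hα2 _ _ (by rintro _ ⟨b, rfl⟩; exact h5 b)) (by rw [card_cg, cA]) cA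
    · exact eq_of_le_of_card_five (hα2 _ _ (by rintro _ ⟨b, rfl⟩; exact h6 b)) (by rw [card_cg, cB]) cB
  · intro y hy hyh
    obtain ⟨α, hα, hα2⟩ := conjR y hy
    obtain ⟨h5, h6⟩ := aut_of_inv α (by
      rw [← hφh, hα h hh (by rw [hyh]; exact inv_mem hh), ← map_inv]
      congr 1
      exact Subtype.ext hyh)
    constructor
    · exact eq_of_le_of_card_five (hα2 _ _ (by rintro _ ⟨b, rfl⟩; exact h5 b)) (by rw [card_cg, cA]) cB
    · exact eq_of_le_of_card_five (hα2 _ _ (by rintro _ ⟨b, rfl⟩; exact h6 b)) (by rw [card_cg, cB]) cA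

end Cfsg.Agent.LFourFive
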