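import Mathlib
import Cfsg.Agent.LFourFive.LabRoots

/-!
# The root groups (subgroups of order `5` normalised by `V = ⟨z, e⟩`) of a component `K`
-/

set_option autoImplicit false

namespace Cfsg.Agent.LFourFive

open Subgroup Cfsg.Agent.LFourR

universe u

variable {G : Type u} [Group G]

theorem cg_self_of_mem {H : Subgroup G} {x : G} (hx : x ∈ H) : cg x H = H :=
  mem_normalizer_iff_cg.1 (Subgroup.le_normalizer hx)

theorem cg_self_of_comm {H : Subgroup G} {x : G} (hx : ∀ y ∈ H, x * y = y * x) : cg x H = H := by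
  rw [← mem_normalizer_iff_cg, mem_normalizer_iff]
  intro y
  constructor
  · intro hy
    rw [hx y hy, mul_inv_cancel_right]
    exact hy
  · intro hy
    have h1 := hx _ hy
    have h2 : x * y * x⁻¹ = y := by
      rw [inv_mul_cancel_right] at h1
      exact mul_left_cancel h1
    rwa [h2] at hy

theorem cg_inj {x : G} {H K : Subgroup G} (h : cg x H = cg x K) : H = K := by
  rw [← cg_inv_eq h, ← cg_mul, inv_mul_cancel, cg_one]

theorem cg_mono {x : G} {H K : Subgroup G} (h : H ≤ K) : cg x H ≤ cg x K := Subgroup.map_mono h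

theorem cg_sup (x : G) (H K : Subgroup G) : cg x (H ⊔ K) = cg x H ⊔ cg x K := Subgroup.map_sup _ _ _

theorem cg_inv_cg (x : G) (H : Subgroup G) : cg x (cg x⁻¹ H) = H := by
  rw [← cg_mul, mul_inv_cancel, cg_one]

theorem cg_cg_inv (x : G) (H : Subgroup G) : cg x⁻¹ (cg x H) = H := by
  rw [← cg_mul, inv_mul_cancel, cg_one]

/-- `P` is a root group of `K` -/
structure RR (z e : G) (K P : Subgroup G) : Prop where
  le : P ≤ K
  card : Nat.card P = 5
  nz : cg z P = P
  ne : cg e P = P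

variable {z e : G} {U K P Q : Subgroup G}

theorem RR.vv (h : RR z e K P) {v : G} (hv : v ∈ closure ({z, e} : Set G)) : cg v P = P := by
  have h1 : closure ({z, e} : Set G) ≤ normalizer (P : Set G) := by
    rw [closure_le]
    rintro x (rfl | rfl)
    · exact mem_normalizer_iff_cg.2 h.nz
    · exact mem_normalizer_iff_cg.2 h.ne
  exact mem_normalizer_iff_cg.1 (h1 hv)

theorem RR.conj (h : RR z e K P) {x : G} (hx : cg x (closure ({z, e} : Set G)) = closure {z, e}) :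
    RR z e (cg x K) (cg x P) := by
  have key : ∀ v ∈ closure ({z, e} : Set G), cg v (cg x P) = cg x P := by
    intro v hv
    rw [← hx, mem_cg] at hv
    have h1 : v * x = x * (x⁻¹ * v * x) := by group
    rw [← cg_mul, h1, cg_mul, h.vv hv]
  exact
    { le := cg_mono h.le
      card := by rw [card_cg, h.card]
      nz := key z (subset_closure (by simp))
      ne := key e (subset_closure (by simp)) }

theorem RR.conj_inv {x : G} (h : RR z e (cg x K) P) (hx : cg x (closure ({z, e} : Set G)) = closure {z, e}) :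
    RR z e K (cg x⁻¹ P) := by
  have h1 := h.conj (x := x⁻¹) (cg_inv_eq hx)
  rwa [cg_cg_inv] at h1

theorem RR.inf (h : RR z e K P) (hQ : P ≤ Q) : RR z e Q P := ⟨hQ, h.card, h.nz, h.ne⟩

/-- `K` has exactly two root groups, they generate it, and `U` fixes them -/
structure Good (z e : G) (U K : Subgroup G) : Prop where
  sup : ∀ P Q, RR z e K P → RR z e K Q → P ≠ Q → P ⊔ Q = K
  two : ∀ P Q S, RR z e K P → RR z e K Q → RR z e K S → P ≠ Q → S = P ∨ S = Q
  fix : ∀ u ∈ U, ∀ P, RR z e K P → cg u P = P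
  ex : ∃ P Q, RR z e K P ∧ RR z e K Q ∧ P ≠ Q
  iso : Nonempty (K ≃* Matrix.SpecialLinearGroup (Fin 2) (ZMod 5))

theorem Good.conj (h : Good z e U K) {x : G} (hx : cg x (closure ({z, e} : Set G)) = closure {z, e})
    (hU : cg x U = U) : Good z e U (cg x K) := by
  refine ⟨?_, ?_, ?_, ?_, ?_⟩
  · intro P Q hP hQ hPQ
    have h1 := h.sup _ _ (hP.conj_inv hx) (hQ.conj_inv hx) (fun h2 => hPQ (cg_inj h2))
    rw [← h1, cg_sup, cg_inv_cg, cg_inv_cg]
  · intro P Q S hP hQ hS hPQ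
    rcases h.two _ _ _ (hP.conj_inv hx) (hQ.conj_inv hx) (hS.conj_inv hx) (fun h2 => hPQ (cg_inj h2)) with h1 | h1
    · exact Or.inl (cg_inj h1)
    · exact Or.inr (cg_inj h1)
  · intro u hu P hP
    rw [← hU, mem_cg] at hu
    have h1 := h.fix _ hu _ (hP.conj_inv hx)
    apply cg_inj (x := x⁻¹)
    rw [← cg_mul] at h1 ⊢
    rw [← h1]
    congr 1
    group
  · obtain ⟨P, Q, hP, hQ, hPQ⟩ := h.ex
    exact ⟨_, _, hP.conj hx, hQ.conj hx, fun h2 => hPQ (cg_inj h2)⟩
  · obtain ⟨f⟩ := h.iso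
    exact ⟨(cgEquiv x K).symm.trans f⟩

section roots

variable {h : G} {L A B : Subgroup G}

theorem Roots.eq_or (r : Roots h L A B) (heL : ∀ l ∈ L, e * l * e⁻¹ = h * l * h⁻¹) (hP : RR z e L P) : P = A ∨ P = B := by
  refine r.only P hP.le hP.card ?_
  intro x hx
  rw [← heL x (hP.le hx)]
  have h1 : e * x * e⁻¹ ∈ cg e P := conj_mem_cg hx
  rwa [hP.ne] at h1

theorem Roots.rr_of (hX : P ≤ L) (hc : Nat.card P = 5) (hinv : ∀ x ∈ P, h * x * h⁻¹ = x⁻¹)
    (hzL : ∀ l ∈ L, z * l = l * z) (heL : ∀ l ∈ L, e * l * e⁻¹ = h * l * h⁻¹) : RR z e L P := by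
  refine ⟨hX, hc, cg_self_of_comm (fun y hy => hzL y (hX hy)), ?_⟩
  refine eq_of_le_of_card_five ?_ (by rw [card_cg, hc]) hc
  rintro _ ⟨y, hy, rfl⟩
  change e * y * e⁻¹ ∈ P
  rw [heL y (hX hy), hinv y hy]
  exact inv_mem hy

theorem Roots.rrA (r : Roots h L A B) (hzL : ∀ l ∈ L, z * l = l * z) (heL : ∀ l ∈ L, e * l * e⁻¹ = h * l * h⁻¹) :
    RR z e L A := Roots.rr_of r.A_le r.cardA r.invA hzL heL

theorem Roots.rrB (r : Roots h L A B) (hzL : ∀ l ∈ L, z * l = l * z) (heL : ∀ l ∈ L, e * l * e⁻¹ = h * l * h⁻¹) :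
    RR z e L B := Roots.rr_of r.B_le r.cardB r.invB hzL heL

theorem Roots.good (r : Roots h L A B) (hzL : ∀ l ∈ L, z * l = l * z) (heL : ∀ l ∈ L, e * l * e⁻¹ = h * l * h⁻¹)
    (hUL : ∀ u ∈ U, cg u L = L) (hUh : ∀ u ∈ U, u * h = h * u)
    (iso : Nonempty (L ≃* Matrix.SpecialLinearGroup (Fin 2) (ZMod 5))) : Good z e U L := by
  refine ⟨?_, ?_, ?_, ⟨A, B, r.rrA hzL heL, r.rrB hzL heL, r.ne⟩, iso⟩
  · intro P Q hP hQ hPQ
    rcases r.eq_or heL hP with rfl | rfl <;> rcases r.eq_or heL hQ with rfl | rfl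
    · exact absurd rfl hPQ
    · exact r.sup
    · rw [sup_comm]; exact r.sup
    · exact absurd rfl hPQ
  · intro P Q S hP hQ hS hPQ
    rcases r.eq_or heL hP with rfl | rfl <;> rcases r.eq_or heL hQ with rfl | rfl
    · exact absurd rfl hPQ
    · exact r.eq_or heL hS
    · exact (r.eq_or heL hS).symm
    · exact absurd rfl hPQ
  · intro u hu P hP
    obtain ⟨h1, h2⟩ := r.fix u (hUL u hu) (hUh u hu)
    rcases r.eq_or heL hP with rfl | rfl
    · exact h1
    · exact h2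

theorem Roots.move (r : Roots h L A B) (heL : ∀ l ∈ L, e * l * e⁻¹ = h * l * h⁻¹) {y : G} (hy : cg y L = L)
    (hyh : y * h * y⁻¹ = h⁻¹) (hP : RR z e L P) : cg y P ≠ P := by
  obtain ⟨h1, h2⟩ := r.swp y hy hyh
  rcases r.eq_or heL hP with rfl | rfl
  · rw [h1]; exact r.ne.symm
  · rw [h2]; exact r.ne

theorem Roots.inv (r : Roots h L A B) (heL : ∀ l ∈ L, e * l * e⁻¹ = h * l * h⁻¹) (hP : RR z e L P) :
    ∀ x ∈ P, e * x * e⁻¹ = x⁻¹ := by
  intro x hx
  rw [heL x (hP.le hx)]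
  rcases r.eq_or heL hP with rfl | rfl
  · exact r.invA x hx
  · exact r.invB x hx

end roots

end Cfsg.Agent.LFourFive
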