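import Mathlib
import Cfsg.Agent.LFourFive.Inp
import Cfsg.Agent.LFourFive.LabGood

/-!
# Elementary consequences of `InpFive`
-/

set_option autoImplicit false
set_option linter.unusedSectionVars false

namespace Cfsg.Agent.LFourFive

open Subgroup Cfsg.Agent.LFourR

universe u

variable {G : Type u} [Group G] {z e ρ n1 n2 h1 h2 : G} {L1 L2 U : Subgroup G}

theorem conj_mul3 (s a b : G) : s * (a * b) * s⁻¹ = s * a * s⁻¹ * (s * b * s⁻¹) := by group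

namespace InpFive

variable (h : InpFive z e ρ n1 n2 h1 h2 L1 L2 U)

include h

theorem z_mem2 : z ∈ L2 := by rw [← h.h2_sq]; exact mul_mem h.h2_mem h.h2_mem

theorem z_L1 : ∀ l ∈ L1, z * l = l * z := fun l hl => (h.comm l hl z h.z_mem2).symm

theorem z_L2 : ∀ l ∈ L2, z * l = l * z := fun l hl => h.comm z h.z_mem l hl

theorem h1h2 : h1 * h2 = h2 * h1 := h.comm _ h.h1_mem _ h.h2_mem

theorem h1_e : h1 * e = e * h1 := by rw [h.e_eq, mul_assoc, ← h.h1h2]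

theorem h2_e : h2 * e = e * h2 := by rw [h.e_eq, ← mul_assoc, ← h.h1h2]

theorem h1_U : h1 ∈ U := h.T1_le _ h.h1_mem h.h1_e

theorem h2_U : h2 ∈ U := h.T2_le _ h.h2_mem h.h2_e

theorem z_U : z ∈ U := by rw [← h.h1_sq]; exact mul_mem h.h1_U h.h1_U

theorem e_U : e ∈ U := by rw [h.e_eq]; exact mul_mem h.h1_U h.h2_U

theorem U_z {u : G} (hu : u ∈ U) : u * z = z * u := h.U_comm u hu z h.z_U

theorem U_e {u : G} (hu : u ∈ U) : u * e = e * u := h.U_comm u hu e h.e_U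

theorem h1_inv : h1⁻¹ = z * h1 := by
  rw [inv_eq_iff_mul_eq_one, ← mul_assoc, ← h.z_L1 _ h.h1_mem, mul_assoc, h.h1_sq, h.zz]

theorem h2_inv : h2⁻¹ = z * h2 := by
  rw [inv_eq_iff_mul_eq_one, ← mul_assoc, ← h.z_L2 _ h.h2_mem, mul_assoc, h.h2_sq, h.zz]

theorem h1_ne : h1⁻¹ ≠ h1 := by
  intro h3
  apply h.z_ne
  rw [← h.h1_sq]
  nth_rewrite 2 [← h3]
  exact mul_inv_cancel _

theorem h2_ne : h2⁻¹ ≠ h2 := by
  intro h3
  apply h.z_ne
  rw [← h.h2_sq]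
  nth_rewrite 2 [← h3]
  exact mul_inv_cancel _

theorem h1_notMem : h1 ∉ L2 := by
  intro h3
  have h4 := h.comm _ h.n1_mem _ h3
  have h5 := h.n1_h1
  rw [h4, mul_inv_cancel_right] at h5
  exact h.h1_ne h5.symm

theorem h2_notMem : h2 ∉ L1 := by
  intro h3
  have h4 := h.comm _ h3 _ h.n2_mem
  have h5 := h.n2_h2
  rw [← h4, mul_inv_cancel_right] at h5
  exact h.h2_ne h5.symm

theorem L_ne : L1 ≠ L2 := fun h3 => h.h1_notMem (h3 ▸ h.h1_mem)

theorem perm' {x : G} (hx : x * z = z * x) (hx1 : cg x L1 = L1) : cg x L2 = L2 := by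
  rcases h.perm x hx with ⟨-, h3⟩ | ⟨h3, -⟩
  · exact h3
  · exact absurd (hx1.symm.trans h3) h.L_ne

theorem perm_swap {x : G} (hx : x * z = z * x) (hx1 : cg x L1 = L2) : cg x L2 = L1 := by
  rcases h.perm x hx with ⟨h3, -⟩ | ⟨-, h3⟩
  · exact absurd (h3.symm.trans hx1) h.L_ne
  · exact h3

theorem U_L1 {u : G} (hu : u ∈ U) : cg u L1 = L1 := by
  rcases h.perm u (h.U_z hu) with ⟨h3, -⟩ | ⟨h3, -⟩
  · exact h3
  · exfalso
    have h4 : u * h1 * u⁻¹ ∈ L2 := by rw [← h3]; exact conj_mem_cg h.h1_mem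
    rw [h.U_comm u hu _ h.h1_U, mul_inv_cancel_right] at h4
    exact h.h1_notMem h4

theorem U_L2 {u : G} (hu : u ∈ U) : cg u L2 = L2 := h.perm' (h.U_z hu) (h.U_L1 hu)

theorem n1_z : n1 * z = z * n1 := (h.z_L1 _ h.n1_mem).symm

theorem n2_z : n2 * z = z * n2 := (h.z_L2 _ h.n2_mem).symm

theorem n1n2 : n1 * n2 = n2 * n1 := h.comm _ h.n1_mem _ h.n2_mem

theorem n1_h2 : n1 * h2 = h2 * n1 := h.comm _ h.n1_mem _ h.h2_mem

theorem h1_n2 : h1 * n2 = n2 * h1 := h.comm _ h.h1_mem _ h.n2_mem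

theorem n1_e : n1 * e * n1⁻¹ = z * e := by
  rw [h.e_eq, conj_mul3, h.n1_h1, h.n1_h2, mul_inv_cancel_right, h.h1_inv, mul_assoc]

theorem n2_e : n2 * e * n2⁻¹ = z * e := by
  rw [h.e_eq, conj_mul3, h.n2_h2, ← h.h1_n2, mul_inv_cancel_right, h.h2_inv, ← mul_assoc, ← mul_assoc,
    h.z_L1 _ h.h1_mem]

theorem n1_L1 : cg n1 L1 = L1 := cg_self_of_mem h.n1_mem

theorem n2_L2 : cg n2 L2 = L2 := cg_self_of_mem h.n2_mem

theorem n1_L2 : cg n1 L2 = L2 := cg_self_of_comm (fun y hy => h.comm _ h.n1_mem y hy)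

theorem n2_L1 : cg n2 L1 = L1 := cg_self_of_comm (fun y hy => (h.comm y hy _ h.n2_mem).symm)

theorem ez : e * z = z * e := h.ze.symm

theorem z_inv : z⁻¹ = z := inv_eq_of_mul_eq_one_left h.zz

theorem e_inv : e⁻¹ = e := inv_eq_of_mul_eq_one_left h.ee

theorem e_L1 : ∀ l ∈ L1, e * l * e⁻¹ = h1 * l * h1⁻¹ := by
  intro l hl
  have h3 := h.comm l hl _ h.h2_mem
  rw [h.e_eq, mul_inv_rev, mul_assoc h1, ← h3, ← mul_assoc, ← mul_assoc, mul_inv_cancel_right]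

theorem e_L2 : ∀ l ∈ L2, e * l * e⁻¹ = h2 * l * h2⁻¹ := by
  intro l hl
  have h3 := h.comm _ h.h1_mem l hl
  rw [h.e_eq, h.h1h2, mul_inv_rev, mul_assoc h2, h3, ← mul_assoc, ← mul_assoc, mul_inv_cancel_right]

/-- `V`-normalising elements -/
theorem nv {x : G} {a b a' b' : G} (e1 : x * z * x⁻¹ = a) (e2 : x * e * x⁻¹ = b) (e3 : x⁻¹ * z * x = a')
    (e4 : x⁻¹ * e * x = b') (ha : a ∈ closure ({z, e} : Set G)) (hb : b ∈ closure ({z, e} : Set G))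
    (ha' : a' ∈ closure ({z, e} : Set G)) (hb' : b' ∈ closure ({z, e} : Set G)) :
    cg x (closure ({z, e} : Set G)) = closure {z, e} := by
  apply le_antisymm
  · rw [cg, map_le_iff_le_comap, closure_le]
    intro y hy
    have h3 : x * y * x⁻¹ ∈ closure ({z, e} : Set G) := by
      rcases hy with hy | hy
      · rw [hy, e1]; exact ha
      · rw [hy, e2]; exact hb
    exact h3
  · rw [closure_le]
    intro y hy
    have h3 : x⁻¹ * y * x ∈ closure ({z, e} : Set G) := by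
      rcases hy with hy | hy
      · rw [hy, e3]; exact ha'
      · rw [hy, e4]; exact hb'
    exact mem_cg.2 h3

theorem z_V : z ∈ closure ({z, e} : Set G) := subset_closure (by simp)

theorem e_V : e ∈ closure ({z, e} : Set G) := subset_closure (by simp)

theorem ze_V : z * e ∈ closure ({z, e} : Set G) := mul_mem h.z_V h.e_V

theorem ze_ze : z * e * (z * e) = 1 := by
  calc z * e * (z * e) = z * (e * z) * e := by group
    _ = z * z * (e * e) := by rw [h.ez]; group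
    _ = 1 := by rw [h.zz, h.ee, mul_one]

theorem ρ_ze : ρ * (z * e) * ρ⁻¹ = z := by
  rw [conj_mul3, h.ρ_z, h.ρ_e, h.ze, ← mul_assoc, h.ee, one_mul]

theorem ρ_inv_e : ρ⁻¹ * e * ρ = z := by rw [← h.ρ_z]; group

theorem ρ_inv_z : ρ⁻¹ * z * ρ = z * e := by nth_rewrite 1 [← h.ρ_ze]; group

theorem ρ_V : cg ρ (closure ({z, e} : Set G)) = closure {z, e} :=
  h.nv h.ρ_z h.ρ_e h.ρ_inv_z h.ρ_inv_e h.e_V h.ze_V h.ze_V h.z_V

theorem comm_V {x : G} (hx : x * z = z * x) (hx' : x * e = e * x) : cg x (closure ({z, e} : Set G)) = closure {z, e} := by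
  refine h.nv (a := z) (b := e) (a' := z) (b' := e) ?_ ?_ ?_ ?_ h.z_V h.e_V h.z_V h.e_V
  · rw [hx, mul_inv_cancel_right]
  · rw [hx', mul_inv_cancel_right]
  · rw [mul_assoc, ← hx, inv_mul_cancel_left]
  · rw [mul_assoc, ← hx', inv_mul_cancel_left]

theorem n1_ze : n1 * (z * e) * n1⁻¹ = e := by
  rw [conj_mul3, h.n1_z, mul_inv_cancel_right, h.n1_e, ← mul_assoc, h.zz, one_mul]

theorem n2_ze : n2 * (z * e) * n2⁻¹ = e := by
  rw [conj_mul3, h.n2_z, mul_inv_cancel_right, h.n2_e, ← mul_assoc, h.zz, one_mul]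

theorem n1_V : cg n1 (closure ({z, e} : Set G)) = closure {z, e} := by
  refine h.nv (a := z) (a' := z) (b' := z * e) ?_ h.n1_e ?_ ?_ h.z_V h.ze_V h.z_V h.ze_V
  · rw [h.n1_z, mul_inv_cancel_right]
  · rw [mul_assoc, ← h.n1_z, inv_mul_cancel_left]
  · nth_rewrite 1 [← h.n1_ze]; group

theorem n2_V : cg n2 (closure ({z, e} : Set G)) = closure {z, e} := by
  refine h.nv (a := z) (a' := z) (b' := z * e) ?_ h.n2_e ?_ ?_ h.z_V h.ze_V h.z_V h.ze_V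
  · rw [h.n2_z, mul_inv_cancel_right]
  · rw [mul_assoc, ← h.n2_z, inv_mul_cancel_left]
  · nth_rewrite 1 [← h.n2_ze]; group

theorem c_z : n1 * n2 * z = z * (n1 * n2) := by
  rw [mul_assoc, h.n2_z, ← mul_assoc, h.n1_z, mul_assoc]

theorem c_e : n1 * n2 * e = e * (n1 * n2) := by
  have h3 : n1 * n2 * e * (n1 * n2)⁻¹ = e := by
    calc n1 * n2 * e * (n1 * n2)⁻¹ = n1 * (n2 * e * n2⁻¹) * n1⁻¹ := by group
      _ = e := by rw [h.n2_e, h.n1_ze]
  exact mul_inv_eq_iff_eq_mul.1 h3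

theorem c_V : cg (n1 * n2) (closure ({z, e} : Set G)) = closure {z, e} := h.comm_V h.c_z h.c_e

theorem c_c : n1 * n2 * (n1 * n2) = 1 := by
  calc n1 * n2 * (n1 * n2) = n1 * (n2 * n1) * n2 := by group
    _ = n1 * n1 * (n2 * n2) := by rw [← h.n1n2]; group
    _ = 1 := by rw [h.n1_sq, h.n2_sq, h.zz]

theorem c_L1 : cg (n1 * n2) L1 = L1 := by rw [cg_mul, h.n2_L1, h.n1_L1]

theorem c_L2 : cg (n1 * n2) L2 = L2 := by rw [cg_mul, h.n2_L2, h.n1_L2]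

/-- elements which invert both `h1`, `h2` or centralise both -/
theorem U_or {x : G} (hxz : x * z = z * x) (hxe : x * e = e * x) (hx1 : cg x L1 = L1) : x ∈ U ∨ n1 * n2 * x ∈ U := by
  obtain ⟨l1, hl1, l2, hl2, u, hu, rfl⟩ := h.str x hxz hx1
  have hl12 : l1 * l2 = l2 * l1 := h.comm _ hl1 _ hl2
  -- `l1 l2` commutes with `e`
  have h3 : l1 * l2 * e = e * (l1 * l2) := by
    have h4 := h.U_e hu
    have h5 : l1 * l2 * e * u = e * (l1 * l2) * u := by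
      rw [mul_assoc _ e u, ← h4, ← mul_assoc, hxe, mul_assoc e]
    exact mul_right_cancel h5
  have ha : l1 * h2 = h2 * l1 := h.comm _ hl1 _ h.h2_mem
  have hb : h1 * l2 = l2 * h1 := h.comm _ h.h1_mem _ hl2
  -- the element `k = h1⁻¹ l1 h1 l1⁻¹` lies in `L1 ∩ L2`
  have h5 : l1 * h1 * l1⁻¹ * (l2 * h2 * l2⁻¹) = h1 * h2 := by
    have h6 : l1 * l2 * e * (l1 * l2)⁻¹ = e := by rw [h3, mul_inv_cancel_right]
    rw [h.e_eq] at h6
    calc l1 * h1 * l1⁻¹ * (l2 * h2 * l2⁻¹) = l1 * h1 * (l1⁻¹ * (l2 * h2 * l2⁻¹)) := by group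
      _ = l1 * h1 * ((l2 * h2 * l2⁻¹) * l1⁻¹) := by
          rw [h.comm l1⁻¹ (inv_mem hl1) _ (mul_mem (mul_mem hl2 h.h2_mem) (inv_mem hl2))]
      _ = l1 * (h1 * l2) * h2 * l2⁻¹ * l1⁻¹ := by group
      _ = l1 * (l2 * h1) * h2 * l2⁻¹ * l1⁻¹ := by rw [hb]
      _ = l1 * l2 * (h1 * h2) * (l1 * l2)⁻¹ := by group
      _ = h1 * h2 := h6
  have hk : h1⁻¹ * (l1 * h1 * l1⁻¹) = h2 * (l2 * h2 * l2⁻¹)⁻¹ := by
    rw [inv_mul_eq_iff_eq_mul, ← mul_assoc, eq_mul_inv_iff_mul_eq]; exact h5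
  have hk1 : h1⁻¹ * (l1 * h1 * l1⁻¹) ∈ L1 :=
    mul_mem (inv_mem h.h1_mem) (mul_mem (mul_mem hl1 h.h1_mem) (inv_mem hl1))
  have hk2 : h1⁻¹ * (l1 * h1 * l1⁻¹) ∈ L2 := by
    rw [hk]; exact mul_mem h.h2_mem (inv_mem (mul_mem (mul_mem hl2 h.h2_mem) (inv_mem hl2)))
  set k := h1⁻¹ * (l1 * h1 * l1⁻¹) with hkdef
  have e1 : l1 * h1 * l1⁻¹ = h1 * k := by rw [hkdef]; group
  have hkh : k * h1 = h1 * k := h.comm _ h.h1_mem _ hk2 |>.symm
  have e2 : l2 * h2 * l2⁻¹ = k⁻¹ * h2 := by rw [hk]; group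
  -- `k² = 1`
  have hkk : k * k = 1 := by
    have h7 : (l1 * h1 * l1⁻¹) * (l1 * h1 * l1⁻¹) = z := by
      calc (l1 * h1 * l1⁻¹) * (l1 * h1 * l1⁻¹) = l1 * (h1 * h1) * l1⁻¹ := by group
        _ = z := by rw [h.h1_sq, ← h.z_L1 _ hl1, mul_inv_cancel_right]
    rw [e1] at h7
    have h8 : h1 * k * (h1 * k) = h1 * h1 * (k * k) := by
      rw [mul_assoc, ← mul_assoc k, hkh]; group
    rw [h8, h.h1_sq] at h7
    exact mul_eq_left.1 h7
  have hk1z : k = 1 ∨ k = z := by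
    obtain ⟨f⟩ := h.iso1
    have hfact : Fact (Nat.Prime 5) := ⟨by norm_num⟩
    have key : ∀ (x : G) (hx : x ∈ L1), x * x = 1 → f ⟨x, hx⟩ = 1 ∨ f ⟨x, hx⟩ = -1 := by
      intro x hx hxx
      apply Cfsg.Agent.Lib.PSL2Inv.sq_eq_one LabSL.two_ne
      rw [← map_mul]
      have : (⟨x, hx⟩ : L1) * ⟨x, hx⟩ = 1 := Subtype.ext hxx
      rw [this, map_one]
    rcases key k hk1 hkk with h7 | h7
    · left
      rw [← map_one f] at h7
      exact congrArg Subtype.val (f.injective h7)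
    · right
      rcases key z h.z_mem h.zz with h8 | h8
      · rw [← map_one f] at h8
        exact absurd (congrArg Subtype.val (f.injective h8)) h.z_ne
      · rw [← h8] at h7
        exact congrArg Subtype.val (f.injective h7)
  rcases hk1z with hk0 | hk0
  · -- both centralise
    left
    rw [hk0, mul_one] at e1
    rw [hk0, inv_one, one_mul] at e2
    have f1 : l1 * h1 = h1 * l1 := mul_inv_eq_iff_eq_mul.1 e1
    have f2 : l2 * h2 = h2 * l2 := mul_inv_eq_iff_eq_mul.1 e2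
    have g1 : l1 ∈ U := h.T1_le _ hl1 (by rw [h.e_eq, ← mul_assoc, f1, mul_assoc, ha, mul_assoc])
    have g2 : l2 ∈ U := h.T2_le _ hl2 (by rw [h.e_eq, ← mul_assoc, ← hb, mul_assoc, f2, mul_assoc])
    exact mul_mem (mul_mem g1 g2) hu
  · -- both invert
    right
    have e3 : l1 * h1 * l1⁻¹ = h1⁻¹ := by rw [e1, hk0, h.h1_inv, h.z_L1 _ h.h1_mem]
    have e4 : l2 * h2 * l2⁻¹ = h2⁻¹ := by rw [e2, hk0, h.h2_inv, h.z_inv]
    have f1 : n1 * l1 * h1 = h1 * (n1 * l1) := by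
      have h7 : n1 * l1 * h1 * (n1 * l1)⁻¹ = h1 := by
        calc n1 * l1 * h1 * (n1 * l1)⁻¹ = n1 * (l1 * h1 * l1⁻¹) * n1⁻¹ := by group
          _ = (n1 * h1 * n1⁻¹)⁻¹ := by rw [e3]; group
          _ = h1 := by rw [h.n1_h1, inv_inv]
      exact mul_inv_eq_iff_eq_mul.1 h7
    have f2 : n2 * l2 * h2 = h2 * (n2 * l2) := by
      have h7 : n2 * l2 * h2 * (n2 * l2)⁻¹ = h2 := by
        calc n2 * l2 * h2 * (n2 * l2)⁻¹ = n2 * (l2 * h2 * l2⁻¹) * n2⁻¹ := by group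
          _ = (n2 * h2 * n2⁻¹)⁻¹ := by rw [e4]; group
          _ = h2 := by rw [h.n2_h2, inv_inv]
      exact mul_inv_eq_iff_eq_mul.1 h7
    have m1 : n1 * l1 ∈ L1 := mul_mem h.n1_mem hl1
    have m2 : n2 * l2 ∈ L2 := mul_mem h.n2_mem hl2
    have g1 : n1 * l1 ∈ U := h.T1_le _ m1 (by
      rw [h.e_eq, ← mul_assoc, f1, mul_assoc, h.comm _ m1 _ h.h2_mem, mul_assoc])
    have g2 : n2 * l2 ∈ U := h.T2_le _ m2 (by
      rw [h.e_eq, ← mul_assoc, ← h.comm _ h.h1_mem _ m2, mul_assoc, f2, mul_assoc])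
    have e5 : n1 * n2 * (l1 * l2 * u) = n1 * l1 * (n2 * l2) * u := by
      have h7 : n2 * l1 = l1 * n2 := (h.comm _ hl1 _ h.n2_mem).symm
      calc n1 * n2 * (l1 * l2 * u) = n1 * (n2 * l1) * l2 * u := by group
        _ = n1 * (l1 * n2) * l2 * u := by rw [h7]
        _ = _ := by group
    rw [e5]
    exact mul_mem (mul_mem g1 g2) hu

end InpFive

end Cfsg.Agent.LFourFive
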