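import Mathlib
import Cfsg.Agent.LFourFive.LabInp

/-!
# The six components and the action of `n1`, `n2`, `g`
-/

set_option autoImplicit false
set_option linter.unusedSectionVars false

namespace Cfsg.Agent.LFourFive

open Subgroup Cfsg.Agent.LFourR

universe u

variable {G : Type u} [Group G] {z e ρ n1 n2 h1 h2 : G} {L1 L2 U : Subgroup G}

namespace InpFive

variable (h : InpFive z e ρ n1 n2 h1 h2 L1 L2 U)

include h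

theorem U_K02 {u : G} (hu : u ∈ U) : cg u (cg ρ L1) = cg ρ L1 := by
  have h3 : ρ⁻¹ * u * ρ ∈ U := by rw [← h.U_ρ, mem_cg] at hu; exact hu
  have h4 : u * ρ = ρ * (ρ⁻¹ * u * ρ) := by group
  rw [← cg_mul, h4, cg_mul, h.U_L1 h3]

theorem U_K13 {u : G} (hu : u ∈ U) : cg u (cg ρ L2) = cg ρ L2 := by
  have h3 : ρ⁻¹ * u * ρ ∈ U := by rw [← h.U_ρ, mem_cg] at hu; exact hu
  have h4 : u * ρ = ρ * (ρ⁻¹ * u * ρ) := by group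
  rw [← cg_mul, h4, cg_mul, h.U_L2 h3]

theorem w_eq : ∃ u ∈ U, ρ⁻¹ * (n1 * n2) * ρ = u * (n1 * n2 * (ρ * (n1 * n2) * ρ⁻¹)) :=
  ⟨_, h.c_rot, by group⟩

theorem w_eq' : ∃ u ∈ U, ρ * (ρ * (n1 * n2) * ρ⁻¹) * ρ⁻¹ = u * (n1 * n2 * (ρ * (n1 * n2) * ρ⁻¹)) :=
  ⟨_, h.w_rot, by group⟩

/-- conjugation of the elements of `V` by `w` -/
theorem w_z : ρ * (n1 * n2) * ρ⁻¹ * z = z * (ρ * (n1 * n2) * ρ⁻¹) := by
  have h3 : n1 * n2 * (z * e) = z * e * (n1 * n2) := by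
    rw [← mul_assoc, h.c_z, mul_assoc, h.c_e, ← mul_assoc]
  have h4 : z = ρ * (z * e) * ρ⁻¹ := h.ρ_ze.symm
  calc ρ * (n1 * n2) * ρ⁻¹ * z = ρ * (n1 * n2) * ρ⁻¹ * (ρ * (z * e) * ρ⁻¹) := by rw [← h4]
    _ = ρ * (n1 * n2 * (z * e)) * ρ⁻¹ := by group
    _ = ρ * (z * e) * ρ⁻¹ * (ρ * (n1 * n2) * ρ⁻¹) := by rw [h3]; group
    _ = _ := by rw [← h4]

theorem w_e : ρ * (n1 * n2) * ρ⁻¹ * e = e * (ρ * (n1 * n2) * ρ⁻¹) := by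
  have h4 : e = ρ * z * ρ⁻¹ := h.ρ_z.symm
  calc ρ * (n1 * n2) * ρ⁻¹ * e = ρ * (n1 * n2) * ρ⁻¹ * (ρ * z * ρ⁻¹) := by rw [← h4]
    _ = ρ * (n1 * n2 * z) * ρ⁻¹ := by group
    _ = ρ * z * ρ⁻¹ * (ρ * (n1 * n2) * ρ⁻¹) := by rw [h.c_z]; group
    _ = _ := by rw [← h4]

theorem w_L1 : cg (ρ * (n1 * n2) * ρ⁻¹) L1 = L2 := h.swap

theorem w_L2 : cg (ρ * (n1 * n2) * ρ⁻¹) L2 = L1 := h.perm_swap h.w_z h.swap

theorem c_K02 : cg (n1 * n2) (cg ρ L1) = cg ρ L2 := by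
  obtain ⟨u, hu, h3⟩ := h.w_eq
  have h4 : n1 * n2 * ρ = ρ * (ρ⁻¹ * (n1 * n2) * ρ) := by group
  rw [← cg_mul, h4, cg_mul, h3, cg_mul, cg_mul, h.w_L1, h.c_L2, h.U_L2 hu]

theorem c_K13 : cg (n1 * n2) (cg ρ L2) = cg ρ L1 := by
  obtain ⟨u, hu, h3⟩ := h.w_eq
  have h4 : n1 * n2 * ρ = ρ * (ρ⁻¹ * (n1 * n2) * ρ) := by group
  rw [← cg_mul, h4, cg_mul, h3, cg_mul, cg_mul, h.w_L2, h.c_L1, h.U_L1 hu]

theorem w_K02 : cg (ρ * (n1 * n2) * ρ⁻¹) (cg ρ L1) = cg ρ L1 := by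
  have h4 : ρ * (n1 * n2) * ρ⁻¹ * ρ = ρ * (n1 * n2) := by group
  rw [← cg_mul, h4, cg_mul, h.c_L1]

/-! `K12 = cg n1 (cg ρ L1)`, `K03 = cg n1 (cg ρ L2)` -/

theorem n1_K12 : cg n1 (cg n1 (cg ρ L1)) = cg ρ L1 := by
  rw [← cg_mul n1 n1, h.n1_sq, h.U_K02 h.z_U]

theorem n1_K03 : cg n1 (cg n1 (cg ρ L2)) = cg ρ L2 := by
  rw [← cg_mul n1 n1, h.n1_sq, h.U_K13 h.z_U]

theorem n2_K02 : cg n2 (cg ρ L1) = cg n1 (cg ρ L2) := by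
  have h3 : n2 = n1⁻¹ * (n1 * n2) := by group
  rw [h3, cg_mul, h.c_K02]
  exact cg_inv_eq h.n1_K03

theorem n2_K13 : cg n2 (cg ρ L2) = cg n1 (cg ρ L1) := by
  have h3 : n2 = n1⁻¹ * (n1 * n2) := by group
  rw [h3, cg_mul, h.c_K13]
  exact cg_inv_eq h.n1_K12

theorem n2_K12 : cg n2 (cg n1 (cg ρ L1)) = cg ρ L2 := by
  rw [← h.n2_K13, ← cg_mul n2 n2, h.n2_sq, h.U_K13 h.z_U]

theorem n2_K03 : cg n2 (cg n1 (cg ρ L2)) = cg ρ L1 := by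
  rw [← h.n2_K02, ← cg_mul n2 n2, h.n2_sq, h.U_K02 h.z_U]

theorem c_K12 : cg (n1 * n2) (cg n1 (cg ρ L1)) = cg n1 (cg ρ L2) := by
  rw [cg_mul, h.n2_K12]

theorem c_K03 : cg (n1 * n2) (cg n1 (cg ρ L2)) = cg n1 (cg ρ L1) := by
  rw [cg_mul, h.n2_K03]

/-- `ρ²` maps `L1`, `L2` to `K12`, `K03` -/
theorem ρρ : (cg (ρ * ρ) L1 = cg n1 (cg ρ L1) ∧ cg (ρ * ρ) L2 = cg n1 (cg ρ L2)) ∨
    (cg (ρ * ρ) L1 = cg n1 (cg ρ L2) ∧ cg (ρ * ρ) L2 = cg n1 (cg ρ L1)) := by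
  have hx : (n1 * ρ)⁻¹ * (ρ * ρ) * z = z * ((n1 * ρ)⁻¹ * (ρ * ρ)) := by
    have h3 : ρ * ρ * z * (ρ * ρ)⁻¹ = z * e := by
      calc ρ * ρ * z * (ρ * ρ)⁻¹ = ρ * (ρ * z * ρ⁻¹) * ρ⁻¹ := by group
        _ = z * e := by rw [h.ρ_z, h.ρ_e]
    have h4 : n1 * ρ * z * (n1 * ρ)⁻¹ = z * e := by
      calc n1 * ρ * z * (n1 * ρ)⁻¹ = n1 * (ρ * z * ρ⁻¹) * n1⁻¹ := by group
        _ = z * e := by rw [h.ρ_z, h.n1_e]
    calc (n1 * ρ)⁻¹ * (ρ * ρ) * z = (n1 * ρ)⁻¹ * (ρ * ρ * z * (ρ * ρ)⁻¹) * (ρ * ρ) := by group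
      _ = (n1 * ρ)⁻¹ * (n1 * ρ * z * (n1 * ρ)⁻¹) * (ρ * ρ) := by rw [h3, h4]
      _ = z * ((n1 * ρ)⁻¹ * (ρ * ρ)) := by group
  have e1 : ∀ L, cg (ρ * ρ) L = cg (n1 * ρ) (cg ((n1 * ρ)⁻¹ * (ρ * ρ)) L) := by
    intro L
    rw [← cg_mul]
    congr 1
    group
  rcases h.perm _ hx with ⟨h3, h4⟩ | ⟨h3, h4⟩
  · left
    rw [e1, e1 L2, h3, h4, cg_mul, cg_mul]
    exact ⟨rfl, rfl⟩
  · right
    rw [e1, e1 L2, h3, h4, cg_mul, cg_mul]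
    exact ⟨rfl, rfl⟩

theorem ρρ_U : cg (ρ * ρ) U = U := by rw [cg_mul, h.U_ρ, h.U_ρ]

theorem ρρ_V : cg (ρ * ρ) (closure ({z, e} : Set G)) = closure {z, e} := by rw [cg_mul, h.ρ_V, h.ρ_V]

theorem w_K13 : cg (ρ * (n1 * n2) * ρ⁻¹) (cg ρ L2) = cg ρ L2 := by
  have h4 : ρ * (n1 * n2) * ρ⁻¹ * ρ = ρ * (n1 * n2) := by group
  rw [← cg_mul, h4, cg_mul, h.c_L2]

theorem U_K12 {u : G} (hu : u ∈ U) : cg u (cg n1 (cg ρ L1)) = cg n1 (cg ρ L1) := by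
  have h3 : (ρ * ρ)⁻¹ * u * (ρ * ρ) ∈ U := by rw [← h.ρρ_U, mem_cg] at hu; exact hu
  have h4 : u * (ρ * ρ) = (ρ * ρ) * ((ρ * ρ)⁻¹ * u * (ρ * ρ)) := by group
  rcases h.ρρ with ⟨h5, h6⟩ | ⟨h5, h6⟩
  · rw [← h5, ← cg_mul, h4, cg_mul _ ((ρ * ρ)⁻¹ * u * (ρ * ρ)), h.U_L1 h3]
  · rw [← h6, ← cg_mul, h4, cg_mul _ ((ρ * ρ)⁻¹ * u * (ρ * ρ)), h.U_L2 h3]

theorem w_K12 : cg (ρ * (n1 * n2) * ρ⁻¹) (cg n1 (cg ρ L1)) = cg n1 (cg ρ L2) := by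
  obtain ⟨u, hu, h3⟩ := h.w_eq'
  set w := ρ * (n1 * n2) * ρ⁻¹ with hw
  have e1 : cg (ρ * w * ρ⁻¹) (cg n1 (cg ρ L1)) = cg n1 (cg ρ L1) := by
    have h4 : ρ * w * ρ⁻¹ * (ρ * ρ) = ρ * (w * ρ) := by group
    rcases h.ρρ with ⟨h5, h6⟩ | ⟨h5, h6⟩
    · rw [← h5, ← cg_mul, h4, cg_mul, cg_mul, h.w_K02, ← cg_mul]
    · rw [← h6, ← cg_mul, h4, cg_mul, cg_mul, h.w_K13, ← cg_mul]
  rw [h3, cg_mul, cg_mul] at e1
  have e2 : cg (n1 * n2) (cg w (cg n1 (cg ρ L1))) = cg n1 (cg ρ L1) := by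
    have h5 := cg_inv_eq e1
    rw [h.U_K12 (inv_mem hu)] at h5
    exact h5.symm
  have e3 := cg_inv_eq e2
  rw [← e3]
  exact cg_inv_eq h.c_K03

theorem K02_ne : cg ρ L1 ≠ cg ρ L2 := fun h3 => h.L_ne (cg_inj h3)

theorem K12_ne : cg n1 (cg ρ L1) ≠ cg n1 (cg ρ L2) := fun h3 => h.K02_ne (cg_inj h3)

/-- **(F)** -/
theorem mem_U {x : G} (hxz : x * z = z * x) (hxe : x * e = e * x) (hx1 : cg x L1 = L1)
    (hx2 : cg x (cg ρ L1) = cg ρ L1) : x ∈ U := by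
  rcases h.U_or hxz hxe hx1 with h3 | h3
  · exact h3
  · exfalso
    have h4 := h.U_K02 h3
    rw [cg_mul, hx2, h.c_K02] at h4
    exact h.K02_ne h4.symm

/-- the parity -/
theorem parity {x : G} (hxz : x * z = z * x) (hxe : x * e = e * x) (hx1 : cg x L1 = L1)
    (hx2 : cg x (cg ρ L1) = cg ρ L2) : cg x (cg n1 (cg ρ L1)) = cg n1 (cg ρ L2) := by
  rcases h.U_or hxz hxe hx1 with h3 | h3
  · exfalso
    have h4 := h.U_K02 h3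
    rw [hx2] at h4
    exact h.K02_ne h4.symm
  · have h4 := h.U_K12 h3
    rw [cg_mul] at h4
    have h5 : cg x (cg n1 (cg ρ L1)) = cg (n1 * n2)⁻¹ (cg n1 (cg ρ L1)) := by
      rw [← h4, cg_cg_inv, h4]
    rw [h5]
    exact cg_inv_eq h.c_K03

end InpFive

/-- the element `g` -/
structure Rot (z e ρ n1 n2 : G) (L1 L2 U : Subgroup G) (g : G) : Prop where
  g_z : g * z * g⁻¹ = e
  g_e : g * e * g⁻¹ = z * e
  g01 : cg g L1 = cg ρ L1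
  g23 : cg g L2 = cg ρ L2
  g02 : cg g (cg ρ L1) = cg n1 (cg ρ L1)
  g13 : cg g (cg ρ L2) = cg n1 (cg ρ L2)
  g12 : cg g (cg n1 (cg ρ L1)) = L1
  g03 : cg g (cg n1 (cg ρ L2)) = L2

namespace InpFive

variable (h : InpFive z e ρ n1 n2 h1 h2 L1 L2 U)

include h

theorem exists_rot : ∃ g, Rot z e ρ n1 n2 L1 L2 U g := by
  -- `g` up to the last condition
  have key : ∃ g, (g = ρ ∨ g = ρ * (n1 * n2)) ∧ cg g (cg ρ L1) = cg n1 (cg ρ L1) ∧ cg g (cg ρ L2) = cg n1 (cg ρ L2) := by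
    rcases h.ρρ with ⟨h5, h6⟩ | ⟨h5, h6⟩
    · exact ⟨ρ, Or.inl rfl, by rw [← cg_mul, h5], by rw [← cg_mul, h6]⟩
    · refine ⟨ρ * (n1 * n2), Or.inr rfl, ?_, ?_⟩
      · rw [cg_mul, h.c_K02, ← cg_mul, h6]
      · rw [cg_mul, h.c_K13, ← cg_mul, h5]
  obtain ⟨g, hg, g02, g13⟩ := key
  have g_z : g * z * g⁻¹ = e := by
    rcases hg with rfl | rfl
    · exact h.ρ_z
    · calc ρ * (n1 * n2) * z * (ρ * (n1 * n2))⁻¹ = ρ * (n1 * n2 * z) * (n1 * n2)⁻¹ * ρ⁻¹ := by group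
        _ = ρ * z * ρ⁻¹ := by rw [h.c_z]; group
        _ = e := h.ρ_z
  have g_e : g * e * g⁻¹ = z * e := by
    rcases hg with rfl | rfl
    · exact h.ρ_e
    · calc ρ * (n1 * n2) * e * (ρ * (n1 * n2))⁻¹ = ρ * (n1 * n2 * e) * (n1 * n2)⁻¹ * ρ⁻¹ := by group
        _ = ρ * e * ρ⁻¹ := by rw [h.c_e]; group
        _ = z * e := h.ρ_e
  have g01 : cg g L1 = cg ρ L1 := by
    rcases hg with rfl | rfl
    · rfl
    · rw [cg_mul, h.c_L1]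
  have g23 : cg g L2 = cg ρ L2 := by
    rcases hg with rfl | rfl
    · rfl
    · rw [cg_mul, h.c_L2]
  have g_ze : g * (z * e) * g⁻¹ = z := by
    rw [conj_mul3, g_z, g_e, h.ze, ← mul_assoc, h.ee, one_mul]
  -- `g³`
  have q1 : g * g * g * z = z * (g * g * g) := by
    have h3 : g * g * g * z * (g * g * g)⁻¹ = z := by
      calc g * g * g * z * (g * g * g)⁻¹ = g * (g * (g * z * g⁻¹) * g⁻¹) * g⁻¹ := by group
        _ = z := by rw [g_z, g_e, g_ze]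
    exact mul_inv_eq_iff_eq_mul.1 h3
  have q2 : g * g * g * e = e * (g * g * g) := by
    have h3 : g * g * g * e * (g * g * g)⁻¹ = e := by
      calc g * g * g * e * (g * g * g)⁻¹ = g * (g * (g * e * g⁻¹) * g⁻¹) * g⁻¹ := by group
        _ = e := by rw [g_e, g_ze, g_z]
    exact mul_inv_eq_iff_eq_mul.1 h3
  have q3 : cg (g * g * g) L1 = cg g (cg n1 (cg ρ L1)) := by
    rw [cg_mul, g01, cg_mul, g02]
  have q4 : cg (g * g * g) L2 = cg g (cg n1 (cg ρ L2)) := by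
    rw [cg_mul, g23, cg_mul, g13]
  have main : cg g (cg n1 (cg ρ L1)) = L1 := by
    rcases h.perm _ q1 with ⟨h3, h4⟩ | ⟨h3, h4⟩
    · rw [← q3]; exact h3
    · exfalso
      have r1 : cg g (cg n1 (cg ρ L1)) = L2 := by rw [← q3]; exact h3
      have r2 : cg g (cg n1 (cg ρ L2)) = L1 := by rw [← q4]; exact h4
      set w := ρ * (n1 * n2) * ρ⁻¹ with hw
      have s1 : g * g * g * w * z = z * (g * g * g * w) := by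
        rw [mul_assoc _ w z, h.w_z, ← mul_assoc, q1, mul_assoc]
      have s2 : g * g * g * w * e = e * (g * g * g * w) := by
        rw [mul_assoc _ w e, h.w_e, ← mul_assoc, q2, mul_assoc]
      have s3 : cg (g * g * g * w) L1 = L1 := by rw [cg_mul, h.w_L1, h4]
      have s4 : cg (g * g * g * w) (cg ρ L1) = cg ρ L2 := by
        rw [cg_mul, h.w_K02, cg_mul, cg_mul, g02, r1, g23]
      have s5 := h.parity s1 s2 s3 s4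
      rw [cg_mul, h.w_K12, cg_mul, cg_mul, r2, g01, g02] at s5
      exact h.K12_ne s5
  refine ⟨g, ⟨g_z, g_e, g01, g23, g02, g13, main, ?_⟩⟩
  rw [← q4]
  exact h.perm' q1 (by rw [q3]; exact main)

end InpFive

end Cfsg.Agent.LFourFive
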