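import Cfsg.Agent.LFourFive.Sys
import Mathlib.GroupTheory.Perm.Closure
import Mathlib.GroupTheory.Perm.Fin

/-!
# From the base labels to all labels

`sys_of_base : Base p X z e → Sys p X z e`; `act_of_gens`: the action of `S₄` on the labels from three generators.
-/

set_option autoImplicit false
set_option linter.unusedVariables false

namespace Cfsg.Agent.LFourFive.SixOf

open Matrix

universe u

variable {G : Type u} [Group G] {p : ℕ} {X : Fin 4 → Fin 4 → Subgroup G} {z e : G}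

theorem mem_cj {g x : G} {H : Subgroup G} (hx : x ∈ H) : g * x * g⁻¹ ∈ cj g H := ⟨x, hx, rfl⟩

theorem cj_mono {g : G} {H L : Subgroup G} (h : H ≤ L) : cj g H ≤ cj g L := Subgroup.map_mono h

theorem cj_cj (g h : G) (H : Subgroup G) : cj g (cj h H) = cj (g * h) H := by
  rw [cj, cj, cj, Subgroup.map_map]
  congr 1
  ext x
  show g * (h * x * h⁻¹) * g⁻¹ = g * h * x * (g * h)⁻¹
  group

theorem cj_sup (g : G) (H L : Subgroup G) : cj g (H ⊔ L) = cj g H ⊔ cj g L := Subgroup.map_sup _ _ _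

theorem card_cj (g : G) (H : Subgroup G) : Nat.card (cj g H) = Nat.card H :=
  Subgroup.card_map_of_injective (MulAut.conj g).injective

theorem exists_perm : ∀ i j k l : Fin 4, i ≠ j → i ≠ k → i ≠ l → j ≠ k → j ≠ l → k ≠ l →
    ∃ σ : Equiv.Perm (Fin 4), σ 0 = i ∧ σ 2 = j ∧ σ 1 = k ∧ σ 3 = l := by
  intro i j k l h1 h2 h3 h4 h5 h6
  have hinj : Function.Injective (![i, k, j, l] : Fin 4 → Fin 4) := by
    intro a b hab
    fin_cases a <;> fin_cases b <;> first | rfl | (exfalso; revert hab; simp [h1, h2, h3, h4, h5, h6, Ne.symm h1, Ne.symm h2, Ne.symm h3, Ne.symm h4, Ne.symm h5, Ne.symm h6])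
  exact ⟨Equiv.ofBijective _ (Finite.injective_iff_bijective.1 hinj), rfl, rfl, rfl, rfl⟩

theorem exists_fourth : ∀ i j k : Fin 4, i ≠ j → i ≠ k → j ≠ k → ∃ l, i ≠ l ∧ j ≠ l ∧ k ≠ l := by decide

theorem exists_third : ∀ i j : Fin 4, i ≠ j → ∃ k, i ≠ k ∧ j ≠ k := by decide

theorem exists_perm3 (i j k : Fin 4) (h1 : i ≠ j) (h2 : i ≠ k) (h3 : j ≠ k) :
    ∃ σ : Equiv.Perm (Fin 4), σ 0 = i ∧ σ 2 = j ∧ σ 1 = k := by
  obtain ⟨l, h4, h5, h6⟩ := exists_fourth i j k h1 h2 h3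
  obtain ⟨σ, e1, e2, e3, -⟩ := exists_perm i j k l h1 h2 h4 h3 h5 h6
  exact ⟨σ, e1, e2, e3⟩

theorem exists_perm2 (i j : Fin 4) (h1 : i ≠ j) : ∃ σ : Equiv.Perm (Fin 4), σ 0 = i ∧ σ 2 = j := by
  obtain ⟨k, h2, h3⟩ := exists_third i j h1
  obtain ⟨σ, e1, e2, -⟩ := exists_perm3 i j k h1 h2 h3
  exact ⟨σ, e1, e2⟩

theorem n02 : (0 : Fin 4) ≠ 2 := by decide
theorem n01 : (0 : Fin 4) ≠ 1 := by decide
theorem n03 : (0 : Fin 4) ≠ 3 := by decide
theorem n12 : (1 : Fin 4) ≠ 2 := by decide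
theorem n13 : (1 : Fin 4) ≠ 3 := by decide
theorem n23 : (2 : Fin 4) ≠ 3 := by decide

theorem sys_of_base (h : Base p X z e) : Sys p X z e where
  sqz := h.sqz
  sqe := h.sqe
  ze := h.ze
  card i j hij := by
    obtain ⟨σ, rfl, rfl⟩ := exists_perm2 i j hij
    obtain ⟨s, hs, -⟩ := h.act σ
    rw [← hs 0 2 n02, card_cj, h.card]
  iso i j hij := by
    obtain ⟨σ, rfl, rfl⟩ := exists_perm2 i j hij
    obtain ⟨s, hs, -⟩ := h.act σ
    obtain ⟨f⟩ := h.iso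
    have e1 : K X (σ 0) (σ 2) = cj s (K X 0 2) := by
      rw [K, K, cj_sup, hs 0 2 n02, hs 2 0 n02.symm]
    rw [e1]
    exact ⟨((K X 0 2).equivMapOfInjective _ (MulAut.conj s).injective).symm.trans f⟩
  z_mem i j hij := by
    obtain ⟨σ, rfl, rfl⟩ := exists_perm2 i j hij
    obtain ⟨s, hs, ht⟩ := h.act σ
    have e1 : K X (σ 0) (σ 2) = cj s (K X 0 2) := by
      rw [K, K, cj_sup, hs 0 2 n02, hs 2 0 n02.symm]
    rw [e1, ← ht 0 2 n02]
    exact mem_cj h.z_mem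
  z_ne i j hij := by
    obtain ⟨σ, rfl, rfl⟩ := exists_perm2 i j hij
    obtain ⟨s, hs, ht⟩ := h.act σ
    rw [← ht 0 2 n02]
    intro h1
    rw [mul_inv_eq_one, mul_eq_left] at h1
    exact h.z_ne h1
  z_fix i j hij x hx := by
    obtain ⟨σ, rfl, rfl⟩ := exists_perm2 i j hij
    obtain ⟨s, hs, ht⟩ := h.act σ
    rw [← hs 0 2 n02] at hx
    obtain ⟨y, hy, rfl⟩ := hx
    rw [← ht 0 2 n02]
    show s * e * s⁻¹ * (s * y * s⁻¹) = s * y * s⁻¹ * (s * e * s⁻¹)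
    have h1 := h.z_fix y hy
    calc s * e * s⁻¹ * (s * y * s⁻¹) = s * (e * y) * s⁻¹ := by group
      _ = s * (y * e) * s⁻¹ := by rw [h1]
      _ = _ := by group
  z_row i j k hij hjk hik x hx := by
    obtain ⟨σ, rfl, rfl, rfl⟩ := exists_perm3 i k j hik hij hjk.symm
    obtain ⟨s, hs, ht⟩ := h.act σ
    rw [← hs 0 2 n02] at hx
    obtain ⟨y, hy, rfl⟩ := hx
    rw [← ht 0 1 n01]
    show s * z * s⁻¹ * (s * y * s⁻¹) * (s * z * s⁻¹)⁻¹ = (s * y * s⁻¹)⁻¹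
    calc s * z * s⁻¹ * (s * y * s⁻¹) * (s * z * s⁻¹)⁻¹ = s * (z * y * z⁻¹) * s⁻¹ := by group
      _ = s * y⁻¹ * s⁻¹ := by rw [h.z_row y hy]
      _ = _ := by group
  z_col i j k hij hjk hik x hx := by
    obtain ⟨l, h1, h2, h3⟩ := exists_fourth i j k hij hik hjk
    obtain ⟨σ, rfl, rfl, rfl, rfl⟩ := exists_perm k i l j hik.symm h3 hjk.symm h1 hij h2.symm
    obtain ⟨s, hs, ht⟩ := h.act σ
    rw [← hs 0 2 n02] at hx
    obtain ⟨y, hy, rfl⟩ := hx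
    rw [← ht 2 3 n23]
    show s * z * s⁻¹ * (s * y * s⁻¹) * (s * z * s⁻¹)⁻¹ = (s * y * s⁻¹)⁻¹
    calc s * z * s⁻¹ * (s * y * s⁻¹) * (s * z * s⁻¹)⁻¹ = s * (z * y * z⁻¹) * s⁻¹ := by group
      _ = s * y⁻¹ * s⁻¹ := by rw [h.z_row y hy]
      _ = _ := by group
  row i j k hij hjk hik x hx y hy := by
    obtain ⟨l, h1, h2, h3⟩ := exists_fourth i j k hij hik hjk
    obtain ⟨σ, rfl, rfl, rfl, rfl⟩ := exists_perm i j l k hij h1 hik h2 hjk h3.symm
    obtain ⟨s, hs, ht⟩ := h.act σ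
    rw [← hs 0 2 n02] at hx
    obtain ⟨x, hx, rfl⟩ := hx
    rw [← hs 0 3 n03] at hy
    obtain ⟨y, hy, rfl⟩ := hy
    rw [← map_mul, ← map_mul, h.row x hx y hy]
  col i j k hij hjk hik x hx y hy := by
    obtain ⟨σ, rfl, rfl, rfl⟩ := exists_perm3 i j k hij hik hjk
    obtain ⟨s, hs, ht⟩ := h.act σ
    rw [← hs 0 2 n02] at hx
    obtain ⟨x, hx, rfl⟩ := hx
    rw [← hs 1 2 n12] at hy
    obtain ⟨y, hy, rfl⟩ := hy
    rw [← map_mul, ← map_mul, h.col x hx y hy]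
  opp i j k l h1 h2 h3 h4 h5 h6 x hx y hy := by
    obtain ⟨σ, rfl, rfl, rfl, rfl⟩ := exists_perm i j k l h1 h2 h3 h4 h5 h6
    obtain ⟨s, hs, ht⟩ := h.act σ
    rw [← hs 0 2 n02] at hx
    obtain ⟨x, hx, rfl⟩ := hx
    rw [← hs 1 3 n13] at hy
    obtain ⟨y, hy, rfl⟩ := hy
    rw [← map_mul, ← map_mul, h.opp x hx y hy]
  com i j k hij hjk hik x hx y hy := by
    obtain ⟨σ, rfl, rfl, rfl⟩ := exists_perm3 i k j hik hij hjk.symm
    obtain ⟨s, hs, ht⟩ := h.act σ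
    rw [← hs 0 1 n01] at hx
    obtain ⟨x, hx, rfl⟩ := hx
    rw [← hs 1 2 n12] at hy
    obtain ⟨y, hy, rfl⟩ := hy
    rw [← map_inv, ← map_inv, ← map_mul, ← map_mul, ← map_mul, ← hs 0 2 n02]
    exact ⟨_, h.com x hx y hy, rfl⟩
  core i j k l h1 h2 h3 h4 h5 h6 := by
    obtain ⟨σ, rfl, rfl, rfl, rfl⟩ := exists_perm i j k l h1 h2 h3 h4 h5 h6
    obtain ⟨s, hs, ht⟩ := h.act σ
    obtain ⟨Q, q1, q2, q3, q4, q5, q6, q7, q8⟩ := h.core
    refine ⟨cj s Q, ?_, ?_, ?_, ?_, ?_, ?_, ?_, ?_⟩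
    · rw [card_cj]; exact q1
    · intro g hg
      obtain ⟨q, hq, k', hk', hqk⟩ := q2 (s⁻¹ * g * s) (by
        intro x hx
        have h7 : s * x * s⁻¹ ∈ X (σ 0) (σ 2) := by
          rw [← hs 0 2 n02]; exact mem_cj hx
        have h8 := hg _ h7
        calc s⁻¹ * g * s * x = s⁻¹ * (g * (s * x * s⁻¹)) * s := by group
          _ = s⁻¹ * (s * x * s⁻¹ * g) * s := by rw [h8]
          _ = _ := by group)
      refine ⟨s * q * s⁻¹, mem_cj hq, s * k' * s⁻¹, ?_, ?_⟩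
      · have e1 : K X (σ 1) (σ 3) = cj s (K X 1 3) := by
          rw [K, K, cj_sup, hs 1 3 n13, hs 3 1 n13.symm]
        rw [e1]; exact mem_cj hk'
      · calc g = s * (s⁻¹ * g * s) * s⁻¹ := by group
          _ = s * (q * k') * s⁻¹ := by rw [hqk]
          _ = _ := by group
    · rintro _ ⟨q, hq, rfl⟩ hc
      rw [← ht 0 2 n02] at hc
      rw [← hs 0 2 n02]
      refine ⟨q, q3 q hq ?_, rfl⟩
      have h7 : (MulAut.conj s) (q * e) = (MulAut.conj s) (e * q) := by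
        rw [map_mul, map_mul]; exact hc
      exact (MulAut.conj s).injective h7
    · rintro _ ⟨a, ha, rfl⟩ _ ⟨b, hb, rfl⟩
      rw [← map_inv, ← map_inv, ← map_mul, ← map_mul, ← map_mul, ← hs 0 2 n02]
      exact ⟨_, q4 a ha b hb, rfl⟩
    · rw [← hs 0 1 n01]; exact cj_mono q5
    · rw [← hs 0 3 n03]; exact cj_mono q6
    · rw [← hs 1 2 n12]; exact cj_mono q7
    · rw [← hs 3 2 n23.symm]; exact cj_mono q8

/-- `σ` is induced on the labels by an element of the group -/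
def Act (X : Fin 4 → Fin 4 → Subgroup G) (z e : G) (σ : Equiv.Perm (Fin 4)) : Prop :=
  ∃ s : G, (∀ i j, i ≠ j → cj s (X i j) = X (σ i) (σ j)) ∧ ∀ i j, i ≠ j → s * zz z e i j * s⁻¹ = zz z e (σ i) (σ j)

theorem act_one : Act X z e 1 :=
  ⟨1, fun i j _ => by
    ext x
    rw [cj]
    simp, fun i j _ => by simp⟩

theorem act_mul {σ τ : Equiv.Perm (Fin 4)} (h1 : Act X z e σ) (h2 : Act X z e τ) : Act X z e (σ * τ) := by
  obtain ⟨s, hs, hs'⟩ := h1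
  obtain ⟨t, ht, ht'⟩ := h2
  refine ⟨s * t, ?_, ?_⟩
  · intro i j hij
    rw [← cj_cj, ht i j hij, hs _ _ (τ.injective.ne hij)]
    rfl
  · intro i j hij
    have e1 : s * t * zz z e i j * (s * t)⁻¹ = s * (t * zz z e i j * t⁻¹) * s⁻¹ := by group
    rw [e1, ht' i j hij, hs' _ _ (τ.injective.ne hij)]
    rfl

/-- the 3-cycle `2 → 1 → 0 → 2` -/
def cyc : Equiv.Perm (Fin 4) := Equiv.swap 0 1 * Equiv.swap 0 2

theorem cyc_apply : cyc 0 = 2 ∧ cyc 1 = 0 ∧ cyc 2 = 1 ∧ cyc 3 = 3 := by decide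

theorem swap_eq : (Equiv.swap 1 2 : Equiv.Perm (Fin 4)) = cyc * cyc * Equiv.swap 0 1 * cyc := by decide

/-- the three generators `n₁`, `n₂`, `g` suffice -/
theorem act_of_gens (h1 : Act X z e (Equiv.swap 0 1)) (h2 : Act X z e (Equiv.swap 2 3)) (h3 : Act X z e cyc)
    (σ : Equiv.Perm (Fin 4)) : Act X z e σ := by
  have h4 : Act X z e (Equiv.swap 1 2) := by
    rw [swap_eq]
    exact act_mul (act_mul (act_mul h3 h3) h1) h3
  have hσ : σ ∈ Submonoid.closure (Set.range fun i : Fin 3 ↦ Equiv.swap i.castSucc i.succ) := by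
    rw [Equiv.Perm.mclosure_swap_castSucc_succ]
    trivial
  refine Submonoid.closure_induction (motive := fun σ _ => Act X z e σ) ?_ act_one (fun _ _ _ _ => act_mul) hσ
  rintro _ ⟨i, rfl⟩
  fin_cases i
  · exact h1
  · exact h4
  · exact h2

end Cfsg.Agent.LFourFive.SixOf
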