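import Cfsg.Agent.S0215

/-!
# `L4(5)`: the commutator relation `[X_ij, X_jk] ≤ X_ik` (step (5) of helper317's pencil)

`X` of odd order, abelian, `C(X) ∩ C(e) = X K` with `e` the only involution of `K`, `K` without normal
subgroups of odd order.  By the `Z*`-theorem `C(X) = O(C(X)) K`, and `e` inverts `O(C(X)) / X`.
-/

set_option autoImplicit false
open Cfsg

namespace Cfsg.Agent.LFourFive.StepFive

open Subgroup

universe u

variable {G : Type u} [Group G]

/-- `C(X) ∩ C(e) = X K`, `e` is the only involution of `K`, `O(K) = 1`. -/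
structure Cen (e : G) (X K : Subgroup G) : Prop where
  ne : e ≠ 1
  ee : e * e = 1
  odd : Odd (Nat.card X)
  eX : ∀ x ∈ X, e * x = x * e
  ab : ∀ x ∈ X, ∀ y ∈ X, x * y = y * x
  KX : ∀ k ∈ K, ∀ x ∈ X, k * x = x * k
  uniq : ∀ k ∈ K, k * k = 1 → k = 1 ∨ k = e
  core : ∀ N : Subgroup G, N ≤ K → Odd (Nat.card N) → (∀ k ∈ K, ∀ n ∈ N, k * n * k⁻¹ ∈ N) → N = ⊥
  cent : ∀ y, (∀ x ∈ X, y * x = x * y) → y * e = e * y → ∃ x ∈ X, ∃ k ∈ K, y = x * k

/-- the core `Q` of `C(X)` -/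
structure Core (e : G) (X K Q : Subgroup G) : Prop where
  X_le : X ≤ Q
  le_cent : Q ≤ centralizer (X : Set G)
  odd : Odd (Nat.card Q)
  norm : ∀ y ∈ centralizer (X : Set G), ∀ q ∈ Q, y * q * y⁻¹ ∈ Q
  fix : ∀ q ∈ Q, e * q = q * e → q ∈ X
  inv : ∀ q ∈ Q, e * q * e⁻¹ * q ∈ X
  comm : ∀ a ∈ Q, ∀ b ∈ Q, a * b * a⁻¹ * b⁻¹ ∈ X
  mem : ∀ y ∈ centralizer (X : Set G), Odd (orderOf y) → e * y * e⁻¹ = y⁻¹ → y ∈ Q
  exists_mul : ∀ y ∈ centralizer (X : Set G), ∃ q ∈ Q, ∃ k ∈ K, y = q * k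

variable {e : G} {X K : Subgroup G}

theorem mem_cent {y : G} : y ∈ centralizer (X : Set G) ↔ ∀ x ∈ X, y * x = x * y := by
  rw [mem_centralizer_iff]
  exact ⟨fun h x hx => (h x hx).symm, fun h x hx => (h x hx).symm⟩

theorem pow_card_eq {x : G} (hx : x ∈ X) : x ^ Nat.card X = 1 :=
  congrArg Subtype.val (pow_card_eq_one' (x := (⟨x, hx⟩ : X)))

theorem Cen.einv (h : Cen e X K) : e⁻¹ = e := inv_eq_of_mul_eq_one_left h.ee

theorem Cen.e_mem (h : Cen e X K) : e ∈ centralizer (X : Set G) := mem_cent.mpr h.eX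

theorem Cen.eq_of_comm (h : Cen e X K) {y : G} (hy : y ∈ centralizer (X : Set G))
    (hye : y * e = e * y) (hyy : y * y = 1) : y = 1 ∨ y = e := by
  obtain ⟨x, hx, k, hk, rfl⟩ := h.cent y (mem_cent.mp hy) hye
  obtain ⟨m, hm⟩ := h.odd
  have hxm : x ^ Nat.card X = 1 := pow_card_eq hx
  have hc : Commute x k := (h.KX k hk x hx).symm
  have h1 : (x * k) ^ Nat.card X = x * k := by
    rw [hm, pow_succ, pow_mul, pow_two, hyy, one_pow, one_mul]
  have h2 : (x * k) ^ Nat.card X = k ^ Nat.card X := by rw [hc.mul_pow, hxm, one_mul]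
  have hk' : x * k ∈ K := by rw [← h1, h2]; exact K.pow_mem hk _
  exact h.uniq _ hk' hyy

/-- the product of `e` with a conjugate in `C(X)` has odd order -/
theorem Cen.odd_mul [Finite G] (h : Cen e X K) {g : G} (hg : g ∈ centralizer (X : Set G)) :
    Odd (orderOf (e * (g * e * g⁻¹))) := by
  set t := g * e * g⁻¹ with ht
  have htt : t * t = 1 := by
    calc t * t = g * (e * e) * g⁻¹ := by rw [ht]; group
      _ = 1 := by rw [h.ee]; group
  have hti : t⁻¹ = t := inv_eq_of_mul_eq_one_left htt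
  have het : t ∈ centralizer (X : Set G) := mul_mem (mul_mem hg h.e_mem) (inv_mem hg)
  by_contra hodd
  rw [Nat.not_odd_iff_even] at hodd
  obtain ⟨m, hm⟩ := hodd
  have hpos : 0 < orderOf (e * t) := orderOf_pos _
  set y := (e * t) ^ m with hy
  have hyc : y ∈ centralizer (X : Set G) := pow_mem (mul_mem h.e_mem het) _
  have hyy : y * y = 1 := by rw [hy, ← pow_add, ← hm, pow_orderOf_eq_one]
  have hyi : y⁻¹ = y := inv_eq_of_mul_eq_one_left hyy
  have hy1 : y ≠ 1 := by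
    intro h1
    have := orderOf_dvd_of_pow_eq_one h1
    have := Nat.le_of_dvd (by omega) this
    omega
  have hye : y * e = e * y := by
    have h1 : e * y * e⁻¹ = y⁻¹ := by
      rw [hy, ← conj_pow, ← inv_pow]
      congr 1
      rw [mul_inv_rev, hti, h.einv, ← mul_assoc, h.ee, one_mul]
    rw [hyi] at h1
    calc y * e = (e * y * e⁻¹) * e := by rw [h1]
      _ = e * y := by group
  have hyt : y * t = t * y := by
    have h1 : t * y * t⁻¹ = y⁻¹ := by
      rw [hy, ← conj_pow, ← inv_pow]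
      congr 1
      calc t * (e * t) * t⁻¹ = t * e := by group
        _ = (e * t)⁻¹ := by rw [mul_inv_rev, hti, h.einv]
    rw [hyi] at h1
    calc y * t = (t * y * t⁻¹) * t := by rw [h1]
      _ = t * y := by group
  have hy2 : y = e := (h.eq_of_comm hyc hye hyy).resolve_left hy1
  have hy3 : y = t := by
    have h2 := h.eq_of_comm (y := g⁻¹ * y * g) (mul_mem (mul_mem (inv_mem hg) hyc) hg) (by
      have : g⁻¹ * (y * t) * g = g⁻¹ * (t * y) * g := by rw [hyt]
      rw [ht] at this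
      simpa [mul_assoc] using this) (by
      calc g⁻¹ * y * g * (g⁻¹ * y * g) = g⁻¹ * (y * y) * g := by group
        _ = 1 := by rw [hyy]; group)
    rcases h2 with h2 | h2
    · exfalso; apply hy1
      calc y = g * (g⁻¹ * y * g) * g⁻¹ := by group
        _ = 1 := by rw [h2]; group
    · calc y = g * (g⁻¹ * y * g) * g⁻¹ := by group
        _ = t := by rw [h2]
  rw [← hy2, ← hy3, hyy, orderOf_one] at hm
  omega

theorem exists_half {q : G} (h : Odd (orderOf q)) : ∃ n : ℕ, (q ^ n) * (q ^ n) = q := by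
  obtain ⟨m, hm⟩ := h
  refine ⟨m + 1, ?_⟩
  rw [← pow_add, show m + 1 + (m + 1) = (2 * m + 1) + 1 by ring, pow_succ, ← hm,
    pow_orderOf_eq_one, one_mul]

theorem odd_orderOf [Finite G] {Q : Subgroup G} (h : Odd (Nat.card Q)) {q : G} (hq : q ∈ Q) :
    Odd (orderOf q) :=
  Odd.of_dvd_nat h (orderOf_dvd_of_pow_eq_one (pow_card_eq hq))

theorem Cen.exists_core [Finite G] (h : Cen e X K) : ∃ Q : Subgroup G, Core e X K Q := by
  classical
  let Y : Subgroup G := centralizer (X : Set G)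
  let e' : Y := ⟨e, h.e_mem⟩
  have hiso : Cfsg.Agent.Involutions.ZStar.Iso e' := by
    refine ⟨Subtype.ext h.ee, fun g => ?_⟩
    rw [← Subgroup.orderOf_coe]
    exact h.odd_mul g.2
  have hz := Cfsg.Agent.S0215.iso_commutator e' hiso
  let N : Subgroup Y := pPrimeCore 2 Y
  have hN : N.Normal := Cfsg.Agent.Lib.Cores.pPrimeCore_normal 2
  have hNo : Odd (Nat.card N) :=
    Nat.coprime_two_right.mp (Cfsg.Agent.Lib.Cores.pPrimeCore_coprime 2)
  let Q : Subgroup G := N.map Y.subtype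
  have hQY : Q ≤ Y := by
    rintro _ ⟨y, _, rfl⟩; exact y.2
  have hmem : ∀ {y : G} (hy : y ∈ Y), y ∈ Q ↔ (⟨y, hy⟩ : Y) ∈ N := by
    intro y hy
    constructor
    · rintro ⟨y', hy', h1⟩
      have : y' = ⟨y, hy⟩ := Subtype.ext h1
      rw [← this]; exact hy'
    · intro h1; exact ⟨_, h1, rfl⟩
  have hQo : Odd (Nat.card Q) := by
    rw [Nat.card_congr (N.equivMapOfInjective Y.subtype Y.subtype_injective).toEquiv.symm]
    exact hNo
  have hKY : K ≤ Y := fun k hk => mem_cent.mpr (h.KX k hk)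
  have hXY : X ≤ Y := fun x hx => mem_cent.mpr (fun y hy => h.ab x hx y hy)
  have hXQ : X ≤ Q := by
    have h1 : X.subgroupOf Y ≤ N := by
      apply Cfsg.Agent.Lib.Cores.le_pPrimeCore
      · refine ⟨fun x hx g => ?_⟩
        rw [mem_subgroupOf] at hx ⊢
        have := mem_cent.mp g.2 x hx
        rw [Subgroup.coe_mul, Subgroup.coe_mul, this, Subgroup.coe_inv, mul_inv_cancel_right]
        exact hx
      · rw [Nat.coprime_two_right]
        rw [Nat.card_congr (Subgroup.subgroupOfEquivOfLe hXY).toEquiv]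
        exact h.odd
    intro x hx
    rw [hmem (hXY hx)]
    exact h1 (by rw [mem_subgroupOf]; exact hx)
  have hnorm : ∀ y ∈ Y, ∀ q ∈ Q, y * q * y⁻¹ ∈ Q := by
    intro y hy q hq
    have h1 := hN.conj_mem _ ((hmem (hQY hq)).mp hq) ⟨y, hy⟩
    exact (hmem (mul_mem (mul_mem hy (hQY hq)) (inv_mem hy))).mpr h1
  have hcomm : ∀ y ∈ Y, e * y * e⁻¹ * y⁻¹ ∈ Q := by
    intro y hy
    have h1 := hz ⟨y, hy⟩
    exact (hmem (mul_mem (mul_mem (mul_mem h.e_mem hy) (inv_mem h.e_mem)) (inv_mem hy))).mpr h1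
  have hfix : ∀ q ∈ Q, e * q = q * e → q ∈ X := by
    intro q hq hqe
    obtain ⟨x, hx, k, hk, rfl⟩ := h.cent q (mem_cent.mp (hQY hq)) hqe.symm
    have hkQ : k ∈ Q := by
      have := Q.mul_mem (Q.inv_mem (hXQ hx)) hq
      simpa [mul_assoc] using this
    have hbot : Q ⊓ K = ⊥ := by
      apply h.core _ inf_le_right
      · exact Odd.of_dvd_nat hQo (Subgroup.card_dvd_of_le inf_le_left)
      · rintro k hk n ⟨hn1, hn2⟩
        exact ⟨hnorm k (hKY hk) n hn1, K.mul_mem (K.mul_mem hk hn2) (K.inv_mem hk)⟩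
    have : k ∈ Q ⊓ K := ⟨hkQ, hk⟩
    rw [hbot, mem_bot] at this
    rw [this, mul_one]; exact hx
  have hinv : ∀ q ∈ Q, e * q * e⁻¹ * q ∈ X := by
    intro q hq
    set i := q⁻¹ * (e * q * e⁻¹) with hi
    have hiQ : i ∈ Q := Q.mul_mem (Q.inv_mem hq) (hnorm e h.e_mem q hq)
    obtain ⟨n, hn⟩ := exists_half (odd_orderOf hQo hiQ)
    set j := i ^ n with hj
    have hjQ : j ∈ Q := Q.pow_mem hiQ _
    have hei : e * i * e⁻¹ = i⁻¹ := by
      rw [hi, h.einv]
      calc e * (q⁻¹ * (e * q * e)) * e = e * q⁻¹ * e * q * (e * e) := by group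
        _ = (q⁻¹ * (e * q * e))⁻¹ := by
          rw [h.ee, mul_one, mul_inv_rev, mul_inv_rev, mul_inv_rev, h.einv, inv_inv]; group
    have hej : e * j * e⁻¹ = j⁻¹ := by rw [hj, ← conj_pow, hei, inv_pow]
    have hX1 : q * j ∈ X := by
      apply hfix _ (Q.mul_mem hq hjQ)
      have h1 : e * (q * j) * e⁻¹ = q * j := by
        calc e * (q * j) * e⁻¹ = (q * (q⁻¹ * (e * q * e⁻¹))) * (e * j * e⁻¹) := by group
          _ = q * j := by rw [← hi, hej, ← hn]; group
      calc e * (q * j) = e * (q * j) * e⁻¹ * e := by group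
        _ = q * j * e := by rw [h1]
    have hq2 : e * q * e⁻¹ = q * j * j := by rw [mul_assoc q, hn, hi]; group
    have hc := mem_cent.mp (hQY hq) _ hX1
    have h3 : e * q * e⁻¹ * q = (q * j) * (q * j) := by
      rw [hq2]
      have hj2 : j * (q * j) = (q * j) * j := mem_cent.mp (hQY hjQ) _ hX1
      calc q * j * j * q = (q * j * j) * q := rfl
        _ = (j * (q * j)) * q := by rw [hj2]
        _ = j * (q * (q * j)) := by rw [hc]; group
        _ = (j * q) * (q * j) := by group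
        _ = (q * j) * (q * j) := by
          have : j * q = q * j := by
            have h4 : j * (q * j) * j⁻¹ = q * j * j * j⁻¹ := by rw [hj2]
            simpa [mul_assoc] using h4
          rw [this]
    rw [h3]; exact X.mul_mem hX1 hX1
  refine ⟨Q, hXQ, hQY, hQo, hnorm, hfix, hinv, ?_, ?_, ?_⟩
  · intro a ha b hb
    have h1 := hinv a⁻¹ (Q.inv_mem ha)
    have h2 := hinv b⁻¹ (Q.inv_mem hb)
    have h3 := hinv (a⁻¹ * b⁻¹) (Q.mul_mem (Q.inv_mem ha) (Q.inv_mem hb))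
    set x1 := e * a⁻¹ * e⁻¹ * a⁻¹ with hx1
    set x2 := e * b⁻¹ * e⁻¹ * b⁻¹ with hx2
    have e1 : e * a⁻¹ * e⁻¹ = x1 * a := by rw [hx1]; group
    have e2 : e * b⁻¹ * e⁻¹ = x2 * b := by rw [hx2]; group
    have h4 : e * (a⁻¹ * b⁻¹) * e⁻¹ * (a⁻¹ * b⁻¹) = x1 * x2 * (a * b * a⁻¹ * b⁻¹) := by
      calc e * (a⁻¹ * b⁻¹) * e⁻¹ * (a⁻¹ * b⁻¹)
          = (e * a⁻¹ * e⁻¹) * (e * b⁻¹ * e⁻¹) * (a⁻¹ * b⁻¹) := by group
        _ = x1 * (a * x2) * b * (a⁻¹ * b⁻¹) := by rw [e1, e2]; group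
        _ = x1 * x2 * (a * b * a⁻¹ * b⁻¹) := by
          rw [mem_cent.mp (hQY ha) x2 h2]; group
    rw [h4] at h3
    exact (X.mul_mem_cancel_left (X.mul_mem h1 h2)).mp h3
  · intro y hy ho hey
    have h1 := hcomm y hy
    rw [hey] at h1
    obtain ⟨n, hn⟩ := exists_half ho
    have h2 : (y⁻¹ * y⁻¹) ^ n ∈ Q := Q.pow_mem h1 n
    have h3 : (y⁻¹ * y⁻¹) ^ n = y⁻¹ := by
      rw [← pow_two, ← pow_mul, mul_comm, pow_mul, inv_pow, inv_pow, pow_two, hn]
    rw [h3] at h2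
    exact (Q.inv_mem_iff).mp h2
  · intro y hy
    have h1 := hcomm y hy
    set q := e * y * e⁻¹ * y⁻¹ with hq
    have h2 : y * e * y⁻¹ = e * q := by
      rw [hq, h.einv]
      calc y * e * y⁻¹ = (e * e) * y * e * y⁻¹ := by rw [h.ee, one_mul]
        _ = _ := by group
    have heq : e * q * e⁻¹ = q⁻¹ := by
      rw [hq, h.einv]
      calc e * (e * y * e * y⁻¹) * e = (e * e) * y * e * y⁻¹ * e := by group
        _ = (e * y * e * y⁻¹)⁻¹ := by
          rw [h.ee, mul_inv_rev, mul_inv_rev, mul_inv_rev, h.einv, inv_inv]; group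
    obtain ⟨n, hn⟩ := exists_half (odd_orderOf hQo h1)
    set j := q ^ n with hj
    have hjQ : j ∈ Q := Q.pow_mem h1 _
    have hej : e * j * e⁻¹ = j⁻¹ := by rw [hj, ← conj_pow, heq, inv_pow]
    have hej2 : e * j = j⁻¹ * e := by rw [← hej]; group
    have h3 : (j * y) * e = e * (j * y) := by
      have h4 : (j * y) * e * (j * y)⁻¹ = e := by
        calc (j * y) * e * (j * y)⁻¹ = j * (y * e * y⁻¹) * j⁻¹ := by group
          _ = j * (e * (j * j)) * j⁻¹ := by rw [h2, hn]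
          _ = j * (e * j) := by group
          _ = e := by rw [hej2]; group
      calc (j * y) * e = (j * y) * e * (j * y)⁻¹ * (j * y) := by group
        _ = e * (j * y) := by rw [h4]
    obtain ⟨x, hx, k, hk, hxk⟩ := h.cent (j * y) (mem_cent.mp (mul_mem (hQY hjQ) hy)) h3
    refine ⟨j⁻¹ * x, Q.mul_mem (Q.inv_mem hjQ) (hXQ hx), k, hk, ?_⟩
    calc y = j⁻¹ * (j * y) := by group
      _ = _ := by rw [hxk]; group

/-- the commutator relation -/
theorem Core.comm_mem {Q : Subgroup G} (h : Core e X K Q) {a b n m : G}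
    (ha : a ∈ centralizer (X : Set G)) (ha' : Odd (orderOf a)) (hae : e * a * e⁻¹ = a⁻¹)
    (hb : b ∈ centralizer (X : Set G)) (hb' : Odd (orderOf b)) (hbe : e * b * e⁻¹ = b⁻¹)
    (hn : n ∈ centralizer (X : Set G)) (hm : m ∈ centralizer (X : Set G)) :
    (n * a * n⁻¹) * (m * b * m⁻¹) * (n * a * n⁻¹)⁻¹ * (m * b * m⁻¹)⁻¹ ∈ X :=
  h.comm _ (h.norm n hn a (h.mem a ha ha' hae)) _ (h.norm m hm b (h.mem b hb hb' hbe))

end Cfsg.Agent.LFourFive.StepFive
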