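import Cfsg.Agent.LFourFive.Labels
import Cfsg.Agent.LFourFive.SixOf
import Cfsg.Agent.LFourFive.StepFive

/-!
# Statement S0510, type B5, `|F| = 5`, steps (3), (4): `Base` from the labelling

`exists_labels` = `Labels` for the conjugation action on subgroups; `Pre'.base` = all fields of `Base` from the data at
the root group `X 0 2`.
-/

set_option autoImplicit false

namespace Cfsg.Agent.LFourFive.LabelsBase

open Matrix Labels

universe u

variable {G : Type u} [Group G]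

theorem cj_one (H : Subgroup G) : cj 1 H = H := by
  ext x
  constructor
  · rintro ⟨y, hy, rfl⟩
    simpa using hy
  · intro hx
    exact ⟨x, hx, by simp⟩

/-- `G` acts on its subgroups by `cj` -/
@[reducible] def cjAct (G : Type u) [Group G] : MulAction G (Subgroup G) where
  smul := cj
  one_smul := cj_one
  mul_smul := fun a b H => (SixOf.cj_cj a b H).symm

/-- the hypotheses, for the action by conjugation -/
abbrev CLab (n1 n2 g : G) (R : Fin 4 → Fin 4 → Subgroup G → Prop) : Prop :=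
  @Lab G (Subgroup G) _ (cjAct G) n1 n2 g R

theorem exists_labels {n1 n2 g : G} {R : Fin 4 → Fin 4 → Subgroup G → Prop} (h : CLab n1 n2 g R)
    {P Q : Subgroup G} (hP : R 0 2 P) (hQ : R 0 2 Q) (hPQ : P ≠ Q) :
    ∃ X : Fin 4 → Fin 4 → Subgroup G, X 0 2 = P ∧ X 2 0 = Q ∧ X 1 2 = cj n1 P ∧ X 0 3 = cj n2 P ∧
      X 1 3 = cj n1 (cj n2 P) ∧ X 2 1 = cj n1 Q ∧ X 3 0 = cj n2 Q ∧ X 3 1 = cj n1 (cj n2 Q) ∧
      (∀ i j, i ≠ j → R i j (X i j)) ∧ (∀ i j, i ≠ j → X i j ≠ X j i) ∧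
      (∀ i j, i ≠ j → cj n1 (X i j) = X (Equiv.swap 0 1 i) (Equiv.swap 0 1 j)) ∧
      (∀ i j, i ≠ j → cj n2 (X i j) = X (Equiv.swap 2 3 i) (Equiv.swap 2 3 j)) ∧
      (∀ i j, i ≠ j → cj g (X i j) = X (SixOf.cyc i) (SixOf.cyc j)) := by
  let _ := cjAct G
  have hc : SixOf.cyc = s3 := by decide
  refine ⟨Labels.X n1 n2 g ⊥ P Q, rfl, rfl, rfl, rfl, rfl, rfl, rfl, rfl, fun i j hij => h.mem hP hQ hij,
    fun i j hij => Lab.ne hPQ hij, fun i j hij => h.act1 hP hQ hPQ hij, fun i j hij => h.act2 hP hQ hPQ hij, ?_⟩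
  rw [hc]
  exact fun i j hij => h.act3 hP hQ hPQ hij

/-- the data which give `Base` -/
structure Pre' (p : ℕ) (z e n1 n2 g : G) (X : Fin 4 → Fin 4 → Subgroup G) : Prop where
  sqz : z * z = 1
  sqe : e * e = 1
  e_ne : e ≠ 1
  ze : z * e = e * z
  n1z : n1 * z = z * n1
  n1e : n1 * e * n1⁻¹ = e * z
  n2z : n2 * z = z * n2
  n2e : n2 * e * n2⁻¹ = e * z
  gz : g * z * g⁻¹ = e
  ge : g * e * g⁻¹ = z * e
  a1 : ∀ i j, i ≠ j → cj n1 (X i j) = X (Equiv.swap 0 1 i) (Equiv.swap 0 1 j)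
  a2 : ∀ i j, i ≠ j → cj n2 (X i j) = X (Equiv.swap 2 3 i) (Equiv.swap 2 3 j)
  a3 : ∀ i j, i ≠ j → cj g (X i j) = X (SixOf.cyc i) (SixOf.cyc j)
  n2mem : n2 ∈ K X 2 3
  card : Nat.card (X 0 2) = p
  iso : Nonempty (K X 0 2 ≃* SpecialLinearGroup (Fin 2) (ZMod p))
  emem : e ∈ K X 0 2
  fix : ∀ x ∈ X 0 2, e * x = x * e
  inv : ∀ x ∈ X 0 2, z * x * z⁻¹ = x⁻¹
  cK : ∀ x ∈ X 0 2, ∀ y ∈ K X 1 3, x * y = y * x
  row : ∀ x ∈ X 0 2, ∀ y ∈ X 0 3, x * y = y * x
  col : ∀ x ∈ X 0 2, ∀ y ∈ X 1 2, x * y = y * x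

namespace Pre'

variable {p : ℕ} {z e n1 n2 g : G} {X : Fin 4 → Fin 4 → Subgroup G} (h : Pre' p z e n1 n2 g X)

theorem conj_mul (s a b : G) : s * (a * b) * s⁻¹ = s * a * s⁻¹ * (s * b * s⁻¹) := by group

/-- conjugation on the three involutions -/
theorem zz_act {s : G} {σ : Equiv.Perm (Fin 4)} {a b : G} (ha : s * z * s⁻¹ = a) (hb : s * e * s⁻¹ = b)
    (hσ : ∀ i j, i ≠ j → zz a b i j = zz z e (σ i) (σ j)) {i j : Fin 4} (hij : i ≠ j) :
    s * zz z e i j * s⁻¹ = zz z e (σ i) (σ j) := by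
  rw [← hσ i j hij]
  have hab : s * (e * z) * s⁻¹ = b * a := by rw [conj_mul, ha, hb]
  fin_cases i <;> fin_cases j <;> first
    | exact absurd rfl hij | exact ha | exact hb | exact hab

include h

theorem act : ∀ σ, SixOf.Act X z e σ := by
  have hz2 : ∀ a : G, z * (z * a) = a := fun a => by rw [← mul_assoc, h.sqz, one_mul]
  have he2 : ∀ a : G, e * (e * a) = a := fun a => by rw [← mul_assoc, h.sqe, one_mul]
  have hze' : ∀ a : G, z * (e * a) = e * (z * a) := fun a => by rw [← mul_assoc, h.ze, mul_assoc]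
  refine SixOf.act_of_gens ?_ ?_ ?_
  · refine ⟨n1, h.a1, fun i j hij => zz_act (a := z) (b := e * z) ?_ h.n1e ?_ hij⟩
    · rw [h.n1z]; group
    · intro i j hij
      have e1 : e * z * z = e := by rw [mul_assoc, h.sqz, mul_one]
      fin_cases i <;> fin_cases j <;> first
        | exact absurd rfl hij | rfl | exact e1
  · refine ⟨n2, h.a2, fun i j hij => zz_act (a := z) (b := e * z) ?_ h.n2e ?_ hij⟩
    · rw [h.n2z]; group
    · intro i j hij
      have e1 : e * z * z = e := by rw [mul_assoc, h.sqz, mul_one]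
      fin_cases i <;> fin_cases j <;> first
        | exact absurd rfl hij | rfl | exact e1
  · refine ⟨g, h.a3, fun i j hij => zz_act (a := e) (b := z * e) h.gz h.ge ?_ hij⟩
    intro i j hij
    have e1 : z * e * e = z := by rw [mul_assoc, h.sqe, mul_one]
    have e2 : z * e = e * z := h.ze
    fin_cases i <;> fin_cases j <;> first
      | exact absurd rfl hij | rfl | exact e1 | exact e2

/-- `zz (σ 0) (σ 1)` inverts `X (σ 0) (σ 2)` -/
theorem inv_act (σ : Equiv.Perm (Fin 4)) {x : G} (hx : x ∈ X (σ 0) (σ 2)) :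
    zz z e (σ 0) (σ 1) * x * (zz z e (σ 0) (σ 1))⁻¹ = x⁻¹ := by
  obtain ⟨s, hs1, hs2⟩ := h.act σ
  rw [← hs1 0 2 (by decide)] at hx
  rw [← hs2 0 1 (by decide)]
  obtain ⟨y, hy, rfl⟩ := hx
  change s * z * s⁻¹ * (s * y * s⁻¹) * (s * z * s⁻¹)⁻¹ = (s * y * s⁻¹)⁻¹
  have h1 := h.inv y hy
  calc s * z * s⁻¹ * (s * y * s⁻¹) * (s * z * s⁻¹)⁻¹ = s * (z * y * z⁻¹) * s⁻¹ := by group
    _ = s * y⁻¹ * s⁻¹ := by rw [h1]
    _ = _ := by group

theorem card_act (σ : Equiv.Perm (Fin 4)) : Nat.card (X (σ 0) (σ 2)) = p := by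
  obtain ⟨s, hs1, -⟩ := h.act σ
  rw [← hs1 0 2 (by decide), ← h.card]
  exact Nat.card_congr ((X 0 2).equivMapOfInjective _ (MulAut.conj s).injective).toEquiv.symm

/-- the permutation `0 → 0, 1 → 2, 2 → 3, 3 → 1` -/
def p1 : Equiv.Perm (Fin 4) := Equiv.swap 1 2 * Equiv.swap 2 3

/-- the permutation `0 → 1, 1 → 3, 2 → 2, 3 → 0` -/
def p2 : Equiv.Perm (Fin 4) := Equiv.swap 0 1 * Equiv.swap 1 3

theorem inv03 {x : G} (hx : x ∈ X 0 3) : e * x * e⁻¹ = x⁻¹ := h.inv_act p1 hx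

theorem inv12 {x : G} (hx : x ∈ X 1 2) : e * x * e⁻¹ = x⁻¹ := h.inv_act p2 hx

theorem card03 : Nat.card (X 0 3) = p := h.card_act p1

theorem card12 : Nat.card (X 1 2) = p := h.card_act p2

theorem base [hp : Fact p.Prime] (h3 : 3 < p) {Q : Subgroup G} (hQ : StepFive.Core e (X 0 2) (K X 1 3) Q) :
    Base p X z e := by
  have hodd : Odd p := hp.out.odd_of_ne_two (by omega)
  have ord : ∀ (S : Subgroup G), Nat.card S = p → ∀ x ∈ S, Odd (orderOf x) := by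
    intro S hS x hx
    have h1 : orderOf x ∣ p := by
      rw [← hS]
      have := orderOf_dvd_natCard (⟨x, hx⟩ : S)
      rwa [Subgroup.orderOf_mk] at this
    exact hodd.of_dvd_nat h1
  have q03 : X 0 3 ≤ Q := by
    intro x hx
    refine hQ.mem x ?_ (ord _ h.card03 x hx) (h.inv03 hx)
    rw [StepFive.mem_cent]
    exact fun y hy => (h.row y hy x hx).symm
  have q12 : X 1 2 ≤ Q := by
    intro x hx
    refine hQ.mem x ?_ (ord _ h.card12 x hx) (h.inv12 hx)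
    rw [StepFive.mem_cent]
    exact fun y hy => (h.col y hy x hx).symm
  -- the element `m = g n₂ g⁻¹ ∈ K 1 3` interchanges the labels `1`, `3`
  have hm1 : ∀ i j, i ≠ j → cj (g * n2 * g⁻¹) (X i j) = X (Equiv.swap 1 3 i) (Equiv.swap 1 3 j) := by
    intro i j hij
    have e0 : cj g⁻¹ (X i j) = X (SixOf.cyc⁻¹ i) (SixOf.cyc⁻¹ j) := by
      have h1 := h.a3 (SixOf.cyc⁻¹ i) (SixOf.cyc⁻¹ j) (fun h2 => hij (SixOf.cyc⁻¹.injective h2))
      rw [← Equiv.Perm.mul_apply, ← Equiv.Perm.mul_apply, mul_inv_cancel, Equiv.Perm.one_apply, Equiv.Perm.one_apply] at h1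
      rw [← h1, SixOf.cj_cj, inv_mul_cancel, cj_one]
    rw [← SixOf.cj_cj, ← SixOf.cj_cj, e0, h.a2 _ _ (fun h2 => hij (SixOf.cyc⁻¹.injective h2)),
      h.a3 _ _ (fun h2 => hij (SixOf.cyc⁻¹.injective ((Equiv.swap 2 3).injective h2)))]
    have e1 : ∀ k, SixOf.cyc (Equiv.swap 2 3 (SixOf.cyc⁻¹ k)) = Equiv.swap 1 3 k := by decide
    rw [e1, e1]
  have hm2 : g * n2 * g⁻¹ ∈ K X 1 3 := by
    have h1 : K X 1 3 = cj g (K X 2 3) := by
      rw [K, K]
      change _ = Subgroup.map _ _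
      rw [Subgroup.map_sup]
      change _ = cj g (X 2 3) ⊔ cj g (X 3 2)
      rw [h.a3 2 3 (by decide), h.a3 3 2 (by decide)]
      rfl
    rw [h1]
    exact ⟨n2, h.n2mem, rfl⟩
  have hmc : g * n2 * g⁻¹ ∈ Subgroup.centralizer (X 0 2 : Set G) := by
    rw [StepFive.mem_cent]
    exact fun x hx => (h.cK x hx _ hm2).symm
  have q01 : X 0 1 ≤ Q := by
    have h1 := hm1 0 3 (by decide)
    have h2 : X 0 1 = cj (g * n2 * g⁻¹) (X 0 3) := h1.symm
    rw [h2]
    rintro _ ⟨y, hy, rfl⟩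
    exact hQ.norm _ hmc y (q03 hy)
  have q32 : X 3 2 ≤ Q := by
    have h1 := hm1 1 2 (by decide)
    have h2 : X 3 2 = cj (g * n2 * g⁻¹) (X 1 2) := h1.symm
    rw [h2]
    rintro _ ⟨y, hy, rfl⟩
    exact hQ.norm _ hmc y (q12 hy)
  exact
    { sqz := h.sqz
      sqe := h.sqe
      ze := h.ze
      act := h.act
      card := h.card
      iso := h.iso
      z_mem := h.emem
      z_ne := h.e_ne
      z_fix := h.fix
      z_row := h.inv
      row := h.row
      col := h.col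
      opp := fun x hx y hy => h.cK x hx y ((le_sup_left : X 1 3 ≤ K X 1 3) hy)
      com := fun x hx y hy => hQ.comm x (q01 hx) y (q12 hy)
      core := ⟨Q, hQ.odd, fun y hy => hQ.exists_mul y (by rw [StepFive.mem_cent]; exact hy),
        fun q hq hqe => hQ.fix q hq hqe.symm, hQ.comm, q01, q03, q12, q32⟩ }

end Pre'

end Cfsg.Agent.LFourFive.LabelsBase
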