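import Mathlib
import Cfsg.Agent.LFourFive.LabComp
import Cfsg.Agent.LFourFive.LabelsBase

/-!
# `CLab` from `InpFive`
-/

set_option autoImplicit false
set_option linter.unusedSectionVars false

namespace Cfsg.Agent.LFourFive

open Subgroup Cfsg.Agent.LFourR

universe u

variable {G : Type u} [Group G] {z e ρ n1 n2 h1 h2 : G} {L1 L2 U : Subgroup G}

/-- the components -/
def KK (ρ n1 : G) (L1 L2 : Subgroup G) : Fin 4 → Fin 4 → Subgroup G :=
  ![![⊥, L1, cg ρ L1, cg n1 (cg ρ L2)], ![L1, ⊥, cg n1 (cg ρ L1), cg ρ L2],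
    ![cg ρ L1, cg n1 (cg ρ L1), ⊥, L2], ![cg n1 (cg ρ L2), cg ρ L2, L2, ⊥]]

theorem KK_symm (ρ n1 : G) (L1 L2 : Subgroup G) (i j : Fin 4) : KK ρ n1 L1 L2 i j = KK ρ n1 L1 L2 j i := by
  fin_cases i <;> fin_cases j <;> rfl

namespace InpFive

variable (h : InpFive z e ρ n1 n2 h1 h2 L1 L2 U)

include h

theorem iso2 : Nonempty (L2 ≃* Matrix.SpecialLinearGroup (Fin 2) (ZMod 5)) := by
  obtain ⟨f⟩ := h.iso1
  rw [← h.swap]
  exact ⟨(cgEquiv _ L1).symm.trans f⟩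

theorem good1 : Good z e U L1 ∧ (∀ P, RR z e L1 P → cg n1 P ≠ P) ∧ ∀ P, RR z e L1 P → ∀ x ∈ P, e * x * e⁻¹ = x⁻¹ := by
  obtain ⟨A, B, r⟩ := exists_roots h.iso1 h.h1_mem h.h1_sq h.zz h.z_ne
  exact ⟨r.good h.z_L1 h.e_L1 (fun u hu => h.U_L1 hu) (fun u hu => h.U_comm u hu _ h.h1_U) h.iso1,
    fun P hP => r.move h.e_L1 h.n1_L1 h.n1_h1 hP, fun P hP => r.inv h.e_L1 hP⟩

theorem good2 : Good z e U L2 ∧ (∀ P, RR z e L2 P → cg n2 P ≠ P) := by
  obtain ⟨A, B, r⟩ := exists_roots h.iso2 h.h2_mem h.h2_sq h.zz h.z_ne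
  exact ⟨r.good h.z_L2 h.e_L2 (fun u hu => h.U_L2 hu) (fun u hu => h.U_comm u hu _ h.h2_U) h.iso2,
    fun P hP => r.move h.e_L2 h.n2_L2 h.n2_h2 hP⟩

theorem good02 : Good z e U (cg ρ L1) := h.good1.1.conj h.ρ_V h.U_ρ

theorem good13 : Good z e U (cg ρ L2) := h.good2.1.conj h.ρ_V h.U_ρ

theorem good12 : Good z e U (cg n1 (cg ρ L1)) := by
  rcases h.ρρ with ⟨h5, h6⟩ | ⟨h5, h6⟩
  · rw [← h5]; exact h.good1.1.conj h.ρρ_V h.ρρ_U
  · rw [← h6]; exact h.good2.1.conj h.ρρ_V h.ρρ_U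

theorem good03 : Good z e U (cg n1 (cg ρ L2)) := by
  rcases h.ρρ with ⟨h5, h6⟩ | ⟨h5, h6⟩
  · rw [← h6]; exact h.good2.1.conj h.ρρ_V h.ρρ_U
  · rw [← h5]; exact h.good1.1.conj h.ρρ_V h.ρρ_U

theorem good {i j : Fin 4} (hij : i ≠ j) : Good z e U (KK ρ n1 L1 L2 i j) := by
  fin_cases i <;> fin_cases j <;> first
    | exact absurd rfl hij
    | exact h.good1.1
    | exact h.good2.1
    | exact h.good02
    | exact h.good13
    | exact h.good12
    | exact h.good03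

theorem K_n1 {i j : Fin 4} (hij : i ≠ j) :
    cg n1 (KK ρ n1 L1 L2 i j) = KK ρ n1 L1 L2 (Labels.s1 i) (Labels.s1 j) := by
  fin_cases i <;> fin_cases j <;> first
    | exact absurd rfl hij
    | exact h.n1_L1
    | exact h.n1_L2
    | exact h.n1_K12
    | exact h.n1_K03
    | rfl

theorem K_n2 {i j : Fin 4} (hij : i ≠ j) :
    cg n2 (KK ρ n1 L1 L2 i j) = KK ρ n1 L1 L2 (Labels.s2 i) (Labels.s2 j) := by
  fin_cases i <;> fin_cases j <;> first
    | exact absurd rfl hij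
    | exact h.n2_L1
    | exact h.n2_L2
    | exact h.n2_K02
    | exact h.n2_K13
    | exact h.n2_K12
    | exact h.n2_K03

theorem K_g {g : G} (r : Rot z e ρ n1 n2 L1 L2 U g) {i j : Fin 4} (hij : i ≠ j) :
    cg g (KK ρ n1 L1 L2 i j) = KK ρ n1 L1 L2 (Labels.s3 i) (Labels.s3 j) := by
  fin_cases i <;> fin_cases j <;> first
    | exact absurd rfl hij
    | exact r.g01
    | exact r.g23
    | exact r.g02
    | exact r.g13
    | exact r.g12
    | exact r.g03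

/-- `U` fixes the root groups -/
theorem fixU {u : G} (hu : u ∈ U) : @Labels.Fix G (Subgroup G) _ (LabelsBase.cjAct G)
    (fun i j => RR z e (KK ρ n1 L1 L2 i j)) u :=
  fun _ _ hij P hP => (h.good hij).fix u hu P hP

end InpFive

namespace Rot

variable {g : G} (r : Rot z e ρ n1 n2 L1 L2 U g) (h : InpFive z e ρ n1 n2 h1 h2 L1 L2 U)

include r h

theorem g_ze : g * (z * e) * g⁻¹ = z := by
  rw [conj_mul3, r.g_z, r.g_e, h.ze, ← mul_assoc, h.ee, one_mul]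

theorem g_V : cg g (closure ({z, e} : Set G)) = closure {z, e} :=
  h.nv r.g_z r.g_e (a' := z * e) (b' := z) (by nth_rewrite 1 [← r.g_ze h]; group) (by nth_rewrite 1 [← r.g_z]; group)
    h.e_V h.ze_V h.ze_V h.z_V

theorem ggg_U : g * g * g ∈ U := by
  have q1 : g * g * g * z = z * (g * g * g) := by
    have h3 : g * g * g * z * (g * g * g)⁻¹ = z := by
      calc g * g * g * z * (g * g * g)⁻¹ = g * (g * (g * z * g⁻¹) * g⁻¹) * g⁻¹ := by group
        _ = z := by rw [r.g_z, r.g_e, r.g_ze h]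
    exact mul_inv_eq_iff_eq_mul.1 h3
  have q2 : g * g * g * e = e * (g * g * g) := by
    have h3 : g * g * g * e * (g * g * g)⁻¹ = e := by
      calc g * g * g * e * (g * g * g)⁻¹ = g * (g * (g * e * g⁻¹) * g⁻¹) * g⁻¹ := by group
        _ = e := by rw [r.g_e, r.g_ze h, r.g_z]
    exact mul_inv_eq_iff_eq_mul.1 h3
  refine h.mem_U q1 q2 ?_ ?_
  · rw [cg_mul, r.g01, cg_mul, r.g02, r.g12]
  · rw [cg_mul, r.g02, cg_mul, r.g12, r.g01]

theorem y1_U : n1 * g * n1⁻¹ * g ∈ U := by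
  have hn1 : n1⁻¹ = n1 * z := by
    rw [inv_eq_iff_mul_eq_one, ← mul_assoc, h.n1_sq, h.zz]
  have e1 : n1⁻¹ * e * n1 = z * e := by nth_rewrite 1 [← h.n1_ze]; group
  have e2 : n1⁻¹ * (z * e) * n1 = e := by nth_rewrite 1 [← h.n1_e]; group
  have q1 : n1 * g * n1⁻¹ * g * z = z * (n1 * g * n1⁻¹ * g) := by
    have h3 : n1 * g * n1⁻¹ * g * z * (n1 * g * n1⁻¹ * g)⁻¹ = z := by
      calc n1 * g * n1⁻¹ * g * z * (n1 * g * n1⁻¹ * g)⁻¹ = n1 * (g * (n1⁻¹ * (g * z * g⁻¹) * n1) * g⁻¹) * n1⁻¹ := by group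
        _ = z := by rw [r.g_z, e1, r.g_ze h, h.n1_z, mul_inv_cancel_right]
    exact mul_inv_eq_iff_eq_mul.1 h3
  have q2 : n1 * g * n1⁻¹ * g * e = e * (n1 * g * n1⁻¹ * g) := by
    have h3 : n1 * g * n1⁻¹ * g * e * (n1 * g * n1⁻¹ * g)⁻¹ = e := by
      calc n1 * g * n1⁻¹ * g * e * (n1 * g * n1⁻¹ * g)⁻¹ = n1 * (g * (n1⁻¹ * (g * e * g⁻¹) * n1) * g⁻¹) * n1⁻¹ := by group
        _ = e := by rw [r.g_e, e2, r.g_e, h.n1_ze]
    exact mul_inv_eq_iff_eq_mul.1 h3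
  have i1 : cg n1⁻¹ (cg ρ L1) = cg n1 (cg ρ L1) := cg_inv_eq h.n1_K12
  have i2 : cg n1⁻¹ (cg n1 (cg ρ L1)) = cg ρ L1 := cg_cg_inv _ _
  refine h.mem_U q1 q2 ?_ ?_
  · rw [cg_mul, r.g01, cg_mul, i1, cg_mul, r.g12, h.n1_L1]
  · rw [cg_mul, r.g02, cg_mul, i2, cg_mul, r.g02, h.n1_K12]

theorem y2_U : (g * g * (n1 * n2))⁻¹ * (n1 * n2 * g * (n1 * n2) * g) ∈ U := by
  have hcz : ∀ x : G, n1 * n2 * z * (n1 * n2)⁻¹ = z := fun _ => by rw [h.c_z, mul_inv_cancel_right]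
  have cz : n1 * n2 * z * (n1 * n2)⁻¹ = z := by rw [h.c_z, mul_inv_cancel_right]
  have ce : n1 * n2 * e * (n1 * n2)⁻¹ = e := by rw [h.c_e, mul_inv_cancel_right]
  have cze : n1 * n2 * (z * e) * (n1 * n2)⁻¹ = z * e := by rw [conj_mul3, cz, ce]
  set c := n1 * n2 with hc
  have a1 : c * g * c * g * z * (c * g * c * g)⁻¹ = z * e := by
    calc c * g * c * g * z * (c * g * c * g)⁻¹ = c * (g * (c * (g * z * g⁻¹) * c⁻¹) * g⁻¹) * c⁻¹ := by group
      _ = z * e := by rw [r.g_z, ce, r.g_e, cze]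
  have a2 : c * g * c * g * e * (c * g * c * g)⁻¹ = z := by
    calc c * g * c * g * e * (c * g * c * g)⁻¹ = c * (g * (c * (g * e * g⁻¹) * c⁻¹) * g⁻¹) * c⁻¹ := by group
      _ = z := by rw [r.g_e, cze, r.g_ze h, cz]
  have b1 : g * g * c * z * (g * g * c)⁻¹ = z * e := by
    calc g * g * c * z * (g * g * c)⁻¹ = g * (g * (c * z * c⁻¹) * g⁻¹) * g⁻¹ := by group
      _ = z * e := by rw [cz, r.g_z, r.g_e]
  have b2 : g * g * c * e * (g * g * c)⁻¹ = z := by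
    calc g * g * c * e * (g * g * c)⁻¹ = g * (g * (c * e * c⁻¹) * g⁻¹) * g⁻¹ := by group
      _ = z := by rw [ce, r.g_e, r.g_ze h]
  have q1 : (g * g * c)⁻¹ * (c * g * c * g) * z = z * ((g * g * c)⁻¹ * (c * g * c * g)) := by
    calc (g * g * c)⁻¹ * (c * g * c * g) * z
        = (g * g * c)⁻¹ * (c * g * c * g * z * (c * g * c * g)⁻¹) * (c * g * c * g) := by group
      _ = (g * g * c)⁻¹ * (g * g * c * z * (g * g * c)⁻¹) * (c * g * c * g) := by rw [a1, b1]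
      _ = _ := by group
  have q2 : (g * g * c)⁻¹ * (c * g * c * g) * e = e * ((g * g * c)⁻¹ * (c * g * c * g)) := by
    calc (g * g * c)⁻¹ * (c * g * c * g) * e
        = (g * g * c)⁻¹ * (c * g * c * g * e * (c * g * c * g)⁻¹) * (c * g * c * g) := by group
      _ = (g * g * c)⁻¹ * (g * g * c * e * (g * g * c)⁻¹) * (c * g * c * g) := by rw [a2, b2]
      _ = _ := by group
  have c1 : cg (c * g * c * g) L1 = cg (g * g * c) L1 := by
    rw [cg_mul, r.g01, cg_mul, h.c_K02, cg_mul, r.g13, h.c_K03, cg_mul, h.c_L1, cg_mul, r.g01, r.g02]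
  have c2 : cg (c * g * c * g) (cg ρ L1) = cg (g * g * c) (cg ρ L1) := by
    rw [cg_mul, r.g02, cg_mul, h.c_K12, cg_mul, r.g03, h.c_L2, cg_mul, h.c_K02, cg_mul, r.g13, r.g03]
  refine h.mem_U q1 q2 ?_ ?_
  · rw [cg_mul, c1]; exact cg_cg_inv _ _
  · rw [cg_mul, c2]; exact cg_cg_inv _ _

theorem clab : LabelsBase.CLab n1 n2 g (fun i j => RR z e (KK ρ n1 L1 L2 i j)) := by
  let _ := LabelsBase.cjAct G
  exact
    { symm := fun i j _ P hP => by rw [KK_symm]; exact hP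
      two := h.good02.two
      r1 := fun i j hij P hP => by
        have h3 := hP.conj h.n1_V
        rw [h.K_n1 hij] at h3
        exact h3
      r2 := fun i j hij P hP => by
        have h3 := hP.conj h.n2_V
        rw [h.K_n2 hij] at h3
        exact h3
      r3 := fun i j hij P hP => by
        have h3 := hP.conj (r.g_V h)
        rw [h.K_g r hij] at h3
        exact h3
      m1 := h.good1.2.1
      f1 := fun P hP => cg_self_of_comm (fun y hy => h.comm _ h.n1_mem y (hP.le hy))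
      m2 := h.good2.2
      f2 := fun P hP => cg_self_of_comm (fun y hy => (h.comm y (hP.le hy) _ h.n2_mem).symm)
      comm := h.n1n2
      z1 := h.fixU (by rw [h.n1_sq]; exact h.z_U)
      z2 := h.fixU (by rw [h.n2_sq]; exact h.z_U)
      g3 := h.fixU (r.ggg_U h)
      y1 := h.fixU (r.y1_U h)
      y2 := h.fixU (r.y2_U h) }

end Rot

end Cfsg.Agent.LFourFive
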