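import Cfsg.Agent.LFourFive.OneTwoSL

/-!
# S0510, `L₄(5)`: steps (1), (2)

`K = K₁₃`, `K' = K₂₄` commuting `SL(2, 5)` with the common central involution `e`, swapped by `c`, `X ≤ K` a subgroup
of order 5 inverted by `z`: `X`, `cXc⁻¹`, `n₁Xn₁⁻¹`, `n₂Xn₂⁻¹` commute pairwise.
-/

set_option autoImplicit false

open Subgroup

namespace Cfsg.Agent.LFourFive.OneTwo

variable {G : Type*} [Group G]

/-- The input of steps (1), (2). -/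
structure Inp (K K' X : Subgroup G) (z e c h h₁ n₁ n₂ σ : G) : Prop where
  iso : Nonempty (K ≃* SL5)
  comm : ∀ k ∈ K, ∀ k' ∈ K', k * k' = k' * k
  eK : e ∈ K
  eK' : e ∈ K'
  ee : e * e = 1
  e1 : e ≠ 1
  inf : ∀ a ∈ K, a ∈ K' → a = 1 ∨ a = e
  cK : ∀ k ∈ K, c * k * c⁻¹ ∈ K'
  cK' : ∀ k ∈ K', c * k * c⁻¹ ∈ K
  cc : c * c = 1
  zc : z * c = c * z
  hK : h ∈ K
  hh : h * h = e
  zK : ∀ k ∈ K, z * k * z⁻¹ = h * k * h⁻¹
  XK : X ≤ K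
  card : Nat.card X = 5
  Xz : ∀ x ∈ X, z * x * z⁻¹ = x⁻¹
  Xh : ∀ x ∈ X, h₁ * x * h₁⁻¹ ∈ X
  hz : h₁ * h₁ = z
  nz : n₁ * n₁ = z
  ch : c * h₁ * c⁻¹ = h₁⁻¹
  nh : n₁ * h₁ * n₁⁻¹ = h₁⁻¹
  cn : c = n₁ * n₂
  sz : σ * z * σ⁻¹ = z
  se : σ * e * σ⁻¹ = c
  sc : σ * c * σ⁻¹ = e * c
  sh : σ * h₁ * σ⁻¹ = n₁
  sn : σ * n₁ * σ⁻¹ = h₁ * n₁
  s3 : σ ^ 3 = 1
  cen : ∀ p : G, p * e = e * p → p ^ 5 = 1 → ∃ a ∈ K, ∃ b ∈ K', p = a * b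

namespace Inp

variable {K K' X : Subgroup G} {z e c h h₁ n₁ n₂ σ : G} (I : Inp K K' X z e c h h₁ n₁ n₂ σ)

include I

theorem cinv : c⁻¹ = c := inv_eq_of_mul_eq_one_left I.cc

theorem five {x : G} (hx : x ∈ X) : x ^ 5 = 1 := by
  have h1 := pow_card_eq_one' (x := (⟨x, hx⟩ : X))
  rw [I.card] at h1
  exact congrArg Subtype.val h1

theorem e5 : e ^ 5 = e := by
  have h1 : e ^ 2 = 1 := by rw [pow_two, I.ee]
  calc e ^ 5 = (e ^ 2) ^ 2 * e := by rw [← pow_mul, ← pow_succ]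
    _ = e := by rw [h1, one_pow, one_mul]

theorem comm' {k k' : G} (hk : k ∈ K) (hk' : k' ∈ K') : Commute k k' := I.comm k hk k' hk'

/-- `r(x) = x · cxc⁻¹` -/
theorem r_five {a : G} (ha : a ∈ K) (h5 : a ^ 5 = 1) : (a * (c * a * c⁻¹)) ^ 5 = 1 := by
  rw [(I.comm' ha (I.cK a ha)).mul_pow, h5, conj_pow, h5]
  group

theorem r_e {a : G} (ha : a ∈ K) : a * (c * a * c⁻¹) * e = e * (a * (c * a * c⁻¹)) := by
  have h1 : c * a * c⁻¹ * e = e * (c * a * c⁻¹) := (I.comm e I.eK _ (I.cK a ha)).symm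
  have h2 : a * e = e * a := I.comm a ha e I.eK'
  rw [mul_assoc, h1, ← mul_assoc, h2, mul_assoc]

theorem r_c {a : G} (ha : a ∈ K) : c * (a * (c * a * c⁻¹)) * c⁻¹ = a * (c * a * c⁻¹) := by
  have h1 : c * (a * (c * a * c⁻¹)) * c⁻¹ = (c * a * c⁻¹) * (c * c * a * (c * c)⁻¹) := by group
  rw [h1, I.cc, one_mul, inv_one, mul_one]
  exact (I.comm a ha _ (I.cK a ha)).symm

theorem zca {a : G} : z * (c * a * c⁻¹) * z⁻¹ = c * (z * a * z⁻¹) * c⁻¹ := by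
  have h1 : z * (c * a * c⁻¹) * z⁻¹ = (z * c) * a * (z * c)⁻¹ := by group
  rw [h1, I.zc]; group

theorem r_z {a : G} (ha : a ∈ K) (hz : z * a * z⁻¹ = a⁻¹) :
    z * (a * (c * a * c⁻¹)) * z⁻¹ = (a * (c * a * c⁻¹))⁻¹ := by
  have h1 : z * (a * (c * a * c⁻¹)) * z⁻¹ = (z * a * z⁻¹) * (z * (c * a * c⁻¹) * z⁻¹) := by group
  have h2 : c * a⁻¹ * c⁻¹ = (c * a * c⁻¹)⁻¹ := by group
  rw [h1, I.zca, hz, h2, (I.comm' ha (I.cK a ha)).inv_inv.eq, ← mul_inv_rev]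

theorem r_pow {a : G} (ha : a ∈ K) (n : ℤ) : (a * (c * a * c⁻¹)) ^ n = a ^ n * (c * a ^ n * c⁻¹) := by
  rw [(I.comm' ha (I.cK a ha)).mul_zpow, conj_zpow]

theorem r_one {a : G} (ha : a ∈ K) (h5 : a ^ 5 = 1) (h1 : a * (c * a * c⁻¹) = 1) : a = 1 := by
  have h2 : a ∈ K' := by
    have h3 : a = (c * a * c⁻¹)⁻¹ := eq_inv_of_mul_eq_one_left h1
    rw [h3]
    exact K'.inv_mem (I.cK a ha)
  rcases I.inf a ha h2 with h3 | h3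
  · exact h3
  · rw [h3, I.e5] at h5
    exact absurd h5 I.e1

/-- an element of order 5 centralized by `e`, `c` and inverted by `z` is an `r(a)` -/
theorem exists_r {p : G} (h5 : p ^ 5 = 1) (he : p * e = e * p) (hc : c * p * c⁻¹ = p)
    (hz : z * p * z⁻¹ = p⁻¹) :
    ∃ a ∈ K, a ^ 5 = 1 ∧ z * a * z⁻¹ = a⁻¹ ∧ p = a * (c * a * c⁻¹) := by
  have e5 : e ^ 5 = e := I.e5
  -- normalize
  obtain ⟨a, ha, b, hb, hp, ha5, hb5⟩ : ∃ a ∈ K, ∃ b ∈ K', p = a * b ∧ a ^ 5 = 1 ∧ b ^ 5 = 1 := by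
    obtain ⟨a, ha, b, hb, hp⟩ := I.cen p he h5
    have h1 : a ^ 5 * b ^ 5 = 1 := by
      rw [← (I.comm' ha hb).mul_pow, ← hp, h5]
    have h2 : a ^ 5 ∈ K' := by
      rw [eq_inv_of_mul_eq_one_left h1]
      exact K'.inv_mem (K'.pow_mem hb 5)
    rcases I.inf _ (K.pow_mem ha 5) h2 with h3 | h3
    · exact ⟨a, ha, b, hb, hp, h3, by rwa [h3, one_mul] at h1⟩
    · refine ⟨a * e, K.mul_mem ha I.eK, e * b, K'.mul_mem I.eK' hb, ?_, ?_, ?_⟩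
      · calc p = a * (e * e) * b := by rw [I.ee, mul_one, hp]
          _ = a * e * (e * b) := by group
      · rw [(I.comm' ha I.eK').mul_pow, h3, e5, I.ee]
      · rw [(I.comm' I.eK hb).mul_pow, e5]
        rwa [h3] at h1
  have key : ∀ a' ∈ K, a' ^ 5 = 1 → (a⁻¹ * a' = 1 ∨ a⁻¹ * a' = e) → a' = a := by
    intro a' _ h5' h1
    rcases h1 with h1 | h1
    · exact (inv_mul_eq_one.mp h1).symm
    · exfalso
      have h2 : a' = a * e := by rw [← h1]; group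
      rw [h2, (I.comm' ha I.eK').mul_pow, ha5, e5, one_mul] at h5'
      exact I.e1 h5'
  have hcb : c * b * c⁻¹ = a := by
    apply key _ (I.cK' b hb)
    · rw [conj_pow, hb5]; group
    · apply I.inf _ (K.mul_mem (K.inv_mem ha) (I.cK' b hb))
      have h1 : (c * b * c⁻¹) * (c * a * c⁻¹) = a * b := by
        have h2 : c * p * c⁻¹ = (c * a * c⁻¹) * (c * b * c⁻¹) := by rw [hp]; group
        rw [I.comm _ (I.cK' b hb) _ (I.cK a ha), ← h2, hc, hp]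
      have h3 : a⁻¹ * (c * b * c⁻¹) = b * (c * a * c⁻¹)⁻¹ := by
        rw [eq_mul_inv_iff_mul_eq, mul_assoc, h1, inv_mul_cancel_left]
      rw [h3]
      exact K'.mul_mem hb (K'.inv_mem (I.cK a ha))
  have hb' : b = c * a * c⁻¹ := by
    rw [← hcb]
    calc b = (c * c) * b * (c * c)⁻¹ := by rw [I.cc]; group
      _ = c * (c * b * c⁻¹) * c⁻¹ := by group
  refine ⟨a, ha, ha5, ?_, by rw [hp, ← hb']⟩
  have hzK : z * a * z⁻¹ ∈ K := by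
    rw [I.zK a ha]
    exact K.mul_mem (K.mul_mem I.hK ha) (K.inv_mem I.hK)
  have hzK' : z * b * z⁻¹ ∈ K' := by
    rw [hb', I.zca]
    exact I.cK _ hzK
  have h1 : (z * a * z⁻¹)⁻¹ = a := by
    apply key _ (K.inv_mem hzK)
    · rw [inv_pow, conj_pow, ha5]; group
    · apply I.inf _ (K.mul_mem (K.inv_mem ha) (K.inv_mem hzK))
      have h2 : (z * a * z⁻¹) * (z * b * z⁻¹) * (a * b) = 1 := by
        have e1 : (z * a * z⁻¹) * (z * b * z⁻¹) = z * p * z⁻¹ := by rw [hp]; group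
        rw [e1, hz, ← hp, inv_mul_cancel]
      have h4 : (z * a * z⁻¹) * a * ((z * b * z⁻¹) * b) = 1 := by
        calc (z * a * z⁻¹) * a * ((z * b * z⁻¹) * b)
            = (z * a * z⁻¹) * (a * (z * b * z⁻¹)) * b := by group
          _ = (z * a * z⁻¹) * ((z * b * z⁻¹) * a) * b := by rw [I.comm _ ha _ hzK']
          _ = (z * a * z⁻¹) * (z * b * z⁻¹) * (a * b) := by group
          _ = 1 := h2
      have h3 : a⁻¹ * (z * a * z⁻¹)⁻¹ = (z * b * z⁻¹) * b := by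
        rw [← mul_inv_rev]
        exact inv_eq_of_mul_eq_one_right h4
      rw [h3]
      exact K'.mul_mem hzK' hb
  rw [← h1, inv_inv, h1]

/-! ### `σ` normalizes `R` -/

theorem ce : c * e * c⁻¹ = e := by
  rcases I.inf _ (I.cK' e I.eK') (I.cK e I.eK) with h1 | h1
  · exfalso
    apply I.e1
    calc e = c⁻¹ * (c * e * c⁻¹) * c := by group
      _ = 1 := by rw [h1]; group
  · exact h1

theorem ec : e * c = c * e := by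
  calc e * c = (c * e * c⁻¹) * c := by rw [I.ce]
    _ = c * e := by group

/-- the properties of `p = r(a)` are invariant under `σ` -/
theorem step {p : G} (h5 : p ^ 5 = 1) (he : p * e = e * p) (hc : c * p * c⁻¹ = p)
    (hz : z * p * z⁻¹ = p⁻¹) :
    (σ * p * σ⁻¹) ^ 5 = 1 ∧ (σ * p * σ⁻¹) * e = e * (σ * p * σ⁻¹) ∧
      c * (σ * p * σ⁻¹) * c⁻¹ = σ * p * σ⁻¹ ∧ z * (σ * p * σ⁻¹) * z⁻¹ = (σ * p * σ⁻¹)⁻¹ := by
  have hpe : Commute p e := he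
  have hpc : Commute p c := by
    change p * c = c * p
    calc p * c = (c * p * c⁻¹) * c := by rw [hc]
      _ = c * p := by group
  have conj : ∀ {a b : G}, Commute a b → Commute (σ * a * σ⁻¹) (σ * b * σ⁻¹) := by
    intro a b hab
    change σ * a * σ⁻¹ * (σ * b * σ⁻¹) = σ * b * σ⁻¹ * (σ * a * σ⁻¹)
    calc σ * a * σ⁻¹ * (σ * b * σ⁻¹) = σ * (a * b) * σ⁻¹ := by group
      _ = σ * (b * a) * σ⁻¹ := by rw [hab.eq]
      _ = σ * b * σ⁻¹ * (σ * a * σ⁻¹) := by group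
  have h1 : Commute (σ * p * σ⁻¹) c := by
    have := conj hpe
    rwa [I.se] at this
  have h2 : Commute (σ * p * σ⁻¹) (e * c) := by
    have := conj hpc
    rwa [I.sc] at this
  have h3 : Commute (σ * p * σ⁻¹) e := by
    have h4 := h2.mul_right h1.inv_right
    rwa [mul_inv_cancel_right] at h4
  refine ⟨?_, h3.eq, ?_, ?_⟩
  · rw [conj_pow, h5]; group
  · calc c * (σ * p * σ⁻¹) * c⁻¹ = (σ * p * σ⁻¹) * c * c⁻¹ := by rw [h1.eq]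
      _ = σ * p * σ⁻¹ := by group
  · calc z * (σ * p * σ⁻¹) * z⁻¹ = (σ * z * σ⁻¹) * (σ * p * σ⁻¹) * (σ * z * σ⁻¹)⁻¹ := by rw [I.sz]
      _ = σ * (z * p * z⁻¹) * σ⁻¹ := by group
      _ = (σ * p * σ⁻¹)⁻¹ := by rw [hz]; group

theorem zpow_of_mem_zpowers {a b : G} (ha : a ∈ K) (hb : b ∈ K) (h : (⟨b, hb⟩ : K) ∈ zpowers (⟨a, ha⟩ : K)) :
    b * (c * b * c⁻¹) ∈ zpowers (a * (c * a * c⁻¹)) := by
  obtain ⟨n, hn⟩ := mem_zpowers_iff.mp h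
  have h1 : a ^ n = b := congrArg Subtype.val hn
  refine mem_zpowers_iff.mpr ⟨n, ?_⟩
  rw [I.r_pow ha, h1]

/-- a generator of `X` -/
theorem exists_gen : ∃ x ∈ X, x ≠ 1 ∧ ∀ y ∈ X, y ∈ zpowers x := by
  have hp : Fact (Nat.Prime 5) := ⟨by norm_num⟩
  have hcyc : IsCyclic X := isCyclic_of_prime_card (p := 5) I.card
  obtain ⟨g, hg⟩ := hcyc.exists_generator
  refine ⟨g, g.2, ?_, ?_⟩
  · intro h1
    have h2 : ∀ y : X, y = 1 := by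
      intro y
      obtain ⟨n, hn⟩ := mem_zpowers_iff.mp (hg y)
      rw [← hn]
      apply Subtype.ext
      rw [SubgroupClass.coe_zpow, h1, one_zpow, OneMemClass.coe_one]
    have h3 : Nat.card X = 1 := by
      have : Subsingleton X := ⟨fun a b => (h2 a).trans (h2 b).symm⟩
      exact Nat.card_of_subsingleton (1 : X)
    rw [I.card] at h3
    omega
  · intro y hy
    obtain ⟨n, hn⟩ := mem_zpowers_iff.mp (hg ⟨y, hy⟩)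
    refine mem_zpowers_iff.mpr ⟨n, ?_⟩
    have := congrArg Subtype.val hn
    rwa [SubgroupClass.coe_zpow] at this

omit I in
theorem inv_mem_zpowers_of_prime {p q : G} (hq : q ^ 5 = 1) (hp : p ≠ 1) (h : p ∈ zpowers q) :
    q ∈ zpowers p := by
  have hpr : Fact (Nat.Prime 5) := ⟨by norm_num⟩
  have hq1 : q ≠ 1 := by
    rintro rfl
    rw [zpowers_one_eq_bot, mem_bot] at h
    exact hp h
  have h5 : orderOf q = 5 := orderOf_eq_prime hq hq1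
  have hcard : Nat.card (zpowers q) = 5 := by rw [Nat.card_zpowers, h5]
  have hle : zpowers p ≤ zpowers q := by rwa [zpowers_le]
  have hfin : Finite (zpowers q) := Nat.finite_of_card_ne_zero (by rw [hcard]; norm_num)
  have hd : Nat.card (zpowers p) ∣ 5 := hcard ▸ card_dvd_of_le hle
  rcases (Nat.dvd_prime hpr.out).mp hd with h1 | h1
  · exfalso
    rw [Nat.card_zpowers, orderOf_eq_one_iff] at h1
    exact hp h1
  · have h2 : zpowers p = zpowers q := Subgroup.eq_of_le_of_card_ge hle (by rw [h1, hcard])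
    rw [h2]
    exact mem_zpowers q

/-- **Step (2)**: `σ r(x) σ⁻¹ ∈ R`. -/
theorem sigma_mem {x : G} (hx : x ∈ X) (hx1 : x ≠ 1) :
    σ * (x * (c * x * c⁻¹)) * σ⁻¹ ∈ zpowers (x * (c * x * c⁻¹)) := by
  obtain ⟨f⟩ := I.iso
  have hxK := I.XK hx
  have x5 := I.five hx
  obtain ⟨p, hp⟩ : ∃ p, p = x * (c * x * c⁻¹) := ⟨_, rfl⟩
  have p5 : p ^ 5 = 1 := hp ▸ I.r_five hxK x5
  have pe : p * e = e * p := hp ▸ I.r_e hxK
  have pc : c * p * c⁻¹ = p := hp ▸ I.r_c hxK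
  have pz : z * p * z⁻¹ = p⁻¹ := hp ▸ I.r_z hxK (I.Xz x hx)
  have p1 : p ≠ 1 := fun h1 => hx1 (I.r_one hxK x5 (hp ▸ h1))
  obtain ⟨q5, qe, qc, qz⟩ := I.step p5 pe pc pz
  obtain ⟨t5, te, tc, tz⟩ := I.step q5 qe qc qz
  have q1 : σ * p * σ⁻¹ ≠ 1 := fun h1 => p1 (by
    calc p = σ⁻¹ * (σ * p * σ⁻¹) * σ := by group
      _ = 1 := by rw [h1]; group)
  have t1 : σ * (σ * p * σ⁻¹) * σ⁻¹ ≠ 1 := fun h1 => q1 (by
    calc σ * p * σ⁻¹ = σ⁻¹ * (σ * (σ * p * σ⁻¹) * σ⁻¹) * σ := by group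
      _ = 1 := by rw [h1]; group)
  obtain ⟨a, ha, a5, az, hqa⟩ := I.exists_r q5 qe qc qz
  obtain ⟨b, hb, b5, bz, htb⟩ := I.exists_r t5 te tc tz
  have a1 : a ≠ 1 := by
    rintro rfl
    apply q1
    rw [hqa]; group
  have b1 : b ≠ 1 := by
    rintro rfl
    apply t1
    rw [htb]; group
  -- transport to `SL(2, 5)`
  have hmem : ∀ {u v : G} (hu : u ∈ K) (hv : v ∈ K), f ⟨v, hv⟩ ∈ zpowers (f ⟨u, hu⟩) →
      (⟨v, hv⟩ : K) ∈ zpowers (⟨u, hu⟩ : K) := by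
    intro u v hu hv h1
    obtain ⟨n, hn⟩ := mem_zpowers_iff.mp h1
    refine mem_zpowers_iff.mpr ⟨n, ?_⟩
    apply f.injective
    rw [map_zpow, hn]
  have hfive : ∀ {u : G} (hu : u ∈ K), u ^ 5 = 1 → f ⟨u, hu⟩ ^ 5 = 1 := by
    intro u hu h1
    rw [← map_pow]
    have : (⟨u, hu⟩ : K) ^ 5 = 1 := Subtype.ext h1
    rw [this, map_one]
  have hne : ∀ {u : G} (hu : u ∈ K), u ≠ 1 → f ⟨u, hu⟩ ≠ 1 := by
    intro u hu h1 h2
    apply h1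
    have : (⟨u, hu⟩ : K) = 1 := f.injective (by rw [h2, map_one])
    exact congrArg Subtype.val this
  have hinv : ∀ {u : G} (hu : u ∈ K), z * u * z⁻¹ = u⁻¹ →
      f ⟨h, I.hK⟩ * f ⟨u, hu⟩ * (f ⟨h, I.hK⟩)⁻¹ = (f ⟨u, hu⟩)⁻¹ := by
    intro u hu h1
    rw [← map_mul, ← map_inv, ← map_mul, ← map_inv]
    congr 1
    apply Subtype.ext
    change h * u * h⁻¹ = u⁻¹
    rw [← I.zK u hu, h1]
  have hH : f ⟨h, I.hK⟩ * f ⟨h, I.hK⟩ ≠ 1 := by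
    rw [← map_mul]
    have : (⟨h, I.hK⟩ : K) * ⟨h, I.hK⟩ = ⟨e, I.eK⟩ := Subtype.ext I.hh
    rw [this]
    exact hne I.eK I.e1
  have hH4 : f ⟨h, I.hK⟩ * f ⟨h, I.hK⟩ * (f ⟨h, I.hK⟩ * f ⟨h, I.hK⟩) = 1 := by
    rw [← map_mul, ← map_mul]
    have : (⟨h, I.hK⟩ : K) * ⟨h, I.hK⟩ * (⟨h, I.hK⟩ * ⟨h, I.hK⟩) = 1 := by
      apply Subtype.ext
      change h * h * (h * h) = 1
      rw [I.hh, I.ee]
    rw [this, map_one]
  have h3 := two_roots hH hH4 (hfive hxK x5) (hne hxK hx1) (hinv hxK (I.Xz x hx)) (hfive ha a5)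
    (hne ha a1) (hinv ha az) (hfive hb b5) (hinv hb bz)
  rw [← hp]
  rcases h3 with h3 | h3 | h3
  · rw [hqa, hp]
    exact I.zpow_of_mem_zpowers hxK ha (hmem _ _ h3)
  · have h4 : σ * (σ * p * σ⁻¹) * σ⁻¹ ∈ zpowers p := by
      rw [htb, hp]
      exact I.zpow_of_mem_zpowers hxK hb (hmem _ _ h3)
    obtain ⟨n, hn⟩ := mem_zpowers_iff.mp h4
    have h5 : p ∈ zpowers (σ * p * σ⁻¹) := by
      refine mem_zpowers_iff.mpr ⟨n, ?_⟩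
      rw [conj_zpow, hn]
      have e1 : σ * (σ * (σ * p * σ⁻¹) * σ⁻¹) * σ⁻¹ = (σ * σ * σ) * p * (σ * σ * σ)⁻¹ := by group
      have e2 : σ * σ * σ = 1 := by rw [← I.s3, pow_succ, pow_two]
      rw [e1, e2, one_mul, inv_one, mul_one]
    exact inv_mem_zpowers_of_prime q5 p1 h5
  · have h4 : σ * (σ * p * σ⁻¹) * σ⁻¹ ∈ zpowers (σ * p * σ⁻¹) := by
      rw [htb, hqa]
      exact I.zpow_of_mem_zpowers ha hb (hmem _ _ h3)
    obtain ⟨n, hn⟩ := mem_zpowers_iff.mp h4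
    refine mem_zpowers_iff.mpr ⟨n, ?_⟩
    rw [conj_zpow] at hn
    have e1 : σ⁻¹ * (σ * p ^ n * σ⁻¹) * σ = σ⁻¹ * (σ * (σ * p * σ⁻¹) * σ⁻¹) * σ := by rw [hn]
    calc p ^ n = σ⁻¹ * (σ * p ^ n * σ⁻¹) * σ := by group
      _ = σ⁻¹ * (σ * (σ * p * σ⁻¹) * σ⁻¹) * σ := e1
      _ = σ * p * σ⁻¹ := by group

/-! ### the four root groups commute -/

omit I in
theorem conj_comm {g a b : G} (h : Commute a b) : Commute (g * a * g⁻¹) (g * b * g⁻¹) := by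
  change g * a * g⁻¹ * (g * b * g⁻¹) = g * b * g⁻¹ * (g * a * g⁻¹)
  calc g * a * g⁻¹ * (g * b * g⁻¹) = g * (a * b) * g⁻¹ := by group
    _ = g * (b * a) * g⁻¹ := by rw [h.eq]
    _ = g * b * g⁻¹ * (g * a * g⁻¹) := by group

theorem zinv {y : G} (hy : y ∈ X) : z⁻¹ * y * z = y⁻¹ := by
  have h1 := I.Xz _ (X.inv_mem hy)
  rw [inv_inv] at h1
  calc z⁻¹ * y * z = z⁻¹ * (z * y⁻¹ * z⁻¹) * z := by rw [h1]
    _ = y⁻¹ := by group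

theorem hinv' {y : G} (hy : y ∈ X) : h₁⁻¹ * y * h₁ = h₁ * y⁻¹ * h₁⁻¹ := by
  rw [← I.zinv hy, ← I.hz]
  group

theorem h_r {y : G} (hy : y ∈ X) :
    h₁ * (y * (c * y * c⁻¹)) * h₁⁻¹ = (h₁ * y * h₁⁻¹) * (c * (h₁ * y * h₁⁻¹)⁻¹ * c⁻¹) := by
  have h1 : c⁻¹ * h₁ * c = h₁⁻¹ := by
    rw [I.cinv, ← I.ch, I.cinv]
  have h2 : h₁ * (y * (c * y * c⁻¹)) * h₁⁻¹ =
      (h₁ * y * h₁⁻¹) * (c * ((c⁻¹ * h₁ * c) * y * (c⁻¹ * h₁ * c)⁻¹) * c⁻¹) := by group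
  have h3 : h₁⁻¹ * y * h₁⁻¹⁻¹ = (h₁ * y * h₁⁻¹)⁻¹ := by
    rw [inv_inv, I.hinv' hy]; group
  rw [h2, h1, h3]

theorem X_comm {x y : G} (hx : x ∈ X) (hy : y ∈ X) : Commute x y := by
  obtain ⟨g, -, -, hg⟩ := I.exists_gen
  obtain ⟨n, hn⟩ := mem_zpowers_iff.mp (hg x hx)
  obtain ⟨m, hm⟩ := mem_zpowers_iff.mp (hg y hy)
  rw [← hn, ← hm]
  exact (Commute.refl g).zpow_zpow n m

theorem f1 {x y : G} (hx : x ∈ X) (hy : y ∈ X) :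
    Commute (x * (c * x * c⁻¹)) (h₁ * (y * (c * y * c⁻¹)) * h₁⁻¹) := by
  rw [I.h_r hy]
  have hy' := I.Xh y hy
  have h1 := I.X_comm hx hy'
  have h2 : Commute x (c * (h₁ * y * h₁⁻¹)⁻¹ * c⁻¹) :=
    I.comm' (I.XK hx) (I.cK _ (K.inv_mem (I.XK hy')))
  have h3 : Commute (c * x * c⁻¹) (h₁ * y * h₁⁻¹) := (I.comm' (I.XK hy') (I.cK _ (I.XK hx))).symm
  have h4 : Commute (c * x * c⁻¹) (c * (h₁ * y * h₁⁻¹)⁻¹ * c⁻¹) :=
    conj_comm h1.inv_right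
  exact (h1.mul_right h2).mul_left (h3.mul_right h4)

/-- **Steps (1), (2)**: the four root groups commute. -/
theorem main {x y : G} (hx : x ∈ X) (hy : y ∈ X) :
    x * (c * y * c⁻¹) = c * y * c⁻¹ * x ∧ x * (n₁ * y * n₁⁻¹) = n₁ * y * n₁⁻¹ * x ∧
      x * (n₂ * y * n₂⁻¹) = n₂ * y * n₂⁻¹ * x := by
  obtain ⟨g, hgX, hg1, hg⟩ := I.exists_gen
  obtain ⟨p, hp⟩ : ∃ p, p = g * (c * g * c⁻¹) := ⟨_, rfl⟩
  have hgK := I.XK hgX
  have p5 : p ^ 5 = 1 := hp ▸ I.r_five hgK (I.five hgX)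
  have p1 : p ≠ 1 := fun h1 => hg1 (I.r_one hgK (I.five hgX) (hp ▸ h1))
  have hs := I.sigma_mem hgX hg1
  rw [← hp] at hs
  have hr : ∀ {a : G}, a ∈ X → a * (c * a * c⁻¹) ∈ zpowers p := by
    intro a ha
    obtain ⟨n, hn⟩ := mem_zpowers_iff.mp (hg a ha)
    refine mem_zpowers_iff.mpr ⟨n, ?_⟩
    rw [hp, I.r_pow hgK, hn]
  have hR : ∀ {q : G}, q ∈ zpowers p → ∃ a ∈ X, q = a * (c * a * c⁻¹) := by
    intro q hq
    obtain ⟨n, rfl⟩ := mem_zpowers_iff.mp hq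
    exact ⟨g ^ n, X.zpow_mem hgX n, by rw [hp, I.r_pow hgK]⟩
  have hs' : σ⁻¹ * p * σ ∈ zpowers p := by
    have h1 : σ * p * σ⁻¹ ≠ 1 := fun h1 => p1 (by
      calc p = σ⁻¹ * (σ * p * σ⁻¹) * σ := by group
        _ = 1 := by rw [h1]; group)
    obtain ⟨m, hm⟩ := mem_zpowers_iff.mp (inv_mem_zpowers_of_prime p5 h1 hs)
    refine mem_zpowers_iff.mpr ⟨m, ?_⟩
    rw [conj_zpow] at hm
    calc p ^ m = σ⁻¹ * (σ * p ^ m * σ⁻¹) * σ := by group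
      _ = σ⁻¹ * p * σ := by rw [hm]
  have hsR : ∀ {q : G}, q ∈ zpowers p → σ⁻¹ * q * σ ∈ zpowers p := by
    intro q hq
    obtain ⟨n, rfl⟩ := mem_zpowers_iff.mp hq
    have e1 : σ⁻¹ * p ^ n * σ = (σ⁻¹ * p * σ) ^ n := by
      have := conj_zpow (a := σ⁻¹) (b := p) (i := n)
      rw [inv_inv] at this
      exact this.symm
    rw [e1]
    exact zpow_mem hs' n
  have F1 : ∀ {q q' : G}, q ∈ zpowers p → q' ∈ zpowers p → Commute q (h₁ * q' * h₁⁻¹) := by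
    intro q q' hq hq'
    obtain ⟨a, ha, rfl⟩ := hR hq
    obtain ⟨b, hb, rfl⟩ := hR hq'
    exact I.f1 ha hb
  have F2 : ∀ {q q' : G}, q ∈ zpowers p → q' ∈ zpowers p → Commute q (n₁ * q' * n₁⁻¹) := by
    intro q q' hq hq'
    have h1 := conj_comm (g := σ) (F1 (hsR hq) (hsR hq'))
    have e1 : σ * (σ⁻¹ * q * σ) * σ⁻¹ = q := by group
    have e2 : σ * (h₁ * (σ⁻¹ * q' * σ) * h₁⁻¹) * σ⁻¹ = (σ * h₁ * σ⁻¹) * q' * (σ * h₁ * σ⁻¹)⁻¹ := by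
      group
    rwa [e1, e2, I.sh] at h1
  have F3 : ∀ {q q' : G}, q ∈ zpowers p → q' ∈ zpowers p →
      Commute q ((h₁ * n₁) * q' * (h₁ * n₁)⁻¹) := by
    intro q q' hq hq'
    have h1 := conj_comm (g := σ) (F2 (hsR hq) (hsR hq'))
    have e1 : σ * (σ⁻¹ * q * σ) * σ⁻¹ = q := by group
    have e2 : σ * (n₁ * (σ⁻¹ * q' * σ) * n₁⁻¹) * σ⁻¹ = (σ * n₁ * σ⁻¹) * q' * (σ * n₁ * σ⁻¹)⁻¹ := by
      group
    rwa [e1, e2, I.sn] at h1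
  have hzR : ∀ {q : G}, q ∈ zpowers p → z * q * z⁻¹ = q⁻¹ := by
    intro q hq
    obtain ⟨a, ha, rfl⟩ := hR hq
    exact I.r_z (I.XK ha) (I.Xz a ha)
  have nh' : n₁ * h₁ = h₁⁻¹ * n₁ := by rw [← I.nh]; group
  have nh2 : n₁ * h₁ = z⁻¹ * (h₁ * n₁) := by rw [nh', ← I.hz]; group
  have F4 : ∀ {q q' : G}, q ∈ zpowers p → q' ∈ zpowers p →
      Commute q ((n₁ * h₁) * q' * (n₁ * h₁)⁻¹) := by
    intro q q' hq hq'
    have h1 := F3 ((zpowers p).inv_mem hq) hq'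
    rw [← hzR hq] at h1
    have h2 := conj_comm (g := z⁻¹) h1
    have e1 : z⁻¹ * (z * q * z⁻¹) * z⁻¹⁻¹ = q := by group
    have e2 : z⁻¹ * ((h₁ * n₁) * q' * (h₁ * n₁)⁻¹) * z⁻¹⁻¹ = (n₁ * h₁) * q' * (n₁ * h₁)⁻¹ := by
      rw [nh2]; group
    rwa [e1, e2] at h2
  have F5 : ∀ {q q' : G}, q ∈ zpowers p → q' ∈ zpowers p →
      Commute (h₁ * q * h₁⁻¹) (n₁ * q' * n₁⁻¹) := by
    intro q q' hq hq'
    have h1 := conj_comm (g := h₁) (F4 hq hq')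
    have e2 : h₁ * ((n₁ * h₁) * q' * (n₁ * h₁)⁻¹) * h₁⁻¹ = n₁ * q' * n₁⁻¹ := by
      rw [nh']; group
    rwa [e2] at h1
  have F6 : ∀ {q q' : G}, q ∈ zpowers p → q' ∈ zpowers p →
      Commute (h₁ * q * h₁⁻¹) ((n₁ * h₁) * q' * (n₁ * h₁)⁻¹) := by
    intro q q' hq hq'
    have h1 := conj_comm (g := h₁) (F2 hq ((zpowers p).inv_mem hq'))
    have e2 : h₁ * (n₁ * q'⁻¹ * n₁⁻¹) * h₁⁻¹ = (n₁ * h₁) * q' * (n₁ * h₁)⁻¹ := by
      rw [← hzR hq']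
      have e3 : h₁ * n₁ = z * (n₁ * h₁) := by rw [nh2]; group
      have e4 : z * n₁ = n₁ * z := by rw [← I.nz]; group
      have e5 : h₁ * n₁ * z = n₁ * h₁ * (z * z) := by
        have e6 : z * h₁ = h₁ * z := by rw [← I.hz]; group
        calc h₁ * n₁ * z = z * (n₁ * h₁) * z := by rw [e3]
          _ = (z * n₁) * h₁ * z := by group
          _ = n₁ * (z * h₁) * z := by rw [e4]; group
          _ = n₁ * h₁ * (z * z) := by rw [e6]; group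
      have e7 : z * z * q' = q' * (z * z) := by
        have h2 := hzR hq'
        have h3 := hzR ((zpowers p).inv_mem hq')
        rw [inv_inv] at h3
        have h4 : z * q' = q'⁻¹ * z := by rw [← h2]; group
        have h5 : z * q'⁻¹ = q' * z := by
          calc z * q'⁻¹ = (z * q'⁻¹ * z⁻¹) * z := by group
            _ = q' * z := by rw [h3]
        calc z * z * q' = z * (z * q') := by group
          _ = (z * q'⁻¹) * z := by rw [h4]; group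
          _ = q' * (z * z) := by rw [h5]; group
      calc h₁ * (n₁ * (z * q' * z⁻¹) * n₁⁻¹) * h₁⁻¹
          = (h₁ * n₁ * z) * q' * (h₁ * n₁ * z)⁻¹ := by group
        _ = (n₁ * h₁ * (z * z)) * q' * (n₁ * h₁ * (z * z))⁻¹ := by rw [e5]
        _ = (n₁ * h₁) * (z * z * q') * (z * z)⁻¹ * (n₁ * h₁)⁻¹ := by group
        _ = (n₁ * h₁) * q' * (n₁ * h₁)⁻¹ := by rw [e7]; group
    rwa [e2] at h1
  -- the set `R (h₁ R h₁⁻¹)`
  have FP : ∀ {q q₂ q' q₂' : G}, q ∈ zpowers p → q₂ ∈ zpowers p → q' ∈ zpowers p →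
      q₂' ∈ zpowers p → Commute (q * (h₁ * q₂ * h₁⁻¹)) (n₁ * (q' * (h₁ * q₂' * h₁⁻¹)) * n₁⁻¹) := by
    intro q q₂ q' q₂' hq hq₂ hq' hq₂'
    have e1 : n₁ * (q' * (h₁ * q₂' * h₁⁻¹)) * n₁⁻¹ =
        (n₁ * q' * n₁⁻¹) * ((n₁ * h₁) * q₂' * (n₁ * h₁)⁻¹) := by group
    rw [e1]
    exact ((F2 hq hq').mul_right (F4 hq hq₂')).mul_left ((F5 hq₂ hq').mul_right (F6 hq₂ hq₂'))
  have hsix : ∀ {a : G}, a ∈ X → a ^ 3 * a ^ 3 = a := by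
    intro a ha
    rw [← pow_add, pow_succ, I.five ha, one_mul]
  have hX : ∀ {a : G}, a ∈ X → ∃ q ∈ zpowers p, ∃ q₂ ∈ zpowers p, a = q * (h₁ * q₂ * h₁⁻¹) ∧
      c * a * c⁻¹ = q * (h₁ * q₂⁻¹ * h₁⁻¹) := by
    intro a ha
    have hb : a ^ 3 ∈ X := X.pow_mem ha 3
    have hb' : h₁⁻¹ * a ^ 3 * h₁ ∈ X := by
      rw [I.hinv' hb]
      exact I.Xh _ (X.inv_mem hb)
    have e0 : h₁ * (h₁⁻¹ * a ^ 3 * h₁) * h₁⁻¹ = a ^ 3 := by group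
    have e1 := I.h_r hb'
    rw [e0] at e1
    have hc2 : Commute (a ^ 3) (c * a ^ 3 * c⁻¹) := I.comm' (I.XK hb) (I.cK _ (I.XK hb))
    refine ⟨_, hr hb, _, hr hb', ?_, ?_⟩
    · rw [e1]
      calc a = a ^ 3 * a ^ 3 := (hsix ha).symm
        _ = a ^ 3 * ((c * a ^ 3 * c⁻¹) * (c * (a ^ 3)⁻¹ * c⁻¹)) * a ^ 3 := by group
        _ = a ^ 3 * (c * a ^ 3 * c⁻¹) * ((c * (a ^ 3)⁻¹ * c⁻¹) * a ^ 3) := by group
        _ = a ^ 3 * (c * a ^ 3 * c⁻¹) * (a ^ 3 * (c * (a ^ 3)⁻¹ * c⁻¹)) := by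
          have h1 : Commute (c * (a ^ 3)⁻¹ * c⁻¹) (a ^ 3) :=
            (I.comm' (I.XK hb) (I.cK _ (K.inv_mem (I.XK hb)))).symm
          rw [h1.eq]
    · have e2 : h₁ * ((h₁⁻¹ * a ^ 3 * h₁) * (c * (h₁⁻¹ * a ^ 3 * h₁) * c⁻¹))⁻¹ * h₁⁻¹ =
          (a ^ 3 * (c * (a ^ 3)⁻¹ * c⁻¹))⁻¹ := by
        rw [← e1]; group
      rw [e2]
      calc c * a * c⁻¹ = c * (a ^ 3 * a ^ 3) * c⁻¹ := by rw [hsix ha]
        _ = (c * a ^ 3 * c⁻¹) * (c * a ^ 3 * c⁻¹) := by group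
        _ = a ^ 3 * (a ^ 3)⁻¹ * ((c * a ^ 3 * c⁻¹) * (c * a ^ 3 * c⁻¹)) := by group
        _ = a ^ 3 * ((a ^ 3)⁻¹ * ((c * a ^ 3 * c⁻¹) * (c * a ^ 3 * c⁻¹))) := by group
        _ = a ^ 3 * (((c * a ^ 3 * c⁻¹) * (c * a ^ 3 * c⁻¹)) * (a ^ 3)⁻¹) := by
          rw [((hc2.mul_right hc2).inv_left).eq]
        _ = a ^ 3 * (c * a ^ 3 * c⁻¹) * (a ^ 3 * (c * (a ^ 3)⁻¹ * c⁻¹))⁻¹ := by group
  obtain ⟨q, hq, q₂, hq₂, hxq, -⟩ := hX hx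
  refine ⟨(I.comm' (I.XK hx) (I.cK _ (I.XK hy))).eq, ?_, ?_⟩
  · obtain ⟨q', hq', q₂', hq₂', hyq, -⟩ := hX hy
    have := FP hq hq₂ hq' hq₂'
    rw [← hxq, ← hyq] at this
    exact this.eq
  · obtain ⟨q', hq', q₂', hq₂', -, hyq⟩ := hX (X.inv_mem hy)
    have h1 := FP hq hq₂ hq' ((zpowers p).inv_mem hq₂')
    rw [← hxq, ← hyq] at h1
    have e1 : n₁ * (c * y⁻¹ * c⁻¹) * n₁⁻¹ = n₂ * y * n₂⁻¹ := by
      have e2 : n₂ = n₁⁻¹ * c := by rw [I.cn]; group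
      have e3 : c * y⁻¹ * c⁻¹ = z⁻¹ * (c * y * c⁻¹) * z := by
        have e4 : z⁻¹ * c = c * z⁻¹ := by
          rw [inv_mul_eq_iff_eq_mul, ← mul_assoc, I.zc, mul_inv_cancel_right]
        have e5 : c⁻¹ * z = z * c⁻¹ := by
          rw [inv_mul_eq_iff_eq_mul, ← mul_assoc, ← I.zc, mul_inv_cancel_right]
        calc c * y⁻¹ * c⁻¹ = c * (z⁻¹ * y * z) * c⁻¹ := by rw [I.zinv hy]
          _ = (c * z⁻¹) * y * (z * c⁻¹) := by group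
          _ = (z⁻¹ * c) * y * (c⁻¹ * z) := by rw [e4, e5]
          _ = z⁻¹ * (c * y * c⁻¹) * z := by group
      rw [e3, ← I.nz, e2]
      group
    rw [e1] at h1
    exact h1.eq

end Inp

/-! ### the element `σ` -/

/-- `σ` inside one factor -/
theorem exists_sigma_one {L : Subgroup G} (iso : Nonempty (L ≃* SL5)) {z h n : G} (hh : h ∈ L)
    (hn : n ∈ L) (h2 : h * h = z) (n2 : n * n = z) (zz : z * z = 1) (z1 : z ≠ 1)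
    (nh : n * h * n⁻¹ = h⁻¹) : ∃ s ∈ L, s ^ 3 = 1 ∧ s * h * s⁻¹ = n ∧ s * n * s⁻¹ = h * n := by
  obtain ⟨f⟩ := iso
  obtain ⟨H, hH⟩ : ∃ H : L, H = ⟨h, hh⟩ := ⟨_, rfl⟩
  obtain ⟨N, hN⟩ : ∃ N : L, N = ⟨n, hn⟩ := ⟨_, rfl⟩
  have e1 : ((H * H : L) : G) = z := by rw [hH]; exact h2
  have e2 : ((N * N : L) : G) = z := by rw [hN]; exact n2
  have a1 : f H * f H ≠ 1 := by
    rw [← map_mul]
    intro h0
    apply z1
    rw [← e1]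
    have : H * H = 1 := f.injective (by rw [h0, map_one])
    rw [this, OneMemClass.coe_one]
  have a2 : f H * f H * (f H * f H) = 1 := by
    rw [← map_mul, ← map_mul]
    have : H * H * (H * H) = 1 := by
      apply Subtype.ext
      rw [Subgroup.coe_mul, e1, zz, OneMemClass.coe_one]
    rw [this, map_one]
  have a3 : f N * f N = f H * f H := by
    rw [← map_mul, ← map_mul]
    congr 1
    exact Subtype.ext (e2.trans e1.symm)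
  have a4 : f N * f H * (f N)⁻¹ = (f H)⁻¹ := by
    rw [← map_mul, ← map_inv, ← map_mul, ← map_inv]
    congr 1
    apply Subtype.ext
    rw [hH, hN]
    exact nh
  obtain ⟨S, s1, s2, s3⟩ := exists_sigma_sl a1 a2 a3 a4
  obtain ⟨s, rfl⟩ := f.surjective S
  refine ⟨s, s.2, ?_, ?_, ?_⟩
  · have : s ^ 3 = 1 := f.injective (by rw [map_pow, s1, map_one])
    exact congrArg Subtype.val this
  · have : s * H * s⁻¹ = N := f.injective (by rw [map_mul, map_mul, map_inv, s2])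
    rw [hH, hN] at this
    exact congrArg Subtype.val this
  · have : s * N * s⁻¹ = H * N := f.injective (by rw [map_mul, map_mul, map_inv, map_mul, s3])
    rw [hH, hN] at this
    exact congrArg Subtype.val this

/-- **The element `σ`** of steps (1), (2): `e = h₁h₂`, `c = n₁n₂`. -/
theorem exists_sigma {L₁ L₂ : Subgroup G} (iso₁ : Nonempty (L₁ ≃* SL5))
    (iso₂ : Nonempty (L₂ ≃* SL5)) (comm : ∀ a ∈ L₁, ∀ b ∈ L₂, a * b = b * a) {z h₁ n₁ h₂ n₂ : G}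
    (hh₁ : h₁ ∈ L₁) (hn₁ : n₁ ∈ L₁) (hh₂ : h₂ ∈ L₂) (hn₂ : n₂ ∈ L₂) (h1 : h₁ * h₁ = z)
    (n1 : n₁ * n₁ = z) (h2 : h₂ * h₂ = z) (n2 : n₂ * n₂ = z) (zz : z * z = 1) (z1 : z ≠ 1)
    (nh₁ : n₁ * h₁ * n₁⁻¹ = h₁⁻¹) (nh₂ : n₂ * h₂ * n₂⁻¹ = h₂⁻¹) :
    ∃ σ ∈ L₁ ⊔ L₂, σ ^ 3 = 1 ∧ σ * z * σ⁻¹ = z ∧ σ * (h₁ * h₂) * σ⁻¹ = n₁ * n₂ ∧
      σ * (n₁ * n₂) * σ⁻¹ = h₁ * h₂ * (n₁ * n₂) ∧ σ * h₁ * σ⁻¹ = n₁ ∧ σ * n₁ * σ⁻¹ = h₁ * n₁ ∧
      σ * h₂ * σ⁻¹ = n₂ ∧ σ * n₂ * σ⁻¹ = h₂ * n₂ := by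
  obtain ⟨s, hs, s3, sh, sn⟩ := exists_sigma_one iso₁ hh₁ hn₁ h1 n1 zz z1 nh₁
  obtain ⟨t, ht, t3, th, tn⟩ := exists_sigma_one iso₂ hh₂ hn₂ h2 n2 zz z1 nh₂
  have hst : Commute s t := comm s hs t ht
  have key₁ : ∀ a ∈ L₁, (s * t) * a * (s * t)⁻¹ = s * a * s⁻¹ := by
    intro a ha
    calc (s * t) * a * (s * t)⁻¹ = s * (t * a) * t⁻¹ * s⁻¹ := by group
      _ = s * (a * t) * t⁻¹ * s⁻¹ := by rw [comm a ha t ht]
      _ = s * a * s⁻¹ := by group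
  have key₂ : ∀ b ∈ L₂, (s * t) * b * (s * t)⁻¹ = t * b * t⁻¹ := by
    intro b hb
    have h0 : s * (t * b * t⁻¹) = t * b * t⁻¹ * s :=
      comm s hs _ (L₂.mul_mem (L₂.mul_mem ht hb) (L₂.inv_mem ht))
    calc (s * t) * b * (s * t)⁻¹ = s * (t * b * t⁻¹) * s⁻¹ := by group
      _ = t * b * t⁻¹ := by rw [h0]; group
  have k1 : (s * t) * h₁ * (s * t)⁻¹ = n₁ := by rw [key₁ _ hh₁, sh]
  have k2 : (s * t) * n₁ * (s * t)⁻¹ = h₁ * n₁ := by rw [key₁ _ hn₁, sn]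
  have k3 : (s * t) * h₂ * (s * t)⁻¹ = n₂ := by rw [key₂ _ hh₂, th]
  have k4 : (s * t) * n₂ * (s * t)⁻¹ = h₂ * n₂ := by rw [key₂ _ hn₂, tn]
  refine ⟨s * t, mul_mem (mem_sup_left hs) (mem_sup_right ht), ?_, ?_, ?_, ?_, k1, k2, k3, k4⟩
  · rw [hst.mul_pow, s3, t3, one_mul]
  · have e1 : (s * t) * z * (s * t)⁻¹ = ((s * t) * h₁ * (s * t)⁻¹) * ((s * t) * h₁ * (s * t)⁻¹) := by
      rw [← h1]; group
    rw [e1, k1, n1]
  · have e1 : (s * t) * (h₁ * h₂) * (s * t)⁻¹ =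
        ((s * t) * h₁ * (s * t)⁻¹) * ((s * t) * h₂ * (s * t)⁻¹) := by group
    rw [e1, k1, k3]
  · have e1 : (s * t) * (n₁ * n₂) * (s * t)⁻¹ =
        ((s * t) * n₁ * (s * t)⁻¹) * ((s * t) * n₂ * (s * t)⁻¹) := by group
    rw [e1, k2, k4]
    have e2 := comm n₁ hn₁ h₂ hh₂
    calc h₁ * n₁ * (h₂ * n₂) = h₁ * (n₁ * h₂) * n₂ := by group
      _ = h₁ * (h₂ * n₁) * n₂ := by rw [e2]
      _ = h₁ * h₂ * (n₁ * n₂) := by group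

end Cfsg.Agent.LFourFive.OneTwo
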