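import Cfsg.Agent.LFourFive.StepFive
import Cfsg.Agent.SylowSp4.SLGen
import Cfsg.Agent.Lib.AutSL2
import Cfsg.Agent.Lib.PSL2Inv

/-!
# `L4(5)`, step (5): the instance `X ≤ L ≅ SL(2,5)`, `C(e)` permutes `{L, L'}`, `C(L) ≤ L'`.
-/

set_option autoImplicit false
open Cfsg

namespace Cfsg.Agent.LFourFive.StepFiveSL

open Subgroup Cfsg.Agent.Lib.SL2Mat Cfsg.Agent.Lib.AutSL2 Cfsg.Agent.LFourFive.StepFive

universe u

local notation "SL5" => Matrix.SpecialLinearGroup (Fin 2) (ZMod 5)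

local instance factFive : Fact (Nat.Prime 5) := ⟨by norm_num⟩

theorem two_ne : (2 : ZMod 5) ≠ 0 := by decide

/-- an automorphism of `SL(2,5)` fixing an element `u` of order `5` is conjugation by a power of `u` -/
theorem eq_conj (α : MulAut SL5) {u : SL5} (hu : orderOf u = 5) (hα : α u = u) :
    ∃ n : ℕ, ∀ x, α x = u ^ n * x * (u ^ n)⁻¹ := by
  have hP : IsPGroup 5 (zpowers u) := by
    apply IsPGroup.of_card (n := 1)
    rw [Nat.card_zpowers, hu, pow_one]
  obtain ⟨Q, hQ⟩ := hP.exists_le_sylow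
  obtain ⟨s, hs⟩ := MulAction.exists_smul_eq SL5 (sylU (ZMod 5) 5) Q
  have huQ : u ∈ Q := hQ (mem_zpowers u)
  rw [← hs, mem_smul_sylow] at huQ
  obtain ⟨b, hb⟩ : ∃ b, up b = s⁻¹ * u * s := huQ
  have hb0 : b ≠ 0 := by
    rintro rfl
    rw [up_zero] at hb
    have : u = 1 := by
      calc u = s * (s⁻¹ * u * s) * s⁻¹ := by group
        _ = 1 := by rw [← hb]; group
    rw [this, orderOf_one] at hu
    exact absurd hu (by norm_num)
  have hub : u = s * up b * s⁻¹ := by rw [hb]; group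
  let β : MulAut SL5 := (MulAut.conj s)⁻¹ * α * MulAut.conj s
  have hβ : ∀ x, β x = s⁻¹ * α (s * x * s⁻¹) * s := by
    intro x
    change (MulAut.conj s)⁻¹ (α (MulAut.conj s x)) = _
    rw [← map_inv, MulAut.conj_apply, MulAut.conj_apply, inv_inv]
  have hβb : β (up b) = up b := by rw [hβ, ← hub, hα, ← hb]
  obtain ⟨g, σ, hg⟩ := exists_gl_ringEquiv (MonoidHom.id SL5) (fun x => ⟨x, rfl⟩)
    (by rw [MonoidHom.ker_id]; exact bot_le) β
  have hσ : σ = RingEquiv.refl (ZMod 5) := Subsingleton.elim _ _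
  have hg' : ∀ x, β x = conjGL g x := by
    intro x
    have h1 := hg x
    rw [hσ] at h1
    have h2 : fieldAut (RingEquiv.refl (ZMod 5)) x = x := by
      have : (RingEquiv.refl (ZMod 5)) = 1 := rfl
      rw [this, map_one]; rfl
    rw [h2] at h1
    exact h1
  have hgb : g.1 * (up b).1 = (up b).1 * g.1 := by
    have h1 : (conjGL g (up b)).1 = (up b).1 := by rw [← hg', hβb]
    rw [conjGL_val] at h1
    calc g.1 * (up b).1 = (g.1 * (up b).1 * g⁻¹.1) * g.1 := by
          rw [Matrix.mul_assoc, ← Units.val_mul, inv_mul_cancel, Units.val_one, Matrix.mul_one]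
      _ = (up b).1 * g.1 := by rw [h1]
  have hup : ∀ c : ZMod 5, (up c).1 = !![1, c; 0, 1] := by
    intro c
    ext i j
    fin_cases i <;> fin_cases j <;> rfl
  have h10 : g.1 1 0 = 0 := by
    have h1 := congrFun (congrFun hgb 1) 1
    rw [hup] at h1
    simp only [Matrix.mul_apply, Fin.sum_univ_two, Matrix.of_apply, Matrix.cons_val', Matrix.cons_val_zero,
      Matrix.cons_val_one, Matrix.empty_val', Matrix.cons_val_fin_one] at h1
    have h2 : g.1 1 0 * b = 0 := by linear_combination h1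
    exact (mul_eq_zero.mp h2).resolve_right hb0
  have h00 : g.1 0 0 = g.1 1 1 := by
    have h1 := congrFun (congrFun hgb 0) 1
    rw [hup] at h1
    simp only [Matrix.mul_apply, Fin.sum_univ_two, Matrix.of_apply, Matrix.cons_val', Matrix.cons_val_zero,
      Matrix.cons_val_one, Matrix.empty_val', Matrix.cons_val_fin_one] at h1
    have h2 : (g.1 0 0 - g.1 1 1) * b = 0 := by linear_combination h1
    exact sub_eq_zero.mp ((mul_eq_zero.mp h2).resolve_right hb0)
  have hdet : g.1.det ≠ 0 := g.isUnit.map Matrix.detMonoidHom |>.ne_zero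
  have ha0 : g.1 0 0 ≠ 0 := by
    intro h0
    apply hdet
    rw [Matrix.det_fin_two, h10, h0]; ring
  set c : ZMod 5 := g.1 0 1 / g.1 0 0 with hc
  have hgc : g.1 = g.1 0 0 • (up c).1 := by
    rw [hup]
    ext i j
    fin_cases i <;> fin_cases j
    · simp
    · simp [hc, mul_div_cancel₀ _ ha0]
    · simp [h10]
    · simp [h00]
  have hconj : ∀ x, conjGL g x = up c * x * (up c)⁻¹ := by
    intro x
    apply Subtype.ext
    have h1 : (conjGL g x).1 * g.1 = g.1 * x.1 := by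
      rw [conjGL_val, Matrix.mul_assoc, ← Units.val_mul, inv_mul_cancel, Units.val_one, Matrix.mul_one]
    have h2 : (up c * x * (up c)⁻¹).1 * g.1 = g.1 * x.1 := by
      have h3 : (up c * x * (up c)⁻¹).1 * (up c).1 = (up c).1 * x.1 := by
        have : (up c * x * (up c)⁻¹) * up c = up c * x := by group
        exact congrArg Subtype.val this
      rw [hgc, Matrix.mul_smul, h3, Matrix.smul_mul]
    have h4 : (conjGL g x).1 * g.1 = (up c * x * (up c)⁻¹).1 * g.1 := by rw [h1, h2]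
    exact g.isUnit.mul_right_cancel h4
  refine ⟨(c * b⁻¹).val, fun x => ?_⟩
  have hpow : (up b) ^ (c * b⁻¹).val = up c := by
    rw [up_pow, ZMod.natCast_zmod_val, mul_assoc, inv_mul_cancel₀ hb0, mul_one]
  have hun : u ^ (c * b⁻¹).val = s * up c * s⁻¹ := by
    rw [hub, conj_pow, hpow]
  have h1 := hβ (s⁻¹ * x * s)
  rw [hg', hconj] at h1
  have h2 : s * (s⁻¹ * x * s) * s⁻¹ = x := by group
  rw [h2] at h1
  calc α x = s * (s⁻¹ * α x * s) * s⁻¹ := by group
    _ = s * (up c * (s⁻¹ * x * s) * (up c)⁻¹) * s⁻¹ := by rw [← h1]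
    _ = _ := by rw [hun]; group

variable {G : Type u} [Group G]

/-- two commuting `SL(2,5)` with common involution `e`, permuted by `C(e)`, `C(L) ≤ L'` -/
structure Pair (e : G) (L L' : Subgroup G) : Prop where
  ne : e ≠ 1
  ee : e * e = 1
  mem : e ∈ L
  mem' : e ∈ L'
  iso : Nonempty (L ≃* Matrix.SpecialLinearGroup (Fin 2) (ZMod 5))
  iso' : Nonempty (L' ≃* Matrix.SpecialLinearGroup (Fin 2) (ZMod 5))
  comm : ∀ a ∈ L, ∀ b ∈ L', a * b = b * a
  cent : ∀ g, (∀ l ∈ L, g * l = l * g) → g ∈ L'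
  perm : ∀ g, g * e = e * g → L.map (MulAut.conj g).toMonoidHom = L ∨
    L.map (MulAut.conj g).toMonoidHom = L'

variable {e : G} {L L' X : Subgroup G}

theorem eq_or_of_iso {L : Subgroup G} (f : L ≃* SL5) (he : e ∈ L) (hee : e * e = 1) (he1 : e ≠ 1)
    {k : G} (hk : k ∈ L) (hkk : k * k = 1) : k = 1 ∨ k = e := by
  have key : ∀ x : L, (x : G) * x = 1 → f x = 1 ∨ f x = -1 := by
    intro x hx
    apply Cfsg.Agent.Lib.PSL2Inv.sq_eq_one two_ne
    rw [← map_mul]
    have : x * x = 1 := Subtype.ext hx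
    rw [this, map_one]
  rcases key ⟨k, hk⟩ hkk with h | h
  · left
    have := (f.map_eq_one_iff).mp h
    exact congrArg Subtype.val this
  · right
    rcases key ⟨e, he⟩ hee with h' | h'
    · exact absurd (congrArg Subtype.val ((f.map_eq_one_iff).mp h')) he1
    · rw [← h'] at h
      exact congrArg Subtype.val (f.injective h)

theorem core_of_iso [Finite G] {L : Subgroup G} (f : L ≃* SL5) (N : Subgroup G) (hN : N ≤ L)
    (ho : Odd (Nat.card N)) (hn : ∀ k ∈ L, ∀ n ∈ N, k * n * k⁻¹ ∈ N) : N = ⊥ := by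
  have h1 : ((N.subgroupOf L).map f.toMonoidHom) = ⊥ := by
    apply Cfsg.Agent.SylowSp4.SLGen.eq_bot_of_odd (F := ZMod 5)
    · rw [ZMod.card]; decide
    · have : (N.subgroupOf L).Normal := ⟨fun n hn' g => by
        rw [mem_subgroupOf] at hn' ⊢
        exact hn g g.2 _ hn'⟩
      exact this.map _ f.surjective
    · rw [Nat.card_congr ((N.subgroupOf L).equivMapOfInjective f.toMonoidHom f.injective).toEquiv.symm,
        Nat.card_congr (subgroupOfEquivOfLe hN).toEquiv]
      exact ho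
  rw [eq_bot_iff]
  intro x hx
  have h2 : f ⟨x, hN hx⟩ ∈ ((N.subgroupOf L).map f.toMonoidHom) := ⟨⟨x, hN hx⟩, hx, rfl⟩
  rw [h1, mem_bot] at h2
  exact congrArg Subtype.val ((f.map_eq_one_iff).mp h2)

theorem orderOf_eq_five {x : G} (hX : Nat.card X = 5) (hx : x ∈ X) (h1 : x ≠ 1) : orderOf x = 5 := by
  have h2 : orderOf x ∣ 5 := by
    rw [← hX]; exact orderOf_dvd_of_pow_eq_one (pow_card_eq hx)
  rcases (Nat.dvd_prime (by norm_num)).mp h2 with h | h
  · exact absurd (orderOf_eq_one_iff.mp h) h1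
  · exact h

theorem Pair.toCen [Finite G] (h : Pair e L L') (hXL : X ≤ L) (hX : Nat.card X = 5) :
    Cen e X L' := by
  obtain ⟨f⟩ := h.iso
  obtain ⟨f'⟩ := h.iso'
  have hcyc : IsCyclic X := isCyclic_of_prime_card hX
  obtain ⟨u, hu⟩ := hcyc.exists_generator
  have huX : ∀ x ∈ X, ∃ n : ℤ, (u : G) ^ n = x := by
    intro x hx
    obtain ⟨n, hn⟩ := hu ⟨x, hx⟩
    exact ⟨n, congrArg Subtype.val hn⟩
  have hab : ∀ x ∈ X, ∀ y ∈ X, x * y = y * x := by
    intro x hx y hy
    obtain ⟨n, rfl⟩ := huX x hx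
    obtain ⟨m, rfl⟩ := huX y hy
    rw [← zpow_add, ← zpow_add, add_comm]
  have hu1 : (u : G) ≠ 1 := by
    intro h1
    have hle : X ≤ ⊥ := by
      intro x hx
      obtain ⟨n, rfl⟩ := huX x hx
      rw [h1, one_zpow]; exact one_mem _
    have h0 : X = ⊥ := le_bot_iff.mp hle
    rw [h0, Subgroup.card_bot] at hX
    exact absurd hX (by norm_num)
  have hu5 : orderOf (u : G) = 5 := orderOf_eq_five hX u.2 hu1
  have huL : (u : G) ∈ L := hXL u.2
  have hfu5 : orderOf (f ⟨u, huL⟩) = 5 := by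
    rw [MulEquiv.orderOf_eq f, ← Subgroup.orderOf_coe]; exact hu5
  refine ⟨h.ne, h.ee, by rw [hX]; decide, fun x hx => (h.comm x (hXL hx) e h.mem').symm, hab,
    fun k hk x hx => (h.comm x (hXL hx) k hk).symm, fun k hk hkk => eq_or_of_iso f' h.mem' h.ee h.ne hk hkk,
    fun N hN ho hn => core_of_iso f' N hN ho hn, ?_⟩
  intro y hy hye
  rcases h.perm y hye with hp | hp
  · have hyL : ∀ l ∈ L, y * l * y⁻¹ ∈ L := by
      intro l hl
      rw [← hp]; exact ⟨l, hl, rfl⟩
    have hyn : y ∈ normalizer (L : Set G) := by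
      rw [mem_normalizer_iff]
      intro l
      constructor
      · exact hyL l
      · intro hl
        rw [← hp] at hl
        obtain ⟨l', hl', h1⟩ := hl
        have h2 : y * l' * y⁻¹ = y * l * y⁻¹ := h1
        have h3 : l' = l := by simpa using h2
        rw [← h3]; exact hl'
    let α : MulAut SL5 := MulAut.congr f (L.normalizerMonoidHom ⟨y, hyn⟩)
    have hα : ∀ l : L, α (f l) = f ⟨y * l * y⁻¹, hyL l l.2⟩ := by
      intro l
      change f (L.normalizerMonoidHom ⟨y, hyn⟩ (f.symm (f l))) = _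
      rw [MulEquiv.symm_apply_apply]
      rfl
    have hαu : α (f ⟨u, huL⟩) = f ⟨u, huL⟩ := by
      rw [hα]
      congr 1
      apply Subtype.ext
      change y * (u : G) * y⁻¹ = u
      rw [hy u u.2, mul_inv_cancel_right]
    obtain ⟨n, hn⟩ := eq_conj α hfu5 hαu
    refine ⟨(u : G) ^ n, X.pow_mem u.2 n, ((u : G) ^ n)⁻¹ * y, ?_, by group⟩
    apply h.cent
    intro l hl
    have h1 := hα ⟨l, hl⟩
    rw [hn, ← map_pow, ← map_inv, ← map_mul, ← map_mul] at h1
    have h2 := congrArg Subtype.val (f.injective h1)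
    have h3 : (u : G) ^ n * l * ((u : G) ^ n)⁻¹ = y * l * y⁻¹ := h2
    calc ((u : G) ^ n)⁻¹ * y * l = ((u : G) ^ n)⁻¹ * (y * l * y⁻¹) * y := by group
      _ = l * (((u : G) ^ n)⁻¹ * y) := by rw [← h3]; group
  · exfalso
    have huL' : (u : G) ∈ L' := by
      rw [← hp]
      refine ⟨u, huL, ?_⟩
      change y * (u : G) * y⁻¹ = u
      rw [hy u u.2, mul_inv_cancel_right]
    have hcen : f ⟨u, huL⟩ ∈ center SL5 := by
      rw [mem_center_iff]
      intro g
      obtain ⟨l, rfl⟩ := f.surjective g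
      rw [← map_mul, ← map_mul]
      congr 1
      apply Subtype.ext
      exact h.comm l l.2 u huL'
    rcases Cfsg.Agent.ClassicalGeometry.PSL2Klein.mem_center.1 hcen with h1 | h1
    · rw [h1, orderOf_one] at hfu5
      exact absurd hfu5 (by norm_num)
    · have : orderOf (f ⟨u, huL⟩) ∣ 2 := by
        apply orderOf_dvd_of_pow_eq_one
        rw [h1, pow_two, neg_mul_neg, one_mul]
      rw [hfu5] at this
      exact absurd this (by norm_num)

/-- the core of `C(X)` -/
theorem Pair.exists_core [Finite G] (h : Pair e L L') (hXL : X ≤ L) (hX : Nat.card X = 5) :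
    ∃ Q : Subgroup G, Core e X L' Q := (h.toCen hXL hX).exists_core

/-- step (5): `a`, `b` of odd order in `C(X)`, inverted by `e`; then `[a^n, b^m] ∈ X` for `n, m ∈ C(X)` -/
theorem Pair.comm_mem [Finite G] (h : Pair e L L') (hXL : X ≤ L) (hX : Nat.card X = 5) {a b n m : G}
    (ha : a ∈ centralizer (X : Set G)) (ha' : Odd (orderOf a)) (hae : e * a * e⁻¹ = a⁻¹)
    (hb : b ∈ centralizer (X : Set G)) (hb' : Odd (orderOf b)) (hbe : e * b * e⁻¹ = b⁻¹)
    (hn : n ∈ centralizer (X : Set G)) (hm : m ∈ centralizer (X : Set G)) :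
    (n * a * n⁻¹) * (m * b * m⁻¹) * (n * a * n⁻¹)⁻¹ * (m * b * m⁻¹)⁻¹ ∈ X := by
  obtain ⟨Q, hQ⟩ := h.exists_core hXL hX
  exact hQ.comm_mem ha ha' hae hb hb' hbe hn hm

/-- step (5) for subgroups: `[A^n, B^m] ≤ X` -/
theorem Pair.commutator_le [Finite G] (h : Pair e L L') (hXL : X ≤ L) (hX : Nat.card X = 5)
    {A B : Subgroup G} (hA : A ≤ centralizer (X : Set G)) (hA' : Odd (Nat.card A))
    (hAe : ∀ a ∈ A, e * a * e⁻¹ = a⁻¹) (hB : B ≤ centralizer (X : Set G)) (hB' : Odd (Nat.card B))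
    (hBe : ∀ b ∈ B, e * b * e⁻¹ = b⁻¹) {n m : G} (hn : n ∈ centralizer (X : Set G))
    (hm : m ∈ centralizer (X : Set G)) :
    ∀ a ∈ A.map (MulAut.conj n).toMonoidHom, ∀ b ∈ B.map (MulAut.conj m).toMonoidHom,
      a * b * a⁻¹ * b⁻¹ ∈ X := by
  rintro _ ⟨a, ha, rfl⟩ _ ⟨b, hb, rfl⟩
  exact h.comm_mem hXL hX (hA ha) (odd_orderOf hA' ha) (hAe a ha) (hB hb) (odd_orderOf hB' hb) (hBe b hb)
    hn hm

end Cfsg.Agent.LFourFive.StepFiveSL
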