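import Mathlib
import Cfsg.Agent.LFourFive.Lab
import Cfsg.Agent.LFourFive.OneTwo
import Cfsg.Agent.LFourFive.StepFiveSL
import Cfsg.Agent.LFourR.Gen

/-!
# The instances of `Gen.Data`, `Pair` and `OneTwo.Inp` from `InpFive`
-/

set_option autoImplicit false
set_option linter.unusedSectionVars false

namespace Cfsg.Agent.LFourFive

open Subgroup Cfsg.Agent.LFourR

universe u

variable {G : Type u} [Group G] {z e ρ n1 n2 h1 h2 : G} {L1 L2 U : Subgroup G}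

local instance factFive' : Fact (Nat.Prime 5) := ⟨by norm_num⟩

theorem exists_conj_of_sq {L : Subgroup G} (iso : Nonempty (L ≃* Matrix.SpecialLinearGroup (Fin 2) (ZMod 5)))
    {h h' : G} (hh : h ∈ L) (hh' : h' ∈ L) (hz : h * h = z) (hz' : h' * h' = z) (hzz : z * z = 1) (hz1 : z ≠ 1) :
    ∃ l ∈ L, l * h' * l⁻¹ = h := by
  obtain ⟨f⟩ := iso
  have key : ∀ (h : G) (hh : h ∈ L), h * h = z → f ⟨h, hh⟩ * f ⟨h, hh⟩ = -1 := by
    intro h hh hz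
    have h3 : (f ⟨h, hh⟩ * f ⟨h, hh⟩) * (f ⟨h, hh⟩ * f ⟨h, hh⟩) = 1 := by
      rw [← map_mul, ← map_mul]
      have : (⟨h, hh⟩ : L) * ⟨h, hh⟩ * (⟨h, hh⟩ * ⟨h, hh⟩) = 1 := by
        apply Subtype.ext
        change h * h * (h * h) = 1
        rw [hz, hzz]
      rw [this, map_one]
    rcases Cfsg.Agent.Lib.PSL2Inv.sq_eq_one LabSL.two_ne h3 with h4 | h4
    · exfalso
      apply hz1
      rw [← map_mul, ← map_one f] at h4
      have := congrArg Subtype.val (f.injective h4)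
      rw [← hz]; exact this
    · exact h4
  obtain ⟨s, hs⟩ := LabSL.exists_conj _ (key h hh hz)
  obtain ⟨s', hs'⟩ := LabSL.exists_conj _ (key h' hh' hz')
  obtain ⟨t, ht⟩ := f.surjective (s⁻¹ * s')
  refine ⟨t, t.2, ?_⟩
  have h5 : f (t * ⟨h', hh'⟩ * t⁻¹) = f ⟨h, hh⟩ := by
    rw [map_mul, map_mul, map_inv, ht]
    calc s⁻¹ * s' * f ⟨h', hh'⟩ * (s⁻¹ * s')⁻¹ = s⁻¹ * (s' * f ⟨h', hh'⟩ * s'⁻¹) * s := by group
      _ = s⁻¹ * (s * f ⟨h, hh⟩ * s⁻¹) * s := by rw [hs, hs']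
      _ = f ⟨h, hh⟩ := by group
  exact congrArg Subtype.val (f.injective h5)

theorem mem_sup_comm {A B : Subgroup G} (h : ∀ x ∈ A, ∀ y ∈ B, x * y = y * x) {x : G} (hx : x ∈ A ⊔ B) :
    ∃ a ∈ A, ∃ b ∈ B, x = a * b := by
  let S : Subgroup G :=
    { carrier := {x | ∃ a ∈ A, ∃ b ∈ B, x = a * b}
      one_mem' := ⟨1, one_mem _, 1, one_mem _, by rw [mul_one]⟩
      mul_mem' := by
        rintro _ _ ⟨a, ha, b, hb, rfl⟩ ⟨a', ha', b', hb', rfl⟩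
        refine ⟨a * a', mul_mem ha ha', b * b', mul_mem hb hb', ?_⟩
        calc a * b * (a' * b') = a * (b * a') * b' := by group
          _ = a * (a' * b) * b' := by rw [h a' ha' b hb]
          _ = _ := by group
      inv_mem' := by
        rintro _ ⟨a, ha, b, hb, rfl⟩
        refine ⟨a⁻¹, inv_mem ha, b⁻¹, inv_mem hb, ?_⟩
        rw [mul_inv_rev, h _ (inv_mem ha) _ (inv_mem hb)] }
  have h1 : A ⊔ B ≤ S := sup_le (fun a ha => ⟨a, ha, 1, one_mem _, by rw [mul_one]⟩)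
    (fun b hb => ⟨1, one_mem _, b, hb, by rw [one_mul]⟩)
  exact h1 hx

namespace InpFive

variable (h : InpFive z e ρ n1 n2 h1 h2 L1 L2 U)

include h

theorem inf12 {a : G} (ha : a ∈ L1) (ha' : a ∈ L2) : a = 1 ∨ a = z := by
  obtain ⟨f⟩ := h.iso1
  have hc : f ⟨a, ha⟩ ∈ center (Matrix.SpecialLinearGroup (Fin 2) (ZMod 5)) := by
    rw [mem_center_iff]
    intro g
    obtain ⟨g, rfl⟩ := f.surjective g
    rw [← map_mul, ← map_mul]
    congr 1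
    exact Subtype.ext (h.comm _ g.2 _ ha')
  obtain ⟨r, hr, hr2⟩ := Matrix.SpecialLinearGroup.mem_center_iff.1 hc
  have hsq : f ⟨a, ha⟩ * f ⟨a, ha⟩ = 1 := by
    apply Subtype.ext
    rw [Matrix.SpecialLinearGroup.coe_mul, ← hr2, ← map_mul, Matrix.SpecialLinearGroup.coe_one]
    rw [Fintype.card_fin, pow_two] at hr
    rw [hr, map_one]
  have haa : a * a = 1 := by
    rw [← map_mul, ← map_one f] at hsq
    exact congrArg Subtype.val (f.injective hsq)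
  have key : ∀ (x : G) (hx : x ∈ L1), x * x = 1 → f ⟨x, hx⟩ = 1 ∨ f ⟨x, hx⟩ = -1 := by
    intro x hx hxx
    apply Cfsg.Agent.Lib.PSL2Inv.sq_eq_one LabSL.two_ne
    rw [← map_mul]
    have : (⟨x, hx⟩ : L1) * ⟨x, hx⟩ = 1 := Subtype.ext hxx
    rw [this, map_one]
  rcases key a ha haa with h7 | h7
  · left
    rw [← map_one f] at h7
    exact congrArg Subtype.val (f.injective h7)
  · right
    rcases key z h.z_mem h.zz with h8 | h8
    · rw [← map_one f] at h8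
      exact absurd (congrArg Subtype.val (f.injective h8)) h.z_ne
    · rw [← h8] at h7
      exact congrArg Subtype.val (f.injective h7)

theorem data : Gen.Data z e ρ n1 n2 L1 L2 := by
  refine
    { ee := h.ee
      ze := h.ze
      comm := h.comm
      zL₁ := h.z_mem
      zL₂ := h.z_mem2
      z_ne := h.z_ne
      perm := fun g hg => h.perm g hg
      hn₁ := h.n1_mem
      hn₂ := h.n2_mem
      e_n₁ := ?_
      ρz := h.ρ_z
      ρe := h.ρ_e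
      swap := ⟨h.swap, h.w_L2⟩
      Z := ?_
      frat := ?_ }
  · have h3 := h.n1_e
    have h4 := h.zz
    calc e * n1 * e⁻¹ = z * z * e * n1 * e⁻¹ := by rw [h4, one_mul]
      _ = z * (z * e) * n1 * e⁻¹ := by group
      _ = z * (n1 * e * n1⁻¹) * n1 * e⁻¹ := by rw [h3]
      _ = z * n1 := by group
      _ = n1 * z := h.n1_z.symm
  · intro x hx1 hx2
    have hx : x ∈ L2 := h.cen x hx1
    refine ⟨?_, fun hxx => ?_⟩
    · rw [h.e_eq, ← mul_assoc, hx1 _ h.h1_mem, mul_assoc, hx2 _ h.h2_mem, mul_assoc]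
    · obtain ⟨f⟩ := h.iso2
      exact StepFiveSL.eq_or_of_iso f h.z_mem2 h.zz h.z_ne hx hxx
  · intro g hg
    have hsq : ∀ a : G, a * a = z → g * a * g⁻¹ * (g * a * g⁻¹) = z := by
      intro a ha
      calc g * a * g⁻¹ * (g * a * g⁻¹) = g * (a * a) * g⁻¹ := by group
        _ = z := by rw [ha, hg, mul_inv_cancel_right]
    have fin : ∀ l1 ∈ L1, ∀ l2 ∈ L2, ∀ a ∈ L1, ∀ b ∈ L2, l1 * a * l1⁻¹ = h1 → l2 * b * l2⁻¹ = h2 →
        g * e * g⁻¹ = a * b → l1 * l2 * g * e * (l1 * l2 * g)⁻¹ = e * 1 := by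
      intro l1 hl1 l2 hl2 a ha b hb e1 e2 e3
      calc l1 * l2 * g * e * (l1 * l2 * g)⁻¹ = l1 * l2 * (g * e * g⁻¹) * (l1 * l2)⁻¹ := by group
        _ = l1 * (l2 * a) * b * l2⁻¹ * l1⁻¹ := by rw [e3]; group
        _ = l1 * a * (l2 * b * l2⁻¹ * l1⁻¹) := by rw [← h.comm a ha l2 hl2]; group
        _ = l1 * a * (l1⁻¹ * (l2 * b * l2⁻¹)) := by
            rw [h.comm l1⁻¹ (inv_mem hl1) _ (mul_mem (mul_mem hl2 hb) (inv_mem hl2))]
        _ = (l1 * a * l1⁻¹) * (l2 * b * l2⁻¹) := by group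
        _ = e * 1 := by rw [e1, e2, ← h.e_eq, mul_one]
    rcases h.perm g hg with ⟨p1, p2⟩ | ⟨p1, p2⟩
    · have m1 : g * h1 * g⁻¹ ∈ L1 := by rw [← p1]; exact conj_mem_cg h.h1_mem
      have m2 : g * h2 * g⁻¹ ∈ L2 := by rw [← p2]; exact conj_mem_cg h.h2_mem
      obtain ⟨l1, hl1, e1⟩ := exists_conj_of_sq h.iso1 h.h1_mem m1 h.h1_sq (hsq _ h.h1_sq) h.zz h.z_ne
      obtain ⟨l2, hl2, e2⟩ := exists_conj_of_sq h.iso2 h.h2_mem m2 h.h2_sq (hsq _ h.h2_sq) h.zz h.z_ne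
      refine ⟨l1 * l2, mul_mem (mem_sup_left hl1) (mem_sup_right hl2), 1, by simp, by simp, ?_⟩
      exact fin l1 hl1 l2 hl2 _ m1 _ m2 e1 e2 (by rw [h.e_eq, conj_mul3])
    · have m1 : g * h1 * g⁻¹ ∈ L2 := by rw [← p1]; exact conj_mem_cg h.h1_mem
      have m2 : g * h2 * g⁻¹ ∈ L1 := by rw [← p2]; exact conj_mem_cg h.h2_mem
      obtain ⟨l1, hl1, e1⟩ := exists_conj_of_sq h.iso1 h.h1_mem m2 h.h1_sq (hsq _ h.h2_sq) h.zz h.z_ne
      obtain ⟨l2, hl2, e2⟩ := exists_conj_of_sq h.iso2 h.h2_mem m1 h.h2_sq (hsq _ h.h1_sq) h.zz h.z_ne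
      refine ⟨l1 * l2, mul_mem (mem_sup_left hl1) (mem_sup_right hl2), 1, by simp, by simp, ?_⟩
      exact fin l1 hl1 l2 hl2 _ m2 _ m1 e1 e2 (by rw [h.e_eq, h.h1h2, conj_mul3])

theorem mem_sup_of_five {p : G} (hp : p * z = z * p) (h5 : p ^ 5 = 1) : ∃ a ∈ L1, ∃ b ∈ L2, p = a * b := by
  have e5 : p * (p * (p * (p * p))) = 1 := by
    rw [← h5]
    simp only [pow_succ, pow_zero, one_mul, mul_assoc]
  have hp1 : cg p L1 = L1 := by
    rcases h.perm p hp with ⟨q1, q2⟩ | ⟨q1, q2⟩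
    · exact q1
    · exfalso
      have h3 : cg (p * (p * (p * (p * p)))) L1 = L2 := by
        rw [cg_mul, cg_mul, cg_mul, cg_mul, q1, q2, q1, q2, q1]
      rw [e5, cg_one] at h3
      exact h.L_ne h3
  obtain ⟨l1, hl1, l2, hl2, u, hu, rfl⟩ := h.str p hp hp1
  have hN : cg u (L1 ⊔ L2) = L1 ⊔ L2 := by rw [cg_sup, h.U_L1 hu, h.U_L2 hu]
  have hl : l1 * l2 ∈ L1 ⊔ L2 := mul_mem (mem_sup_left hl1) (mem_sup_right hl2)
  have hun : u ∈ normalizer ((L1 ⊔ L2 : Subgroup G) : Set G) := mem_normalizer_iff_cg.2 hN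
  have key : ∀ k : ℕ, ∃ l ∈ L1 ⊔ L2, (l1 * l2 * u) ^ k = l * u ^ k := by
    intro k
    induction k with
    | zero => exact ⟨1, one_mem _, by simp⟩
    | succ k ih =>
      obtain ⟨l, hl3, hl4⟩ := ih
      refine ⟨l * (u ^ k * (l1 * l2) * (u ^ k)⁻¹), mul_mem hl3 ?_, ?_⟩
      · exact (mem_normalizer_iff.1 (pow_mem hun k) _).1 hl
      · rw [pow_succ, hl4, pow_succ]; group
  obtain ⟨l, hl3, hl4⟩ := key 5
  rw [h5] at hl4
  have hu5 : u ^ 5 ∈ L1 ⊔ L2 := by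
    have : u ^ 5 = l⁻¹ := (inv_eq_of_mul_eq_one_right hl4.symm).symm
    rw [this]; exact inv_mem hl3
  have huN : u ∈ L1 ⊔ L2 := by
    obtain ⟨m, hm⟩ := h.U_two u hu
    have hco : IsCoprime (5 : ℤ) (2 ^ m : ℤ) := by
      apply IsCoprime.pow_right
      exact Int.isCoprime_iff_gcd_eq_one.2 (by norm_num)
    obtain ⟨a, b, hab⟩ := hco
    have h6 : u = (u ^ 5) ^ a * (u ^ (2 ^ m)) ^ b := by
      rw [← zpow_natCast, ← zpow_natCast, ← zpow_mul, ← zpow_mul, ← zpow_add]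
      have : ((5 : ℕ) : ℤ) * a + ((2 ^ m : ℕ) : ℤ) * b = 1 := by
        rw [← hab]; push_cast; ring
      rw [this, zpow_one]
    rw [h6, hm, one_zpow, mul_one]
    exact zpow_mem hu5 a
  exact mem_sup_comm h.comm (mul_mem hl huN)

theorem e_mem02 : e ∈ cg ρ L1 := by rw [mem_cg, h.ρ_inv_e]; exact h.z_mem

theorem e_mem13 : e ∈ cg ρ L2 := by rw [mem_cg, h.ρ_inv_e]; exact h.z_mem2

theorem comm02 : ∀ a ∈ cg ρ L1, ∀ b ∈ cg ρ L2, a * b = b * a := by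
  rintro _ ⟨a, ha, rfl⟩ _ ⟨b, hb, rfl⟩
  change ρ * a * ρ⁻¹ * (ρ * b * ρ⁻¹) = ρ * b * ρ⁻¹ * (ρ * a * ρ⁻¹)
  rw [← conj_mul3, ← conj_mul3, h.comm a ha b hb]

theorem conj_comm_z {g : G} (hg : g * e = e * g) : ρ⁻¹ * g * ρ * z = z * (ρ⁻¹ * g * ρ) := by
  have h3 := h.ρ_z
  calc ρ⁻¹ * g * ρ * z = ρ⁻¹ * (g * (ρ * z * ρ⁻¹)) * ρ := by group
    _ = ρ⁻¹ * ((ρ * z * ρ⁻¹) * g) * ρ := by rw [h3, hg]
    _ = _ := by group

theorem pair : StepFiveSL.Pair e (cg ρ L1) (cg ρ L2) := by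
  refine ⟨h.e_ne, h.ee, h.e_mem02, h.e_mem13, h.good02.iso, h.good13.iso, h.comm02, ?_, ?_⟩
  · intro g hg
    rw [mem_cg]
    apply h.cen
    intro l hl
    have h3 := hg _ (conj_mem_cg (g := ρ) hl)
    calc ρ⁻¹ * g * ρ * l = ρ⁻¹ * (g * (ρ * l * ρ⁻¹)) * ρ := by group
      _ = ρ⁻¹ * ((ρ * l * ρ⁻¹) * g) * ρ := by rw [h3]
      _ = _ := by group
  · intro g hg
    have h3 : g * ρ = ρ * (ρ⁻¹ * g * ρ) := by group
    rcases h.perm _ (h.conj_comm_z hg) with ⟨q1, q2⟩ | ⟨q1, q2⟩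
    · left
      change cg g (cg ρ L1) = cg ρ L1
      rw [← cg_mul, h3, cg_mul, q1]
    · right
      change cg g (cg ρ L1) = cg ρ L2
      rw [← cg_mul, h3, cg_mul, q1]

/-- `z` inverts the root groups of `K02` -/
theorem z_inv02 {P : Subgroup G} (hP : RR z e (cg ρ L1) P) : ∀ x ∈ P, z * x * z⁻¹ = x⁻¹ := by
  intro x hx
  have h3 := hP.conj_inv h.ρ_V
  have h4 : ρ⁻¹ * x * ρ ∈ cg ρ⁻¹ P := by rw [mem_cg]; have : ρ⁻¹⁻¹ * (ρ⁻¹ * x * ρ) * ρ⁻¹ = x := by group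
                                         rw [this]; exact hx
  have h5 := h.good1.2.2 _ h3 _ h4
  have h6 : ρ⁻¹ * x * ρ ∈ L1 := h3.le h4
  have h7 : z * (ρ⁻¹ * x * ρ) * z⁻¹ = ρ⁻¹ * x * ρ := by rw [h.z_L1 _ h6, mul_inv_cancel_right]
  have h8 := h.ρ_ze
  calc z * x * z⁻¹ = ρ * (z * e) * ρ⁻¹ * x * (ρ * (z * e) * ρ⁻¹)⁻¹ := by rw [h8]
    _ = ρ * (z * (e * (ρ⁻¹ * x * ρ) * e⁻¹) * z⁻¹) * ρ⁻¹ := by group
    _ = ρ * (z * (ρ⁻¹ * x * ρ) * z⁻¹)⁻¹ * ρ⁻¹ := by rw [h5]; group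
    _ = x⁻¹ := by rw [h7]; group

theorem oneTwo {P : Subgroup G} (hP : RR z e (cg ρ L1) P) : ∃ σ, OneTwo.Inp (cg ρ L1) (cg ρ L2) P z e (n1 * n2)
    (ρ * h1 * ρ⁻¹) h1 n1 n2 σ := by
  obtain ⟨σ, -, s3, sz, se, sc, sh, sn, -, -⟩ := OneTwo.exists_sigma h.iso1 h.iso2 h.comm h.h1_mem h.n1_mem h.h2_mem
    h.n2_mem h.h1_sq h.n1_sq h.h2_sq h.n2_sq h.zz h.z_ne h.n1_h1 h.n2_h2
  rw [← h.e_eq] at se sc
  refine ⟨σ,
    { iso := h.good02.iso
      comm := h.comm02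
      eK := h.e_mem02
      eK' := h.e_mem13
      ee := h.ee
      e1 := h.e_ne
      inf := ?_
      cK := fun k hk => by rw [← h.c_K02]; exact conj_mem_cg hk
      cK' := fun k hk => by rw [← h.c_K13]; exact conj_mem_cg hk
      cc := h.c_c
      zc := h.c_z.symm
      hK := conj_mem_cg h.h1_mem
      hh := by rw [← conj_mul3, h.h1_sq, h.ρ_z]
      zK := ?_
      XK := hP.le
      card := hP.card
      Xz := h.z_inv02 hP
      Xh := fun x hx => by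
        have h3 := h.good02.fix _ h.h1_U P hP
        rw [← h3]; exact conj_mem_cg hx
      hz := h.h1_sq
      nz := h.n1_sq
      ch := ?_
      nh := h.n1_h1
      cn := rfl
      sz := sz
      se := se
      sc := sc
      sh := sh
      sn := sn
      s3 := s3
      cen := ?_ }⟩
  · intro a ha ha'
    rw [mem_cg] at ha ha'
    have h3 := h.ρ_z
    rcases h.inf12 ha ha' with h4 | h4
    · left
      calc a = ρ * (ρ⁻¹ * a * ρ) * ρ⁻¹ := by group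
        _ = 1 := by rw [h4]; group
    · right
      calc a = ρ * (ρ⁻¹ * a * ρ) * ρ⁻¹ := by group
        _ = e := by rw [h4, h3]
  · rintro _ ⟨l, hl, rfl⟩
    change z * (ρ * l * ρ⁻¹) * z⁻¹ = ρ * h1 * ρ⁻¹ * (ρ * l * ρ⁻¹) * (ρ * h1 * ρ⁻¹)⁻¹
    have h8 := h.ρ_ze
    have hl3 : e * l * e⁻¹ ∈ L1 := by
      rw [h.e_L1 l hl]; exact mul_mem (mul_mem h.h1_mem hl) (inv_mem h.h1_mem)
    calc z * (ρ * l * ρ⁻¹) * z⁻¹ = ρ * (z * e) * ρ⁻¹ * (ρ * l * ρ⁻¹) * (ρ * (z * e) * ρ⁻¹)⁻¹ := by rw [h8]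
      _ = ρ * (z * (e * l * e⁻¹) * z⁻¹) * ρ⁻¹ := by group
      _ = ρ * (e * l * e⁻¹) * ρ⁻¹ := by rw [h.z_L1 _ hl3, mul_inv_cancel_right]
      _ = ρ * (h1 * l * h1⁻¹) * ρ⁻¹ := by rw [h.e_L1 l hl]
      _ = _ := by group
  · calc n1 * n2 * h1 * (n1 * n2)⁻¹ = n1 * (n2 * h1) * n2⁻¹ * n1⁻¹ := by group
      _ = n1 * (h1 * n2) * n2⁻¹ * n1⁻¹ := by rw [h.h1_n2]
      _ = n1 * h1 * n1⁻¹ := by group
      _ = h1⁻¹ := h.n1_h1
  · intro p hp hp5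
    have h3 : (ρ⁻¹ * p * ρ) ^ 5 = 1 := by
      have : ρ⁻¹ * p * ρ = ρ⁻¹ * p * (ρ⁻¹)⁻¹ := by rw [inv_inv]
      rw [this, conj_pow, hp5]; group
    obtain ⟨a, ha, b, hb, hab⟩ := h.mem_sup_of_five (h.conj_comm_z hp) h3
    refine ⟨_, conj_mem_cg ha, _, conj_mem_cg hb, ?_⟩
    rw [← conj_mul3, ← hab]; group

end InpFive

end Cfsg.Agent.LFourFive
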