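import Cfsg.Agent.LFourFive.SixAbs
import Cfsg.Agent.LFourFive.SixOf
import Cfsg.Agent.LFourR.AssemPlus
import Cfsg.Agent.LFour.ConclR

/-!
# The end of the pencil: `G ≃* PSL₄(p)`

`psl4` : from `Sys p X z e`, the elements `g`, `n₂` and generation; `psl4_of_base`, `concl` (`p = 5`).
-/

set_option autoImplicit false
set_option linter.unusedVariables false
set_option linter.unusedSectionVars false

namespace Cfsg.Agent.LFourFive.SixEnd

open Matrix Cfsg.Agent.LFourFive.SixAbs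
open Cfsg.Agent.CTFrame.SL3 (S3)

universe u

variable {p : ℕ} [Fact p.Prime] {G : Type u} [Group G] [Finite G] {X : Fin 4 → Fin 4 → Subgroup G} {z e : G}

/-- the two elements used by the assembly -/
structure Two (X : Fin 4 → Fin 4 → Subgroup G) (g n : G) : Prop where
  g1 : cj g (K X 0 1) = K X 0 2
  g2 : cj g (K X 0 2) = K X 1 2
  g3 : cj g (K X 1 2) = K X 0 1
  g4 : cj g (K X 2 3) = K X 1 3
  g5 : cj g (K X 1 3) = K X 0 3
  g6 : cj g (K X 0 3) = K X 2 3
  mem : n ∈ K X 2 3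
  n1 : cj n (K X 0 2) = K X 0 3
  n2 : cj n (K X 1 2) = K X 1 3

/-- `K 0 1` and `K 2 3` commute -/
theorem comm_K (h : Sys p X z e) : ∀ x ∈ K X 0 1, ∀ y ∈ K X 2 3, x * y = y * x := by
  have key : ∀ i j k l : Fin 4, i ≠ j → i ≠ k → i ≠ l → j ≠ k → j ≠ l → k ≠ l →
      X i j ≤ Subgroup.centralizer (K X k l : Set G) := by
    intro i j k l h1 h2 h3 h4 h5 h6 x hx
    have h7 : K X k l ≤ Subgroup.centralizer {x} := by
      refine sup_le ?_ ?_
      · intro y hy
        rw [Subgroup.mem_centralizer_singleton_iff]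
        exact (h.opp i j k l h1 h2 h3 h4 h5 h6 x hx y hy).symm
      · intro y hy
        rw [Subgroup.mem_centralizer_singleton_iff]
        exact (h.opp i j l k h1 h3 h2 h5 h4 h6.symm x hx y hy).symm
    rw [Subgroup.mem_centralizer_iff]
    intro y hy
    exact Subgroup.mem_centralizer_singleton_iff.1 (h7 hy)
  have h1 : K X 0 1 ≤ Subgroup.centralizer (K X 2 3 : Set G) :=
    sup_le (key 0 1 2 3 (by decide) (by decide) (by decide) (by decide) (by decide) (by decide))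
      (key 1 0 2 3 (by decide) (by decide) (by decide) (by decide) (by decide) (by decide))
  intro x hx y hy
  exact (Subgroup.mem_centralizer_iff.1 (h1 hx) y hy).symm

theorem cj_eq (g : G) (H : Subgroup G) : LFourR.AssemPlus.cj g H = cj g H := rfl

theorem inp (hp : 3 < p) (h : Sys p X z e) {g n : G} (t : Two X g n) :
    ∃ φ : S3 (ZMod p) →* G, LFourR.AssemPlus.In φ (K X 0 1) (K X 2 3) g n := by
  obtain ⟨φ, h1, h2⟩ := exists_hom hp h
  refine ⟨φ, ?_⟩
  have e1 : cj (g * g) (K X 0 1) = K X 1 2 := by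
    rw [← SixOf.cj_cj, t.g1, t.g2]
  have e2 : cj (g * g) (K X 2 3) = K X 0 3 := by
    rw [← SixOf.cj_cj, t.g4, t.g5]
  exact
    { ker := by
        rw [(MonoidHom.ker_eq_bot_iff φ).2 h1]
        exact bot_le
      s01 := h2 0 1 (by decide)
      s02 := by rw [h2 0 2 (by decide), cj_eq, t.g1]; rfl
      s12 := by rw [h2 1 2 (by decide), cj_eq, e1]; rfl
      comm := comm_K h
      g1 := by
        rw [cj_eq, mul_assoc, ← SixOf.cj_cj, e1, t.g3]
      g2 := by
        rw [cj_eq, mul_assoc, ← SixOf.cj_cj, e2, t.g6]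
      n1 := fun x hx => (comm_K h x hx n t.mem).symm
      n02 := by rw [cj_eq, cj_eq, cj_eq, t.g1, t.n1, e2]
      n12 := by rw [cj_eq, cj_eq, cj_eq, e1, t.n2, t.g4] }

/-- **The end of the pencil.** -/
theorem psl4 [IsSimpleGroup G] (hp : 3 < p) (h : Sys p X z e) {g n : G} (t : Two X g n) {n1 : G} (hn1 : n1 ∈ K X 0 1)
    (h13 : cj n1 (K X 0 2) = K X 1 2) (hgen : K X 0 1 ⊔ K X 2 3 ⊔ K X 0 2 = ⊤) :
    Nonempty (G ≃* ProjectiveSpecialLinearGroup (Fin 4) (ZMod p)) := by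
  obtain ⟨φ, hφ⟩ := inp hp h t
  have e1 : cj (g * g) (K X 0 1) = K X 1 2 := by
    rw [← SixOf.cj_cj, t.g1, t.g2]
  refine LFourR.AssemPlus.psl4' hφ ?_ t.mem hn1 ?_ ?_
  · rw [Nat.card_zmod]
    exact (Fact.out : p.Prime).odd_of_ne_two (by omega)
  · rw [cj_eq, cj_eq, cj_eq, t.g1, e1, h13]
  · rw [cj_eq, t.g1, hgen]

/-- conclusion of S0510 -/
theorem concl [IsSimpleGroup G] (hp : 3 < p) (h : Sys p X z e) {g n : G} (t : Two X g n) {n1 : G} (hn1 : n1 ∈ K X 0 1)
    (h13 : cj n1 (K X 0 2) = K X 1 2) (hgen : K X 0 1 ⊔ K X 2 3 ⊔ K X 0 2 = ⊤) : LFour.ConclLU G := by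
  refine Or.inl ⟨ZMod p, inferInstance, inferInstance, ?_, psl4 hp h t hn1 h13 hgen⟩
  rw [ZMod.card]
  exact (Fact.out : p.Prime).odd_of_ne_two (by omega)

end Cfsg.Agent.LFourFive.SixEnd
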