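import Mathlib
import Cfsg.Agent.LFourFive.LabPair
import Cfsg.Agent.LFourFive.SixEnd

/-!
# Statement S0510, type B5, `|F| = 5`: `InpFive` implies `G ≃* PSL₄(5)`
-/

set_option autoImplicit false
set_option linter.unusedSectionVars false

namespace Cfsg.Agent.LFourFive

open Subgroup Cfsg.Agent.LFourR

universe u

variable {G : Type u} [Group G] {z e ρ n1 n2 h1 h2 : G} {L1 L2 U : Subgroup G}

namespace InpFive

variable (h : InpFive z e ρ n1 n2 h1 h2 L1 L2 U)

include h

/-- **The system of the twelve root groups.** -/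
theorem exists_base [Finite G] : ∃ (X : Fin 4 → Fin 4 → Subgroup G) (g : G), Base 5 X z e ∧
    Rot z e ρ n1 n2 L1 L2 U g ∧ (∀ i j, i ≠ j → K X i j = KK ρ n1 L1 L2 i j) := by
  have hfact : Fact (Nat.Prime 5) := ⟨by norm_num⟩
  obtain ⟨g, r⟩ := h.exists_rot
  obtain ⟨P, Q, hP, hQ, hPQ⟩ := h.good02.ex
  obtain ⟨X, x02, x20, x12, x03, x13, x21, x30, x31, hR, hne, a1, a2, a3⟩ :=
    LabelsBase.exists_labels (r.clab h) hP hQ hPQ
  have hK : ∀ i j, i ≠ j → K X i j = KK ρ n1 L1 L2 i j := by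
    intro i j hij
    refine (h.good hij).sup _ _ (hR i j hij) ?_ (hne i j hij)
    have h3 := hR j i hij.symm
    rw [KK_symm] at h3
    exact h3
  obtain ⟨σ, I⟩ := h.oneTwo hP
  have hcol : ∀ x ∈ P, ∀ y ∈ cj n1 P, x * y = y * x := by
    rintro x hx _ ⟨y, hy, rfl⟩
    exact (I.main hx hy).2.1
  have hrow : ∀ x ∈ P, ∀ y ∈ cj n2 P, x * y = y * x := by
    rintro x hx _ ⟨y, hy, rfl⟩
    exact (I.main hx hy).2.2
  have K02 : K X 0 2 = cg ρ L1 := hK 0 2 (by decide)
  have K13 : K X 1 3 = cg ρ L2 := hK 1 3 (by decide)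
  have K23 : K X 2 3 = L2 := hK 2 3 (by decide)
  have hpre : LabelsBase.Pre' 5 z e n1 n2 g X :=
    { sqz := h.zz
      sqe := h.ee
      e_ne := h.e_ne
      ze := h.ze
      n1z := h.n1_z
      n1e := by rw [h.n1_e, h.ze]
      n2z := h.n2_z
      n2e := by rw [h.n2_e, h.ze]
      gz := r.g_z
      ge := r.g_e
      a1 := a1
      a2 := a2
      a3 := a3
      n2mem := by rw [K23]; exact h.n2_mem
      card := by rw [x02]; exact hP.card
      iso := by rw [K02]; exact h.good02.iso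
      emem := by rw [K02]; exact h.e_mem02
      fix := by
        rw [x02]
        exact fun x hx => (h.comm02 x (hP.le hx) e h.e_mem13).symm
      inv := by rw [x02]; exact h.z_inv02 hP
      cK := by
        rw [x02, K13]
        exact fun x hx y hy => h.comm02 x (hP.le hx) y hy
      row := by rw [x02, x03]; exact hrow
      col := by rw [x02, x12]; exact hcol }
  obtain ⟨Q', hQ'⟩ := h.pair.exists_core hP.le hP.card
  refine ⟨X, g, hpre.base (by norm_num) (Q := Q') ?_, r, hK⟩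
  rw [x02, K13]
  exact hQ'

/-- **`G ≃* PSL₄(5)`.** -/
theorem psl4 [Finite G] [IsSimpleGroup G] :
    Nonempty (G ≃* Matrix.ProjectiveSpecialLinearGroup (Fin 4) (ZMod 5)) := by
  have hfact : Fact (Nat.Prime 5) := ⟨by norm_num⟩
  obtain ⟨X, g, hB, r, hK⟩ := h.exists_base
  have k01 : K X 0 1 = L1 := hK 0 1 (by decide)
  have k02 : K X 0 2 = cg ρ L1 := hK 0 2 (by decide)
  have k12 : K X 1 2 = cg n1 (cg ρ L1) := hK 1 2 (by decide)
  have k13 : K X 1 3 = cg ρ L2 := hK 1 3 (by decide)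
  have k23 : K X 2 3 = L2 := hK 2 3 (by decide)
  have k03 : K X 0 3 = cg n1 (cg ρ L2) := hK 0 3 (by decide)
  refine SixEnd.psl4 (p := 5) (g := g) (n := n2) (n1 := n1) (by norm_num) (SixOf.sys_of_base hB) ?_ ?_ ?_ ?_
  · refine ⟨?_, ?_, ?_, ?_, ?_, ?_, ?_, ?_, ?_⟩
    · rw [k01, k02]; exact r.g01
    · rw [k02, k12]; exact r.g02
    · rw [k12, k01]; exact r.g12
    · rw [k23, k13]; exact r.g23
    · rw [k13, k03]; exact r.g13
    · rw [k03, k23]; exact r.g03
    · rw [k23]; exact h.n2_mem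
    · rw [k02, k03]; exact h.n2_K02
    · rw [k12, k13]; exact h.n2_K12
  · rw [k01]; exact h.n1_mem
  · rw [k02, k12]; rfl
  · rw [k01, k23, k02]
    exact h.data.sup_eq_top h.closed

/-- conclusion of S0510 -/
theorem concl [Finite G] [IsSimpleGroup G] : LFour.ConclLU G := by
  refine Or.inl ⟨ZMod 5, inferInstance, inferInstance, ?_, h.psl4⟩
  rw [ZMod.card]
  decide

end InpFive

end Cfsg.Agent.LFourFive
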