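import Mathlib

/-!
# Statement S0510, type B5, `|F| = 5`, step (3): the labelling of the twelve root groups

Abstract form: a group `G` acts on a type `Ω`; `R i j` = the (two) root groups of the component `K i j`; `n1`, `n2`, `g`
act on the labels as `(0 1)`, `(2 3)` and the `3`-cycle `2 → 1 → 0 → 2`. If certain words fix all root groups there is a
labelling `X i j` of the root groups which is compatible with the action.
-/

set_option autoImplicit false

namespace Cfsg.Agent.LFourFive.Labels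

variable {G Ω : Type*} [Group G] [MulAction G Ω]

/-- the label permutation of `n₁` -/
def s1 : Equiv.Perm (Fin 4) := Equiv.swap 0 1
/-- the label permutation of `n₂` -/
def s2 : Equiv.Perm (Fin 4) := Equiv.swap 2 3
/-- the label permutation of `g` : `2 → 1 → 0 → 2` -/
def s3 : Equiv.Perm (Fin 4) := Equiv.swap 1 2 * Equiv.swap 0 1

/-- `y` fixes all root groups -/
def Fix (R : Fin 4 → Fin 4 → Ω → Prop) (y : G) : Prop := ∀ i j, i ≠ j → ∀ P, R i j P → y • P = P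

/-- the hypotheses -/
structure Lab (n1 n2 g : G) (R : Fin 4 → Fin 4 → Ω → Prop) : Prop where
  symm : ∀ i j, i ≠ j → ∀ P, R i j P → R j i P
  two : ∀ P Q S, R 0 2 P → R 0 2 Q → R 0 2 S → P ≠ Q → S = P ∨ S = Q
  r1 : ∀ i j, i ≠ j → ∀ P, R i j P → R (s1 i) (s1 j) (n1 • P)
  r2 : ∀ i j, i ≠ j → ∀ P, R i j P → R (s2 i) (s2 j) (n2 • P)
  r3 : ∀ i j, i ≠ j → ∀ P, R i j P → R (s3 i) (s3 j) (g • P)
  m1 : ∀ P, R 0 1 P → n1 • P ≠ P
  f1 : ∀ P, R 2 3 P → n1 • P = P
  m2 : ∀ P, R 2 3 P → n2 • P ≠ P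
  f2 : ∀ P, R 0 1 P → n2 • P = P
  comm : n1 * n2 = n2 * n1
  z1 : Fix R (n1 * n1)
  z2 : Fix R (n2 * n2)
  g3 : Fix R (g * g * g)
  y1 : Fix R (n1 * g * n1⁻¹ * g)
  y2 : Fix R ((g * g * (n1 * n2))⁻¹ * (n1 * n2 * g * (n1 * n2) * g))

variable {n1 n2 g : G} {R : Fin 4 → Fin 4 → Ω → Prop}

namespace Lab

variable (h : Lab n1 n2 g R)

include h

theorem n1_n1 {i j : Fin 4} (hij : i ≠ j) {P : Ω} (hP : R i j P) : n1 • n1 • P = P := by
  rw [← mul_smul]; exact h.z1 i j hij P hP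

theorem n2_n2 {i j : Fin 4} (hij : i ≠ j) {P : Ω} (hP : R i j P) : n2 • n2 • P = P := by
  rw [← mul_smul]; exact h.z2 i j hij P hP

theorem ggg {i j : Fin 4} (hij : i ≠ j) {P : Ω} (hP : R i j P) : g • g • g • P = P := by
  have := h.g3 i j hij P hP
  rwa [mul_smul, mul_smul] at this

theorem n2_n1 (P : Ω) : n2 • n1 • P = n1 • n2 • P := by
  rw [← mul_smul, ← h.comm, mul_smul]

/-- `n₁ g n₁⁻¹ g` fixes the root groups -/
theorem y1' {i j : Fin 4} (hij : i ≠ j) {P : Ω} (hP : R i j P) (hgP : n1 • n1 • g • P = g • P) :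
    n1 • g • n1 • g • P = P := by
  have h1 := h.y1 i j hij P hP
  rw [mul_smul, mul_smul, mul_smul] at h1
  have h2 : n1⁻¹ • g • P = n1 • g • P := by
    rw [inv_smul_eq_iff, hgP]
  rwa [h2] at h1

/-- `g² c = c g c g` on the root groups -/
theorem y2' {i j : Fin 4} (hij : i ≠ j) {P : Ω} (hP : R i j P) :
    g • g • n1 • n2 • P = n1 • n2 • g • n1 • n2 • g • P := by
  have h1 := h.y2 i j hij P hP
  rw [mul_smul, inv_smul_eq_iff] at h1
  simp only [mul_smul] at h1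
  exact h1.symm

/-- the elements of `R 1 2` -/
theorem two12 {P Q S : Ω} (hP : R 0 2 P) (hQ : R 0 2 Q) (hS : R 1 2 S) (hPQ : P ≠ Q) : S = n1 • P ∨ S = n1 • Q := by
  have h1 : R 0 2 (n1 • S) := h.r1 1 2 (by decide) S hS
  have h2 : n1 • n1 • S = S := h.n1_n1 (by decide) hS
  rcases h.two P Q _ hP hQ h1 hPQ with h3 | h3
  · left; rw [← h3, h2]
  · right; rw [← h3, h2]

/-- (A) -/
theorem g_ne {P : Ω} (hP : R 0 2 P) : g • P ≠ n1 • P := by
  intro hA
  have h1 : R 2 1 (g • P) := h.r3 0 2 (by decide) P hP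
  have h2 : R 1 0 (g • g • P) := h.r3 2 1 (by decide) _ h1
  have h3 : g • g • g • P = P := h.ggg (by decide) hP
  have h4 : n1 • n1 • P = P := h.n1_n1 (by decide) hP
  have h5 := h.y1' (P := g • g • P) (by decide) h2 (by rw [h3]; exact h4)
  rw [h3, ← hA] at h5
  exact h.m1 _ (h.symm 1 0 (by decide) _ h2) h5

theorem g_eq {P Q : Ω} (hP : R 0 2 P) (hQ : R 0 2 Q) (hPQ : P ≠ Q) : g • P = n1 • Q := by
  have h1 : R 1 2 (g • P) := h.symm 2 1 (by decide) _ (h.r3 0 2 (by decide) P hP)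
  rcases h.two12 hP hQ h1 hPQ with h2 | h2
  · exact absurd h2 (h.g_ne hP)
  · exact h2

/-- the two elements of `R 0 1` are `g • n₁ • P` and `g • n₁ • Q`, and `n₁` swaps them -/
theorem n1_swap {P Q : Ω} (hP : R 0 2 P) (hQ : R 0 2 Q) (hPQ : P ≠ Q) : n1 • g • n1 • P = g • n1 • Q := by
  have h0 : R 1 2 (n1 • P) := h.r1 0 2 (by decide) P hP
  have h1 : R 0 1 (g • n1 • P) := h.r3 1 2 (by decide) _ h0
  have h2 : R 1 0 (n1 • g • n1 • P) := h.r1 0 1 (by decide) _ h1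
  have h3 : R 0 2 (g • n1 • g • n1 • P) := h.symm 2 0 (by decide) _ (h.r3 0 1 (by decide) _ (h.symm 1 0 (by decide) _ h2))
  -- apply `g` twice
  have h4 : R 1 2 (g • g • n1 • g • n1 • P) := h.symm 2 1 (by decide) _ (h.r3 0 2 (by decide) _ h3)
  have h5 : g • g • g • n1 • g • n1 • P = n1 • g • n1 • P := h.ggg (by decide) h2
  rcases h.two12 hP hQ h4 hPQ with h6 | h6
  · exfalso
    rw [h6] at h5
    exact h.m1 _ h1 h5.symm
  · rw [← h5, h6]

/-- the two elements of `R 2 3`: `g • n₂ • P` and `g • n₂ • Q`, and `n₂` swaps them -/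
theorem n2_swap {P Q : Ω} (hP : R 0 2 P) (hQ : R 0 2 Q) (hPQ : P ≠ Q) : n2 • g • n2 • P = g • n2 • Q := by
  have h0 : R 0 3 (n2 • P) := h.r2 0 2 (by decide) P hP
  have h1 : R 2 3 (g • n2 • P) := h.r3 0 3 (by decide) _ h0
  have h2 : R 3 2 (n2 • g • n2 • P) := h.r2 2 3 (by decide) _ h1
  have h2' : R 2 3 (n2 • g • n2 • P) := h.symm 3 2 (by decide) _ h2
  have h3 : R 1 3 (g • n2 • g • n2 • P) := h.r3 2 3 (by decide) _ h2'
  have h4 : R 0 3 (g • g • n2 • g • n2 • P) := h.r3 1 3 (by decide) _ h3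
  have h5 : g • g • g • n2 • g • n2 • P = n2 • g • n2 • P := h.ggg (by decide) h2
  have h6 : R 0 2 (n2 • g • g • n2 • g • n2 • P) := h.r2 0 3 (by decide) _ h4
  have h7 : n2 • n2 • g • g • n2 • g • n2 • P = g • g • n2 • g • n2 • P := h.n2_n2 (by decide) h4
  rcases h.two P Q _ hP hQ h6 hPQ with h8 | h8
  · exfalso
    rw [h8] at h7
    rw [← h7] at h5
    exact h.m2 _ h1 h5.symm
  · rw [h8] at h7
    rw [← h7] at h5
    exact h5.symm

/-- (B) -/
theorem g_c {P Q : Ω} (hP : R 0 2 P) (hQ : R 0 2 Q) (hPQ : P ≠ Q) : g • n1 • n2 • P = n2 • P := by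
  -- `X 1 0 = g • g • P = g • n₁ • Q`
  have hgP : g • P = n1 • Q := h.g_eq hP hQ hPQ
  have hgQ : g • Q = n1 • P := h.g_eq hQ hP hPQ.symm
  have h0 : R 1 2 (n1 • P) := h.r1 0 2 (by decide) P hP
  have h0' : R 1 2 (n1 • Q) := h.r1 0 2 (by decide) Q hQ
  have h1 : R 1 0 (g • g • P) := h.r3 2 1 (by decide) _ (h.r3 0 2 (by decide) P hP)
  have h2 := h.y2' (by decide) h1
  rw [h.f2 _ (h.symm 1 0 (by decide) _ h1), h.ggg (by decide) hP] at h2
  -- `n₁ X 1 0 = X 0 1`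
  have h3 : n1 • g • g • P = g • n1 • P := by
    rw [hgP, h.n1_swap hQ hP hPQ.symm]
  rw [h3, h.ggg (by decide) h0] at h2
  -- `h2 : n₁ P = n₁ n₂ g n₁ n₂ P`
  have h4 : P = n2 • g • n1 • n2 • P := by
    have := congrArg (fun x => n1⁻¹ • x) h2
    simpa only [inv_smul_smul] using this
  have h5 : R 0 3 (g • n1 • n2 • P) := h.r3 1 3 (by decide) _ (h.r1 0 3 (by decide) _ (h.r2 0 2 (by decide) P hP))
  have h6 := h.n2_n2 (by decide) h5
  rw [← h4] at h6
  exact h6.symm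

end Lab

/-- the labelling -/
def X (n1 n2 g : G) (b P Q : Ω) : Fin 4 → Fin 4 → Ω :=
  ![![b, g • n1 • P, P, n2 • P], ![g • n1 • Q, b, n1 • P, n1 • n2 • P], ![Q, n1 • Q, b, g • n2 • P],
    ![n2 • Q, n1 • n2 • Q, g • n2 • Q, b]]

namespace Lab

variable (h : Lab n1 n2 g R)

include h

section

variable {b P Q : Ω} (hP : R 0 2 P) (hQ : R 0 2 Q) (hPQ : P ≠ Q)

include hP hQ

theorem mem {i j : Fin 4} (hij : i ≠ j) : R i j (X n1 n2 g b P Q i j) := by
  have a02 : R 0 2 P := hP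
  have a20 : R 2 0 Q := h.symm 0 2 (by decide) _ hQ
  have a12 : R 1 2 (n1 • P) := h.r1 0 2 (by decide) _ hP
  have a21 : R 2 1 (n1 • Q) := h.r1 2 0 (by decide) _ a20
  have a03 : R 0 3 (n2 • P) := h.r2 0 2 (by decide) _ hP
  have a30 : R 3 0 (n2 • Q) := h.r2 2 0 (by decide) _ a20
  have a13 : R 1 3 (n1 • n2 • P) := h.r1 0 3 (by decide) _ a03
  have a31 : R 3 1 (n1 • n2 • Q) := h.r1 3 0 (by decide) _ a30
  have a01 : R 0 1 (g • n1 • P) := h.r3 1 2 (by decide) _ a12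
  have a10 : R 1 0 (g • n1 • Q) := h.r3 2 1 (by decide) _ a21
  have a23 : R 2 3 (g • n2 • P) := h.r3 0 3 (by decide) _ a03
  have a32 : R 3 2 (g • n2 • Q) := h.r3 3 0 (by decide) _ a30
  fin_cases i <;> fin_cases j <;> first
    | exact absurd rfl hij
    | assumption

include hPQ

omit h hP hQ in
theorem ne {i j : Fin 4} (hij : i ≠ j) : X n1 n2 g b P Q i j ≠ X n1 n2 g b P Q j i := by
  have k : ∀ a : G, a • P ≠ a • Q := fun a h1 => hPQ (smul_left_cancel a h1)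
  have k12 : n1 • P ≠ n1 • Q := k n1
  have k03 : n2 • P ≠ n2 • Q := k n2
  have k13 : n1 • n2 • P ≠ n1 • n2 • Q := by
    rw [← mul_smul, ← mul_smul]; exact k _
  have k01 : g • n1 • P ≠ g • n1 • Q := by
    rw [← mul_smul, ← mul_smul]; exact k _
  have k23 : g • n2 • P ≠ g • n2 • Q := by
    rw [← mul_smul, ← mul_smul]; exact k _
  fin_cases i <;> fin_cases j <;> first
    | exact absurd rfl hij | exact hPQ | exact hPQ.symm | exact k12 | exact k12.symm | exact k03 | exact k03.symm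
    | exact k13 | exact k13.symm | exact k01 | exact k01.symm | exact k23 | exact k23.symm

theorem act1 {i j : Fin 4} (hij : i ≠ j) : n1 • X n1 n2 g b P Q i j = X n1 n2 g b P Q (s1 i) (s1 j) := by
  have a02 : R 0 2 P := hP
  have a20 : R 2 0 Q := h.symm 0 2 (by decide) _ hQ
  have a03 : R 0 3 (n2 • P) := h.r2 0 2 (by decide) _ hP
  have a30 : R 3 0 (n2 • Q) := h.r2 2 0 (by decide) _ a20
  have a23 : R 2 3 (g • n2 • P) := h.r3 0 3 (by decide) _ a03
  have a32 : R 3 2 (g • n2 • Q) := h.r3 3 0 (by decide) _ a30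
  have e01 : n1 • g • n1 • P = g • n1 • Q := h.n1_swap hP hQ hPQ
  have e10 : n1 • g • n1 • Q = g • n1 • P := h.n1_swap hQ hP hPQ.symm
  have e12 : n1 • n1 • P = P := h.n1_n1 (by decide) hP
  have e21 : n1 • n1 • Q = Q := h.n1_n1 (by decide) hQ
  have e13 : n1 • n1 • n2 • P = n2 • P := h.n1_n1 (by decide) a03
  have e31 : n1 • n1 • n2 • Q = n2 • Q := h.n1_n1 (by decide) a30
  have e23 : n1 • g • n2 • P = g • n2 • P := h.f1 _ a23
  have e32 : n1 • g • n2 • Q = g • n2 • Q := h.f1 _ (h.symm 3 2 (by decide) _ a32)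
  fin_cases i <;> fin_cases j <;> first
    | exact absurd rfl hij | rfl | exact e01 | exact e10 | exact e12 | exact e21 | exact e13 | exact e31
    | exact e23 | exact e32

theorem act2 {i j : Fin 4} (hij : i ≠ j) : n2 • X n1 n2 g b P Q i j = X n1 n2 g b P Q (s2 i) (s2 j) := by
  have a20 : R 2 0 Q := h.symm 0 2 (by decide) _ hQ
  have a12 : R 1 2 (n1 • P) := h.r1 0 2 (by decide) _ hP
  have a21 : R 2 1 (n1 • Q) := h.r1 2 0 (by decide) _ a20
  have a01 : R 0 1 (g • n1 • P) := h.r3 1 2 (by decide) _ a12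
  have a10 : R 1 0 (g • n1 • Q) := h.r3 2 1 (by decide) _ a21
  have e23 : n2 • g • n2 • P = g • n2 • Q := h.n2_swap hP hQ hPQ
  have e32 : n2 • g • n2 • Q = g • n2 • P := h.n2_swap hQ hP hPQ.symm
  have e03 : n2 • n2 • P = P := h.n2_n2 (by decide) hP
  have e30 : n2 • n2 • Q = Q := h.n2_n2 (by decide) hQ
  have e12 : n2 • n1 • P = n1 • n2 • P := h.n2_n1 P
  have e21 : n2 • n1 • Q = n1 • n2 • Q := h.n2_n1 Q
  have e13 : n2 • n1 • n2 • P = n1 • P := by rw [h.n2_n1, e03]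
  have e31 : n2 • n1 • n2 • Q = n1 • Q := by rw [h.n2_n1, e30]
  have e01 : n2 • g • n1 • P = g • n1 • P := h.f2 _ a01
  have e10 : n2 • g • n1 • Q = g • n1 • Q := h.f2 _ (h.symm 1 0 (by decide) _ a10)
  fin_cases i <;> fin_cases j <;> first
    | exact absurd rfl hij | rfl | exact e01 | exact e10 | exact e12 | exact e21 | exact e13 | exact e31
    | exact e23 | exact e32 | exact e03 | exact e30

theorem act3 {i j : Fin 4} (hij : i ≠ j) : g • X n1 n2 g b P Q i j = X n1 n2 g b P Q (s3 i) (s3 j) := by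
  have a12 : R 1 2 (n1 • P) := h.r1 0 2 (by decide) _ hP
  have a12' : R 1 2 (n1 • Q) := h.r1 0 2 (by decide) _ hQ
  have a03 : R 0 3 (n2 • P) := h.r2 0 2 (by decide) _ hP
  have a03' : R 0 3 (n2 • Q) := h.r2 0 2 (by decide) _ hQ
  have a13 : R 1 3 (n1 • n2 • P) := h.r1 0 3 (by decide) _ a03
  have a13' : R 1 3 (n1 • n2 • Q) := h.r1 0 3 (by decide) _ a03'
  have e02 : g • P = n1 • Q := h.g_eq hP hQ hPQ
  have e20 : g • Q = n1 • P := h.g_eq hQ hP hPQ.symm
  have e13 : g • n1 • n2 • P = n2 • P := h.g_c hP hQ hPQ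
  have e31 : g • n1 • n2 • Q = n2 • Q := h.g_c hQ hP hPQ.symm
  have e01 : g • g • n1 • P = Q := by
    rw [← e20]; exact h.ggg (by decide) hQ
  have e10 : g • g • n1 • Q = P := by
    rw [← e02]; exact h.ggg (by decide) hP
  have e23 : g • g • n2 • P = n1 • n2 • P := by
    conv_lhs => rw [← e13]
    exact h.ggg (by decide) a13
  have e32 : g • g • n2 • Q = n1 • n2 • Q := by
    conv_lhs => rw [← e31]
    exact h.ggg (by decide) a13'
  fin_cases i <;> fin_cases j <;> first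
    | exact absurd rfl hij | rfl | exact e01 | exact e10 | exact e02 | exact e20 | exact e13 | exact e31
    | exact e23 | exact e32

end

end Lab

end Cfsg.Agent.LFourFive.Labels
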