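import Mathlib

/-!
# S0510, `L₄(5)`: facts about `SL(2, 5)` for steps (1), (2)

* `two_roots`: at most two subgroups of order 5 are inverted by an element `h` with `h² = -1`.
* `exists_sigma`: `h² = n² = -1`, `n h n⁻¹ = h⁻¹`: an element of order 3 maps `h → n → h n`.
-/

set_option autoImplicit false
set_option Elab.async false
set_option linter.unusedSimpArgs false

open Matrix

namespace Cfsg.Agent.LFourFive.OneTwo

abbrev SL5 := SpecialLinearGroup (Fin 2) (ZMod 5)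

theorem d_tr : ∀ s t u v : ZMod 5, s * v - t * u = 1 → s * s + t * u = -1 → s * t + t * v = 0 →
    v = -s := by
  decide +kernel

theorem d_one : ∀ s t u v : ZMod 5, s * v - t * u = 1 → s * s + t * u = 1 → s * t + t * v = 0 →
    u * s + v * u = 0 → u * t + v * v = 1 →
    (s = 1 ∧ t = 0 ∧ u = 0 ∧ v = 1) ∨ (s = -1 ∧ t = 0 ∧ u = 0 ∧ v = -1) := by
  decide +kernel

/-- the sign of a nilpotent element anticommuting with `h` -/
def Sg (ε s t u p q r : ZMod 5) : Prop := s * p + t * r = ε * p ∧ s * q - t * p = ε * q ∧ u * p - s * r = ε * r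

instance (ε s t u p q r : ZMod 5) : Decidable (Sg ε s t u p q r) := by
  unfold Sg; infer_instance

theorem d_sign : ∀ s t u : ZMod 5, s * s + t * u = -1 → ∀ p q r : ZMod 5, p * p + q * r = 0 →
    2 * s * p + t * r + u * q = 0 → Sg 2 s t u p q r ∨ Sg 3 s t u p q r := by
  decide +kernel

/-- nilpotent, anticommuting with `h`, sign `ε` -/
def Ok (ε s t u p q r : ZMod 5) : Prop :=
  p * p + q * r = 0 ∧ 2 * s * p + t * r + u * q = 0 ∧ Sg ε s t u p q r

instance (ε s t u p q r : ZMod 5) : Decidable (Ok ε s t u p q r) := by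
  unfold Ok; infer_instance

/-- proportional -/
def Prp (p q r p' q' r' : ZMod 5) : Prop := ∃ k : ZMod 5, p' = k * p ∧ q' = k * q ∧ r' = k * r

instance (p q r p' q' r' : ZMod 5) : Decidable (Prp p q r p' q' r') := by
  unfold Prp; infer_instance

def B1 (ε s t u p q r : ZMod 5) : Prop :=
  ∀ p' q' r' : ZMod 5, Ok ε s t u p' q' r' → Prp p q r p' q' r'

instance (ε s t u p q r : ZMod 5) : Decidable (B1 ε s t u p q r) := by
  unfold B1; infer_instance

def B2 (ε s t u : ZMod 5) : Prop :=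
  ∀ p q r : ZMod 5, Ok ε s t u p q r → ¬ (p = 0 ∧ q = 0 ∧ r = 0) → B1 ε s t u p q r

instance (ε s t u : ZMod 5) : Decidable (B2 ε s t u) := by
  unfold B2; infer_instance

theorem d_prop : ∀ ε : ZMod 5, (ε = 2 ∨ ε = 3) → ∀ s t u : ZMod 5, s * s + t * u = -1 →
    B2 ε s t u := by
  decide +kernel

theorem d_sigma : ∀ s t u : ZMod 5, s * s + t * u = -1 → ∀ p q r : ZMod 5, p * p + q * r = -1 →
    2 * s * p + t * r + u * q = 0 →
    ∃ a b c d : ZMod 5, a * d - b * c = 1 ∧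
      (a * s + b * u = p * a + q * c ∧ a * t - b * s = p * b + q * d ∧ c * s + d * u = r * a - p * c ∧
        c * t - d * s = r * b - p * d) ∧
      (a * p + b * r = (s * p + t * r) * a + (s * q - t * p) * c ∧
        a * q - b * p = (s * p + t * r) * b + (s * q - t * p) * d ∧
        c * p + d * r = (u * p - s * r) * a + (u * q + s * p) * c ∧
        c * q - d * p = (u * p - s * r) * b + (u * q + s * p) * d) ∧ a + d = -1 := by
  intro s t u h1 p q r h2 h3
  refine ⟨2 * (1 + s + p + (s * p + t * r)), 2 * (t + q + (s * q - t * p)),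
    2 * (u + r + (u * p - s * r)), 2 * (1 - s - p + (u * q + s * p)), ?_⟩
  revert h3
  revert h2
  revert p q r
  revert h1
  revert s t u
  decide +kernel

/-! ### entries -/

instance : Fact (Nat.Prime 5) := ⟨by norm_num⟩

/-- the matrix `(1 + p, q; r, 1 - p)` -/
structure Uni (A : SL5) (p q r : ZMod 5) : Prop where
  e00 : A 0 0 = 1 + p
  e01 : A 0 1 = q
  e10 : A 1 0 = r
  e11 : A 1 1 = 1 - p
  nil : p * p + q * r = 0

theorem det_eq (A : SL5) : A 0 0 * A 1 1 - A 0 1 * A 1 0 = 1 := by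
  have h := A.det_coe
  rwa [Matrix.det_fin_two] at h

theorem ext4 {A B : SL5} (h1 : A 0 0 = B 0 0) (h2 : A 0 1 = B 0 1) (h3 : A 1 0 = B 1 0)
    (h4 : A 1 1 = B 1 1) : A = B := by
  ext i j
  fin_cases i <;> fin_cases j <;> assumption

theorem mul00 (A B : SL5) : (A * B) 0 0 = A 0 0 * B 0 0 + A 0 1 * B 1 0 := by
  have h := congrFun (congrFun (Matrix.SpecialLinearGroup.coe_mul A B) 0) 0
  rw [Matrix.mul_apply, Fin.sum_univ_two] at h
  exact h

theorem mul01 (A B : SL5) : (A * B) 0 1 = A 0 0 * B 0 1 + A 0 1 * B 1 1 := by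
  have h := congrFun (congrFun (Matrix.SpecialLinearGroup.coe_mul A B) 0) 1
  rw [Matrix.mul_apply, Fin.sum_univ_two] at h
  exact h

theorem mul10 (A B : SL5) : (A * B) 1 0 = A 1 0 * B 0 0 + A 1 1 * B 1 0 := by
  have h := congrFun (congrFun (Matrix.SpecialLinearGroup.coe_mul A B) 1) 0
  rw [Matrix.mul_apply, Fin.sum_univ_two] at h
  exact h

theorem mul11 (A B : SL5) : (A * B) 1 1 = A 1 0 * B 0 1 + A 1 1 * B 1 1 := by
  have h := congrFun (congrFun (Matrix.SpecialLinearGroup.coe_mul A B) 1) 1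
  rw [Matrix.mul_apply, Fin.sum_univ_two] at h
  exact h

theorem one00 : (1 : SL5) 0 0 = 1 := rfl
theorem one01 : (1 : SL5) 0 1 = 0 := rfl
theorem one10 : (1 : SL5) 1 0 = 0 := rfl
theorem one11 : (1 : SL5) 1 1 = 1 := rfl

/-- elements of order 5 are unipotent -/
theorem exists_uni {A : SL5} (h : A ^ 5 = 1) : ∃ p q r, Uni A p q r := by
  have h1 : ((A : Matrix (Fin 2) (Fin 2) (ZMod 5)) - 1) ^ 5 = 0 := by
    have h2 : Commute (A : Matrix (Fin 2) (Fin 2) (ZMod 5)) 1 := Commute.one_right _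
    have h3 := sub_pow_char_of_commute (p := 5) h2
    rw [h3, one_pow, sub_eq_zero]
    have h4 := congrArg (fun B : SL5 => (B : Matrix (Fin 2) (Fin 2) (ZMod 5))) h
    simpa using h4
  have h2 : IsNilpotent ((A : Matrix (Fin 2) (Fin 2) (ZMod 5)) - 1) := ⟨5, h1⟩
  have h3 := (Matrix.isNilpotent_trace_of_isNilpotent h2).eq_zero
  rw [Matrix.trace_sub, Matrix.trace_fin_two, Matrix.trace_one] at h3
  simp at h3
  have h4 : A 0 0 + A 1 1 = 2 := by
    rw [sub_eq_zero] at h3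
    exact h3
  have h5 := det_eq A
  refine ⟨A 0 0 - 1, A 0 1, A 1 0, ⟨by ring, rfl, rfl, by linear_combination h4, ?_⟩⟩
  linear_combination -h5 + (A 0 0) * h4

namespace Uni

variable {A B : SL5} {p q r : ZMod 5}

theorem pow (h : Uni A p q r) (n : ℕ) :
    (A ^ n) 0 0 = 1 + n * p ∧ (A ^ n) 0 1 = n * q ∧ (A ^ n) 1 0 = n * r ∧ (A ^ n) 1 1 = 1 - n * p := by
  have h0 := h.nil
  induction n with
  | zero => simp [one00, one01, one10, one11]
  | succ n ih =>
    obtain ⟨i0, i1, i2, i3⟩ := ih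
    rw [pow_succ, mul00, mul01, mul10, mul11, i0, i1, i2, i3, h.e00, h.e01, h.e10, h.e11]
    push_cast
    refine ⟨?_, ?_, ?_, ?_⟩
    · linear_combination (n : ZMod 5) * h0
    · ring
    · ring
    · linear_combination (n : ZMod 5) * h0

theorem ne (h : Uni A p q r) (hA : A ≠ 1) : ¬ (p = 0 ∧ q = 0 ∧ r = 0) := by
  rintro ⟨rfl, rfl, rfl⟩
  apply hA
  apply ext4
  · rw [h.e00, one00]; ring
  · rw [h.e01, one01]
  · rw [h.e10, one10]
  · rw [h.e11, one11]; ring

theorem mem_of_prp (h : Uni A p q r) {p' q' r' : ZMod 5} (h' : Uni B p' q' r')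
    (hp : Prp p q r p' q' r') : B ∈ Subgroup.zpowers A := by
  obtain ⟨k, h1, h2, h3⟩ := hp
  refine Subgroup.mem_zpowers_iff.mpr ⟨(k.val : ℤ), ?_⟩
  rw [zpow_natCast]
  obtain ⟨i0, i1, i2, i3⟩ := h.pow k.val
  have hk : ((k.val : ℕ) : ZMod 5) = k := ZMod.natCast_zmod_val k
  rw [hk] at i0 i1 i2 i3
  apply ext4
  · rw [i0, h'.e00, h1]
  · rw [i1, h'.e01, h2]
  · rw [i2, h'.e10, h3]
  · rw [i3, h'.e11, h1]

/-- `h A h⁻¹ = A⁻¹`, `h² = -1` -/
theorem ok (h : Uni A p q r) {H : SL5} {s t u : ZMod 5} (h0 : H 0 0 = s) (h1 : H 0 1 = t)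
    (h2 : H 1 0 = u) (h3 : H 1 1 = -s) (hinv : H * A * H⁻¹ = A⁻¹) :
    2 * s * p + t * r + u * q = 0 := by
  have e : A * (H * A) = H := by
    have e1 : H * A = A⁻¹ * H := by rw [← hinv]; group
    rw [e1, mul_inv_cancel_left]
  have e0 := congrArg (fun B : SL5 => B 0 0) e
  have e3 := congrArg (fun B : SL5 => B 1 1) e
  simp only [mul00, mul01, mul10, mul11, h.e00, h.e01, h.e10, h.e11, h0, h1, h2, h3] at e0 e3
  have hn := h.nil
  have h5 : (5 : ZMod 5) = 0 := by decide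
  linear_combination (3 : ZMod 5) * e0 + (3 : ZMod 5) * e3 - (2 * s * p + t * r + u * q) * h5

end Uni

theorem exists_h {H : SL5} (hH : H * H ≠ 1) (h4 : H * H * (H * H) = 1) :
    ∃ s t u, H 0 0 = s ∧ H 0 1 = t ∧ H 1 0 = u ∧ H 1 1 = -s ∧ s * s + t * u = -1 := by
  have h1 := congrArg (fun B : SL5 => B 0 0) h4
  have h2 := congrArg (fun B : SL5 => B 0 1) h4
  have h3 := congrArg (fun B : SL5 => B 1 0) h4
  have h5 := congrArg (fun B : SL5 => B 1 1) h4
  simp only [mul00 (H * H), mul01 (H * H), mul10 (H * H), mul11 (H * H), one00, one01, one10,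
    one11] at h1 h2 h3 h5
  rcases d_one _ _ _ _ (det_eq (H * H)) h1 h2 h3 h5 with ⟨a, b, c, d⟩ | ⟨a, b, c, d⟩
  · exact absurd (ext4 (a.trans one00.symm) (b.trans one01.symm) (c.trans one10.symm)
      (d.trans one11.symm)) hH
  · rw [mul00] at a
    rw [mul01] at b
    rw [mul10] at c
    rw [mul11] at d
    have e := d_tr _ _ _ _ (det_eq H) a b
    exact ⟨H 0 0, H 0 1, H 1 0, rfl, rfl, rfl, e, a⟩

theorem two_aux {s t u : ZMod 5} (hh : s * s + t * u = -1) {A B : SL5} {p q r p' q' r' ε : ZMod 5}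
    (hε : ε = 2 ∨ ε = 3) (hA : Uni A p q r) (hB : Uni B p' q' r') (h1 : Ok ε s t u p q r)
    (h2 : Ok ε s t u p' q' r') (hA1 : A ≠ 1) : B ∈ Subgroup.zpowers A :=
  hA.mem_of_prp hB (d_prop ε hε s t u hh p q r h1 (hA.ne hA1) p' q' r' h2)

/-- At most two subgroups of order 5 are inverted by `H`. -/
theorem two_roots {H A B C : SL5} (hH : H * H ≠ 1) (h4 : H * H * (H * H) = 1) (hA : A ^ 5 = 1)
    (hA1 : A ≠ 1) (hAi : H * A * H⁻¹ = A⁻¹) (hB : B ^ 5 = 1) (hB1 : B ≠ 1)
    (hBi : H * B * H⁻¹ = B⁻¹) (hC : C ^ 5 = 1) (hCi : H * C * H⁻¹ = C⁻¹) :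
    B ∈ Subgroup.zpowers A ∨ C ∈ Subgroup.zpowers A ∨ C ∈ Subgroup.zpowers B := by
  obtain ⟨s, t, u, h0, h1, h2, h3, hh⟩ := exists_h hH h4
  have key : ∀ {D : SL5}, D ^ 5 = 1 → H * D * H⁻¹ = D⁻¹ → ∃ p q r, Uni D p q r ∧
      (Ok 2 s t u p q r ∨ Ok 3 s t u p q r) := by
    intro D hD hDi
    obtain ⟨p, q, r, hu⟩ := exists_uni hD
    have hok := hu.ok h0 h1 h2 h3 hDi
    refine ⟨p, q, r, hu, ?_⟩
    rcases d_sign s t u hh p q r hu.nil hok with h | h
    · exact Or.inl ⟨hu.nil, hok, h⟩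
    · exact Or.inr ⟨hu.nil, hok, h⟩
  obtain ⟨p, q, r, uA, oA⟩ := key hA hAi
  obtain ⟨p', q', r', uB, oB⟩ := key hB hBi
  obtain ⟨p'', q'', r'', uC, oC⟩ := key hC hCi
  rcases oA with oA | oA <;> rcases oB with oB | oB <;> rcases oC with oC | oC
  · exact Or.inl (two_aux hh (Or.inl rfl) uA uB oA oB hA1)
  · exact Or.inl (two_aux hh (Or.inl rfl) uA uB oA oB hA1)
  · exact Or.inr (Or.inl (two_aux hh (Or.inl rfl) uA uC oA oC hA1))
  · exact Or.inr (Or.inr (two_aux hh (Or.inr rfl) uB uC oB oC hB1))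
  · exact Or.inr (Or.inr (two_aux hh (Or.inl rfl) uB uC oB oC hB1))
  · exact Or.inr (Or.inl (two_aux hh (Or.inr rfl) uA uC oA oC hA1))
  · exact Or.inl (two_aux hh (Or.inr rfl) uA uB oA oB hA1)
  · exact Or.inl (two_aux hh (Or.inr rfl) uA uB oA oB hA1)

/-- The element of order 3. -/
theorem exists_sigma_sl {H N : SL5} (hH : H * H ≠ 1) (h4 : H * H * (H * H) = 1)
    (hN : N * N = H * H) (hNH : N * H * N⁻¹ = H⁻¹) :
    ∃ S : SL5, S ^ 3 = 1 ∧ S * H * S⁻¹ = N ∧ S * N * S⁻¹ = H * N := by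
  obtain ⟨s, t, u, h0, h1, h2, h3, hh⟩ := exists_h hH h4
  obtain ⟨p, q, r, n0, n1, n2, n3, hn⟩ := exists_h (H := N) (by rwa [hN]) (by rw [hN]; exact h4)
  have hanti : 2 * s * p + t * r + u * q = 0 := by
    have e : H * N * H = N := by
      have e1 : N * H = H⁻¹ * N := by rw [← hNH]; group
      rw [mul_assoc, e1, mul_inv_cancel_left]
    have e0 := congrArg (fun B : SL5 => B 0 0) e
    have e1 := congrArg (fun B : SL5 => B 0 1) e
    simp only [mul00, mul01, mul10, mul11, h0, h1, h2, h3, n0, n1, n2, n3] at e0 e1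
    linear_combination (2 * s * p + t * r + u * q) * hh - s * (e0 + p * hh) - u * (e1 + q * hh)
  obtain ⟨a, b, c, d, hdet, ⟨a1, a2, a3, a4⟩, ⟨b1, b2, b3, b4⟩, htr⟩ :=
    d_sigma s t u hh p q r hn hanti
  have hdet' : (!![a, b; c, d] : Matrix (Fin 2) (Fin 2) (ZMod 5)).det = 1 := by
    rw [Matrix.det_fin_two_of]; exact hdet
  obtain ⟨S, hS⟩ : ∃ S : SL5, S = ⟨!![a, b; c, d], hdet'⟩ := ⟨_, rfl⟩
  have s0 : S 0 0 = a := by rw [hS]; rfl
  have s1 : S 0 1 = b := by rw [hS]; rfl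
  have s2 : S 1 0 = c := by rw [hS]; rfl
  have s3 : S 1 1 = d := by rw [hS]; rfl
  have hd : d = -1 - a := by linear_combination htr
  subst hd
  refine ⟨S, ?_, ?_, ?_⟩
  · have f0 : (S * S) 0 0 = -1 - a := by
      rw [mul00, s0, s1, s2]; linear_combination -hdet
    have f1 : (S * S) 0 1 = -b := by
      rw [mul01, s0, s1, s3]; ring
    have f2 : (S * S) 1 0 = -c := by
      rw [mul10, s0, s2, s3]; ring
    have f3 : (S * S) 1 1 = a := by
      rw [mul11, s1, s2, s3]; linear_combination -hdet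
    rw [pow_succ, pow_two]
    apply ext4
    · rw [mul00, f0, f1, s0, s2, one00]; linear_combination hdet
    · rw [mul01, f0, f1, s1, s3, one01]; ring
    · rw [mul10, f2, f3, s0, s2, one10]; ring
    · rw [mul11, f2, f3, s1, s3, one11]; linear_combination hdet
  · rw [mul_inv_eq_iff_eq_mul]
    apply ext4
    · simp only [mul00, s0, s1, s2, s3, h0, h1, h2, h3, n0, n1, n2, n3]
      linear_combination a1
    · simp only [mul01, s0, s1, s2, s3, h0, h1, h2, h3, n0, n1, n2, n3]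
      linear_combination a2
    · simp only [mul10, s0, s1, s2, s3, h0, h1, h2, h3, n0, n1, n2, n3]
      linear_combination a3
    · simp only [mul11, s0, s1, s2, s3, h0, h1, h2, h3, n0, n1, n2, n3]
      linear_combination a4
  · rw [mul_inv_eq_iff_eq_mul]
    apply ext4
    · simp only [mul00, mul01, mul10, mul11, s0, s1, s2, s3, h0, h1, h2, h3, n0, n1, n2, n3]
      linear_combination b1
    · simp only [mul00, mul01, mul10, mul11, s0, s1, s2, s3, h0, h1, h2, h3, n0, n1, n2, n3]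
      linear_combination b2
    · simp only [mul00, mul01, mul10, mul11, s0, s1, s2, s3, h0, h1, h2, h3, n0, n1, n2, n3]
      linear_combination b3
    · simp only [mul00, mul01, mul10, mul11, s0, s1, s2, s3, h0, h1, h2, h3, n0, n1, n2, n3]
      linear_combination b4

end Cfsg.Agent.LFourFive.OneTwo
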