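import Mathlib

/-!
# Statement S0510, type B5, `|F| = 5`: the element of order `3` of `SL(2, 5)` permuting `h`, `n`, `h n`
-/

set_option autoImplicit false

namespace Cfsg.Agent.LFourFive.Sigma

open Matrix

local notation "SL5" => Matrix.SpecialLinearGroup (Fin 2) (ZMod 5)
local notation "M5" => Matrix (Fin 2) (Fin 2) (ZMod 5)

section Ring

variable {R : Type*} [Ring R] {h n : R}

theorem ring_s (hh : h * h = -1) (nn : n * n = -1) (nh : n * h = -(h * n)) :
    (1 + h + n + h * n) * (1 + h + n + h * n) = 2 * (1 + h + n + h * n) - 4 := by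
  have e1 : h * (h * n) = -n := by rw [← mul_assoc, hh]; simp
  have e2 : n * (h * n) = h := by rw [← mul_assoc, nh, neg_mul, mul_assoc, nn]; simp
  have e3 : h * n * h = n := by rw [mul_assoc, nh, mul_neg, e1]; simp
  have e4 : h * n * n = -h := by rw [mul_assoc, nn]; simp
  have e5 : h * n * (h * n) = -1 := by rw [mul_assoc, e2, hh]
  simp only [mul_add, add_mul, one_mul, mul_one, e1, e2, e3, e4, e5, hh, nn, nh]
  have e6 : (4 : R) = 1 + 1 + 1 + 1 := by norm_num
  have e7 : (2 : R) = 1 + 1 := by norm_num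
  rw [e6, e7]
  simp only [add_mul, one_mul]
  abel

theorem ring_h (hh : h * h = -1) (nn : n * n = -1) (nh : n * h = -(h * n)) :
    (1 + h + n + h * n) * h = n * (1 + h + n + h * n) := by
  have e1 : h * (h * n) = -n := by rw [← mul_assoc, hh]; simp
  have e2 : n * (h * n) = h := by rw [← mul_assoc, nh, neg_mul, mul_assoc, nn]; simp
  have e3 : h * n * h = n := by rw [mul_assoc, nh, mul_neg, e1]; simp
  simp only [mul_add, add_mul, one_mul, mul_one, e2, e3, hh, nn, nh]
  abel

theorem ring_n (hh : h * h = -1) (nn : n * n = -1) (nh : n * h = -(h * n)) :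
    (1 + h + n + h * n) * n = (h * n) * (1 + h + n + h * n) := by
  have e1 : h * (h * n) = -n := by rw [← mul_assoc, hh]; simp
  have e2 : n * (h * n) = h := by rw [← mul_assoc, nh, neg_mul, mul_assoc, nn]; simp
  have e3 : h * n * h = n := by rw [mul_assoc, nh, mul_neg, e1]; simp
  have e4 : h * n * n = -h := by rw [mul_assoc, nn]; simp
  have e5 : h * n * (h * n) = -1 := by rw [mul_assoc, e2, hh]
  simp only [mul_add, add_mul, one_mul, mul_one, e3, e4, e5, nn]
  abel

end Ring

local instance factFive : Fact (Nat.Prime 5) := ⟨by norm_num⟩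

/-- the matrix version -/
theorem exists_mat {h n : SL5} (hh : h * h = -1) (nn : n * n = -1) (nh : n * h = -(h * n)) :
    ∃ s : SL5, s * s * s = 1 ∧ s * h = n * s ∧ s * n = (h * n) * s := by
  have hh' : h.1 * h.1 = -1 := by
    have := congrArg Subtype.val hh
    simpa using this
  have nn' : n.1 * n.1 = -1 := by
    have := congrArg Subtype.val nn
    simpa using this
  have nh' : n.1 * h.1 = -(h.1 * n.1) := by
    have := congrArg Subtype.val nh
    simpa using this
  set E : M5 := 1 + h.1 + n.1 + h.1 * n.1 with hE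
  have h5 : (5 : M5) = 0 := by
    have : ((5 : ℕ) : M5) = 0 := by
      rw [← map_natCast (algebraMap (ZMod 5) M5)]
      have : ((5 : ℕ) : ZMod 5) = 0 := by decide
      rw [this, map_zero]
    exact_mod_cast this
  have r1 := ring_s hh' nn' nh'
  have r2 := ring_h hh' nn' nh'
  have r3 := ring_n hh' nn' nh'
  rw [← hE] at r1 r2 r3
  set s : M5 := 2 * E with hs
  have c2 : ∀ x : M5, x * 2 = 2 * x := fun x => (Nat.cast_commute 2 x).symm.eq
  have s2 : s * s = -s - 1 := by
    have e1 : s * s = 4 * (E * E) := by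
      rw [hs]
      calc 2 * E * (2 * E) = 2 * (E * 2) * E := by simp only [mul_assoc]
        _ = 2 * (2 * E) * E := by rw [c2]
        _ = (2 * 2) * (E * E) := by simp only [mul_assoc]
        _ = 4 * (E * E) := by norm_num
    rw [e1, r1, hs]
    have e2 : (4 : M5) * (2 * E - 4) = -(2 * E) - 1 + 5 * (2 * E - 3) := by
      rw [mul_sub, ← mul_assoc, mul_sub, ← mul_assoc]
      norm_num
      have e3 : (8 : M5) = -2 + 10 := by norm_num
      have e4 : (16 : M5) = 1 + 15 := by norm_num
      rw [e3, e4, add_mul, neg_mul]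
      abel
    rw [e2, h5]
    simp
  have s3 : s * s * s = 1 := by
    rw [s2, sub_mul, neg_mul, s2]
    simp
  have sh : s * h.1 = n.1 * s := by
    rw [hs, mul_assoc, r2, ← mul_assoc, ← c2, mul_assoc]
  have sn : s * n.1 = (h.1 * n.1) * s := by
    rw [hs, mul_assoc, r3, ← mul_assoc, ← c2, mul_assoc]
  have hd : s.det = 1 := by
    have h1 : s.det * s.det * s.det = 1 := by
      rw [← Matrix.det_mul, ← Matrix.det_mul, s3, Matrix.det_one]
    revert h1
    generalize s.det = d
    revert d
    decide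
  refine ⟨⟨s, hd⟩, ?_, ?_, ?_⟩
  · apply Subtype.ext
    exact s3
  · apply Subtype.ext
    exact sh
  · apply Subtype.ext
    exact sn

/-- the group version -/
theorem exists_group {G : Type*} [Group G] {L : Subgroup G} (e : L ≃* SL5) {z h n : G} (z1 : z ≠ 1) (zz : z * z = 1)
    (hh : h ∈ L) (hn : n ∈ L) (h2 : h * h = z) (n2 : n * n = z) (nh : n * h * n⁻¹ = h⁻¹) :
    ∃ s ∈ L, s * s * s = 1 ∧ s * h * s⁻¹ = n ∧ s * n * s⁻¹ = h * n := by
  have hz : z ∈ L := by rw [← h2]; exact mul_mem hh hh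
  have ez : e ⟨z, hz⟩ = -1 := by
    have h3 : e ⟨z, hz⟩ * e ⟨z, hz⟩ = 1 := by
      rw [← map_mul]
      have : (⟨z, hz⟩ : L) * ⟨z, hz⟩ = 1 := Subtype.ext zz
      rw [this, map_one]
    have h4 : e ⟨z, hz⟩ ≠ 1 := by
      intro h5
      have h6 : (⟨z, hz⟩ : L) = 1 := e.injective (by rw [h5, map_one])
      exact z1 (congrArg Subtype.val h6)
    have key : ∀ x : SL5, x * x = 1 → x = 1 ∨ x = -1 := by
      intro x hx
      have hx' := congrArg Subtype.val hx
      have h00 := congrFun (congrFun hx' 0) 0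
      have h01 := congrFun (congrFun hx' 0) 1
      have h10 := congrFun (congrFun hx' 1) 0
      have h11 := congrFun (congrFun hx' 1) 1
      have hd := x.2
      rw [Matrix.det_fin_two] at hd
      simp [Matrix.mul_apply, Fin.sum_univ_two] at h00 h01 h10 h11
      have k : ∀ a b c d : ZMod 5, a * a + b * c = 1 → a * b + b * d = 0 → c * a + d * c = 0 → c * b + d * d = 1 →
          a * d - b * c = 1 → (a = 1 ∧ b = 0 ∧ c = 0 ∧ d = 1) ∨ (a = -1 ∧ b = 0 ∧ c = 0 ∧ d = -1) := by decide
      rcases k _ _ _ _ h00 h01 h10 h11 hd with ⟨a1, a2, a3, a4⟩ | ⟨a1, a2, a3, a4⟩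
      · left
        ext i j
        fin_cases i <;> fin_cases j <;> simp [a1, a2, a3, a4]
      · right
        ext i j
        fin_cases i <;> fin_cases j <;> simp [a1, a2, a3, a4]
    exact (key _ h3).resolve_left h4
  have a1 : e ⟨h, hh⟩ * e ⟨h, hh⟩ = -1 := by
    rw [← map_mul, ← ez]
    congr 1
    exact Subtype.ext h2
  have a2 : e ⟨n, hn⟩ * e ⟨n, hn⟩ = -1 := by
    rw [← map_mul, ← ez]
    congr 1
    exact Subtype.ext n2
  have a3 : e ⟨n, hn⟩ * e ⟨h, hh⟩ = -(e ⟨h, hh⟩ * e ⟨n, hn⟩) := by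
    have h3 : n * h = z * (h * n) := by
      have h4 : h⁻¹ = z * h := by
        rw [← h2, inv_eq_iff_mul_eq_one]
        calc h * (h * h * h) = (h * h) * (h * h) := by group
          _ = 1 := by rw [h2, zz]
      calc n * h = (n * h * n⁻¹) * n := by group
        _ = (z * h) * n := by rw [nh, h4]
        _ = _ := mul_assoc _ _ _
    have h5 : (⟨n, hn⟩ : L) * ⟨h, hh⟩ = ⟨z, hz⟩ * (⟨h, hh⟩ * ⟨n, hn⟩) := Subtype.ext h3
    rw [← map_mul, h5, map_mul, map_mul, ez]
    simp
  obtain ⟨s, s3, sh, sn⟩ := exists_mat a1 a2 a3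
  have b : ∀ x : L, e x = s → x = e.symm s := by
    intro x hx; rw [← hx, e.symm_apply_apply]
  refine ⟨(e.symm s : L), (e.symm s).2, ?_, ?_, ?_⟩
  · have : e.symm s * e.symm s * e.symm s = 1 := by rw [← map_mul, ← map_mul, s3, map_one]
    exact congrArg Subtype.val this
  · have : e.symm s * ⟨h, hh⟩ = ⟨n, hn⟩ * e.symm s := by
      apply e.injective
      rw [map_mul, map_mul, e.apply_symm_apply, sh]
    have h4 := congrArg Subtype.val this
    change (e.symm s : G) * h = n * (e.symm s : G) at h4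
    rw [h4]; group
  · have : e.symm s * ⟨n, hn⟩ = ⟨h, hh⟩ * ⟨n, hn⟩ * e.symm s := by
      apply e.injective
      rw [map_mul, map_mul, map_mul, e.apply_symm_apply, sn]
    have h4 := congrArg Subtype.val this
    change (e.symm s : G) * n = h * n * (e.symm s : G) at h4
    rw [h4]; group

end Cfsg.Agent.LFourFive.Sigma
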