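import Mathlib

/-!
# Statement S0510, type B5, `|F| = 5`: the system of the twelve root groups of `SL₄`

`zz z e i j` = the central involution of `K i j` (`z = z₀₁ = z₂₃`, `e = z₀₂ = z₁₃`, `e z = z₀₃ = z₁₂`).
`Sys p X z e` = the output of steps (1)-(5) of the pencil: the input of step (6).
`Base p X z e` = the same facts at one base tuple together with the action of the symmetric group on the labels.
Indices are `0`-based: `X 0 2` is the root group `X₁₃`.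
-/

set_option autoImplicit false

namespace Cfsg.Agent.LFourFive

open Matrix

universe u

variable {G : Type u} [Group G]

/-- conjugate subgroup `g H g⁻¹` -/
def cj (g : G) (H : Subgroup G) : Subgroup G := H.map (MulAut.conj g).toMonoidHom

/-- the three involutions of `V`, as central involutions of the `K i j` -/
def zz (z e : G) : Fin 4 → Fin 4 → G :=
  ![![1, z, e, e * z], ![z, 1, e * z, e], ![e, e * z, 1, z], ![e * z, e, z, 1]]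

/-- `K i j = ⟨X i j, X j i⟩` -/
def K (X : Fin 4 → Fin 4 → Subgroup G) (i j : Fin 4) : Subgroup G := X i j ⊔ X j i

/-- **Input of step (6)**: root groups `X i j` of order `p` with the Chevalley relations of `SL₄`, the four-group
`V = {1, z, e, e z}`, and the shape of the centralisers of the root groups. -/
structure Sys (p : ℕ) (X : Fin 4 → Fin 4 → Subgroup G) (z e : G) : Prop where
  sqz : z * z = 1
  sqe : e * e = 1
  ze : z * e = e * z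
  card : ∀ i j, i ≠ j → Nat.card (X i j) = p
  iso : ∀ i j, i ≠ j → Nonempty (K X i j ≃* SpecialLinearGroup (Fin 2) (ZMod p))
  z_mem : ∀ i j, i ≠ j → zz z e i j ∈ K X i j
  z_ne : ∀ i j, i ≠ j → zz z e i j ≠ 1
  z_fix : ∀ i j, i ≠ j → ∀ x ∈ X i j, zz z e i j * x = x * zz z e i j
  z_row : ∀ i j k, i ≠ j → j ≠ k → i ≠ k → ∀ x ∈ X i k, zz z e i j * x * (zz z e i j)⁻¹ = x⁻¹
  z_col : ∀ i j k, i ≠ j → j ≠ k → i ≠ k → ∀ x ∈ X k i, zz z e i j * x * (zz z e i j)⁻¹ = x⁻¹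
  row : ∀ i j k, i ≠ j → j ≠ k → i ≠ k → ∀ x ∈ X i j, ∀ y ∈ X i k, x * y = y * x
  col : ∀ i j k, i ≠ j → j ≠ k → i ≠ k → ∀ x ∈ X i j, ∀ y ∈ X k j, x * y = y * x
  opp : ∀ i j k l, i ≠ j → i ≠ k → i ≠ l → j ≠ k → j ≠ l → k ≠ l → ∀ x ∈ X i j, ∀ y ∈ X k l, x * y = y * x
  com : ∀ i j k, i ≠ j → j ≠ k → i ≠ k → ∀ x ∈ X i j, ∀ y ∈ X j k, x * y * x⁻¹ * y⁻¹ ∈ X i k
  core : ∀ i j k l, i ≠ j → i ≠ k → i ≠ l → j ≠ k → j ≠ l → k ≠ l → ∃ Q : Subgroup G,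
    Odd (Nat.card Q) ∧
    (∀ g : G, (∀ x ∈ X i j, g * x = x * g) → ∃ q ∈ Q, ∃ k' ∈ K X k l, g = q * k') ∧
    (∀ q ∈ Q, q * zz z e i j = zz z e i j * q → q ∈ X i j) ∧
    (∀ a ∈ Q, ∀ b ∈ Q, a * b * a⁻¹ * b⁻¹ ∈ X i j) ∧
    X i k ≤ Q ∧ X i l ≤ Q ∧ X k j ≤ Q ∧ X l j ≤ Q

/-- The facts of `Sys` at the base labels `(i, j, k, l) = (0, 2, 1, 3)`, and the action of `S₄` on the labels. -/
structure Base (p : ℕ) (X : Fin 4 → Fin 4 → Subgroup G) (z e : G) : Prop where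
  sqz : z * z = 1
  sqe : e * e = 1
  ze : z * e = e * z
  act : ∀ σ : Equiv.Perm (Fin 4), ∃ s : G,
    (∀ i j, i ≠ j → cj s (X i j) = X (σ i) (σ j)) ∧ ∀ i j, i ≠ j → s * zz z e i j * s⁻¹ = zz z e (σ i) (σ j)
  card : Nat.card (X 0 2) = p
  iso : Nonempty (K X 0 2 ≃* SpecialLinearGroup (Fin 2) (ZMod p))
  z_mem : e ∈ K X 0 2
  z_ne : e ≠ 1
  z_fix : ∀ x ∈ X 0 2, e * x = x * e
  z_row : ∀ x ∈ X 0 2, z * x * z⁻¹ = x⁻¹
  row : ∀ x ∈ X 0 2, ∀ y ∈ X 0 3, x * y = y * x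
  col : ∀ x ∈ X 0 2, ∀ y ∈ X 1 2, x * y = y * x
  opp : ∀ x ∈ X 0 2, ∀ y ∈ X 1 3, x * y = y * x
  com : ∀ x ∈ X 0 1, ∀ y ∈ X 1 2, x * y * x⁻¹ * y⁻¹ ∈ X 0 2
  core : ∃ Q : Subgroup G,
    Odd (Nat.card Q) ∧
    (∀ g : G, (∀ x ∈ X 0 2, g * x = x * g) → ∃ q ∈ Q, ∃ k' ∈ K X 1 3, g = q * k') ∧
    (∀ q ∈ Q, q * e = e * q → q ∈ X 0 2) ∧
    (∀ a ∈ Q, ∀ b ∈ Q, a * b * a⁻¹ * b⁻¹ ∈ X 0 2) ∧
    X 0 1 ≤ Q ∧ X 0 3 ≤ Q ∧ X 1 2 ≤ Q ∧ X 3 2 ≤ Q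

end Cfsg.Agent.LFourFive
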