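import Cfsg.Agent.LFourFive.SixMod
import Cfsg.Agent.LFourFive.Sys
import Cfsg.Agent.SylowSp4.SLGen
import Cfsg.Agent.ClassicalGeometry.PSL2Klein
import Cfsg.Agent.Lib.KleinGen

/-!
# Step (6) of the pencil: `SL₃(p)` from the system of root groups

`exists_hom : Sys p X z e → ∃ φ : SL₃(p) →* G, injective, φ (std i j) = K X i j` for `i, j < 3`.
-/

set_option autoImplicit false
set_option linter.unusedSectionVars false
set_option linter.unusedVariables false

namespace Cfsg.Agent.LFourFive.SixAbs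

open Matrix Cfsg.Agent.LFourFive.SixMod
open Cfsg.Agent.CTFrame.SL3 (S3 en dg dg_coe tr_coe mem_X tr_mem Blk X_le_Blk cases3)

universe u

/-! ### `SL(2, p)` -/

section SL

variable {p : ℕ} [Fact p.Prime] {H : Type u} [Group H]

theorem commutator_eq_top (hp : 3 < p) (e : H ≃* SpecialLinearGroup (Fin 2) (ZMod p)) : commutator H = ⊤ := by
  have h1 : commutator (SpecialLinearGroup (Fin 2) (ZMod p)) = ⊤ :=
    Cfsg.Agent.TwoFusion.SLTwoFacts.commutator_eq_top (by rw [ZMod.card]; exact hp)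
  rw [commutator_def] at h1 ⊢
  have h2 : (⊤ : Subgroup H) = (⊤ : Subgroup (SpecialLinearGroup (Fin 2) (ZMod p))).map e.symm.toMonoidHom := by
    rw [← MonoidHom.range_eq_map, MonoidHom.range_eq_top.2 e.symm.surjective]
  rw [h2, ← Subgroup.map_commutator, h1]

/-- a normal subgroup not containing the central involution is trivial -/
theorem normal_eq_bot (hp : 3 < p) (e : H ≃* SpecialLinearGroup (Fin 2) (ZMod p)) {t : H} (ht : t ≠ 1)
    (htc : ∀ x, t * x = x * t) {N : Subgroup H} (hN : N.Normal) (htN : t ∉ N) : N = ⊥ := by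
  have hn : (N.map e.toMonoidHom).Normal := hN.map _ e.surjective
  have key : ∀ x : H, e x ∈ Subgroup.center (SpecialLinearGroup (Fin 2) (ZMod p)) → e x = 1 ∨ e x = -1 :=
    fun x hx => Cfsg.Agent.ClassicalGeometry.PSL2Klein.mem_center.1 hx
  have et : e t = -1 := by
    rcases key t (by
      rw [Subgroup.mem_center_iff]
      intro g
      obtain ⟨x, rfl⟩ := e.surjective g
      rw [← map_mul, ← map_mul, htc]) with h | h
    · exact absurd ((map_eq_one_iff e e.injective).1 h) ht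
    · exact h
  rcases Cfsg.Agent.SylowSp4.SLGen.normal_cases (by rw [ZMod.card]; exact hp) _ hn with h | h
  · rw [Subgroup.eq_bot_iff_forall]
    intro x hx
    rcases key x (h ⟨x, hx, rfl⟩) with h1 | h1
    · exact (map_eq_one_iff e e.injective).1 h1
    · exact absurd (e.injective (h1.trans et.symm) ▸ hx) htN
  · exfalso
    obtain ⟨n, hn', hny⟩ : e t ∈ N.map e.toMonoidHom := by rw [h]; trivial
    have : n = t := e.injective hny
    exact htN (this ▸ hn')

/-- an abelian normal subgroup has exponent two -/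
theorem sq_eq_one_of_abelian_normal (hp : 3 < p) (e : H ≃* SpecialLinearGroup (Fin 2) (ZMod p)) {N : Subgroup H}
    (hN : N.Normal) (hc : ∀ x ∈ N, ∀ y ∈ N, x * y = y * x) {x : H} (hx : x ∈ N) : x * x = 1 := by
  have hn : (N.map e.toMonoidHom).Normal := hN.map _ e.surjective
  have key : ∀ x : H, e x ∈ Subgroup.center (SpecialLinearGroup (Fin 2) (ZMod p)) → x * x = 1 := by
    intro x hx
    have : e x * e x = 1 := by
      rcases Cfsg.Agent.ClassicalGeometry.PSL2Klein.mem_center.1 hx with h | h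
      · rw [h, mul_one]
      · rw [h]
        apply Subtype.ext
        ext i j
        fin_cases i <;> fin_cases j <;> simp
    rw [← map_mul] at this
    exact (map_eq_one_iff e e.injective).1 this
  rcases Cfsg.Agent.SylowSp4.SLGen.normal_cases (by rw [ZMod.card]; exact hp) _ hn with h | h
  · exact key x (h ⟨x, hx, rfl⟩)
  · refine key x ?_
    rw [Subgroup.mem_center_iff]
    intro g
    have hg : g ∈ N.map e.toMonoidHom := by rw [h]; trivial
    obtain ⟨n, hn', rfl⟩ := hg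
    show e n * e x = e x * e n
    rw [← map_mul, ← map_mul, hc n hn' x hx]

end SL

/-! ### Powers -/

variable {p : ℕ} [Fact p.Prime] {G : Type u} [Group G]

theorem pw_eq_one {g : G} (hg : g ^ p = 1) (hg1 : g ≠ 1) {a : ZMod p} (h : pw g a = 1) : a = 0 := by
  have h1 : orderOf g = p := orderOf_eq_prime hg hg1
  have h2 : p ∣ a.val := (dvd_of_eq h1.symm).trans (orderOf_dvd_of_pow_eq_one h)
  have h3 : a.val < p := ZMod.val_lt a
  have h4 : a.val = 0 := Nat.eq_zero_of_dvd_of_lt h2 h3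
  exact (ZMod.val_eq_zero a).1 h4

theorem pw_neg {g : G} (hg : g ^ p = 1) (a : ZMod p) : pw g (-a) = (pw g a)⁻¹ := by
  rw [eq_inv_iff_mul_eq_one, ← pw_add hg, neg_add_cancel, pw_zero]

theorem al_neg {b : Fin 3 → G} (h : Bas p b) (v : Fin 3 → ZMod p) : al b (-v) = (al b v)⁻¹ := by
  rw [eq_inv_iff_mul_eq_one, ← al_add h, neg_add_cancel, al_zero]

theorem al_sub {b : Fin 3 → G} (h : Bas p b) (v w : Fin 3 → ZMod p) : al b (v - w) = al b v * (al b w)⁻¹ := by
  rw [sub_eq_add_neg, al_add h, al_neg h]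

/-- generator of a group of prime order -/
theorem exists_gen {H : Subgroup G} (hH : Nat.card H = p) :
    ∃ b ∈ H, b ≠ 1 ∧ b ^ p = 1 ∧ ∀ x ∈ H, ∃ a : ZMod p, x = pw b a := by
  have hp : p.Prime := Fact.out
  have : Finite H := Nat.finite_of_card_ne_zero (by rw [hH]; exact hp.ne_zero)
  have : Nontrivial H := Finite.one_lt_card_iff_nontrivial.1 (by rw [hH]; exact hp.one_lt)
  obtain ⟨b, hb⟩ := exists_ne (1 : H)
  have hbp : (b : G) ^ p = 1 := by
    have h1 : b ^ Nat.card H = 1 := pow_card_eq_one'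
    rw [hH] at h1
    have := congrArg Subtype.val h1
    simpa using this
  refine ⟨b, b.2, fun h => hb (Subtype.ext h), hbp, ?_⟩
  intro x hx
  have h1 : (⟨x, hx⟩ : H) ∈ Submonoid.powers b := mem_powers_of_prime_card (p := p) hH hb
  obtain ⟨n, hn⟩ := h1
  refine ⟨(n : ZMod p), ?_⟩
  have h2 : (b : G) ^ n = x := by
    have := congrArg Subtype.val hn
    simpa using this
  rw [pw, ZMod.val_natCast, ← pow_eq_pow_mod _ hbp, h2]

/-! ### The system -/

variable {X : Fin 4 → Fin 4 → Subgroup G} {z e : G}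

theorem zz_symm (i j : Fin 4) : zz z e i j = zz z e j i := by
  fin_cases i <;> fin_cases j <;> rfl

/-- embedding of the first three labels -/
abbrev c (i : Fin 3) : Fin 4 := i.castSucc

theorem c_ne {i j : Fin 3} (h : i ≠ j) : c i ≠ c j := fun h' => h (Fin.castSucc_injective _ h')

theorem c_ne3 (i : Fin 3) : c i ≠ 3 := by
  fin_cases i <;> decide

theorem zz_compl {i j k : Fin 3} (hij : i ≠ j) (hjk : j ≠ k) (hik : i ≠ k) :
    zz z e (c i) (c j) = zz z e (c k) 3 := by
  fin_cases i <;> fin_cases j <;> first | exact absurd rfl hij | skip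
  all_goals fin_cases k <;> first | exact absurd rfl hjk | exact absurd rfl hik | rfl

theorem third {i j : Fin 3} (hij : i ≠ j) : ∃ k, j ≠ k ∧ i ≠ k := by
  revert i j; decide

theorem K_symm (i j : Fin 4) : K X i j = K X j i := sup_comm _ _

/-- generators of the three root groups `X i 3` -/
structure Gn (p : ℕ) (X : Fin 4 → Fin 4 → Subgroup G) (b : Fin 3 → G) : Prop where
  mem : ∀ i, b i ∈ X (c i) 3
  ne : ∀ i, b i ≠ 1
  ord : ∀ i, b i ^ p = 1
  gen : ∀ i, ∀ x ∈ X (c i) 3, ∃ a : ZMod p, x = pw (b i) a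

theorem exists_gn (h : Sys p X z e) : ∃ b, Gn p X b := by
  have h1 : ∀ i : Fin 3, ∃ b ∈ X (c i) 3, b ≠ 1 ∧ b ^ p = 1 ∧ ∀ x ∈ X (c i) 3, ∃ a : ZMod p, x = pw b a :=
    fun i => exists_gen (h.card _ _ (c_ne3 i))
  choose b hb h2 h3 h4 using h1
  exact ⟨b, ⟨hb, h2, h3, h4⟩⟩

variable {b : Fin 3 → G}

theorem bas (h : Sys p X z e) (hb : Gn p X b) : Bas p b where
  comm i j := by
    by_cases hij : i = j
    · rw [hij]
    · exact h.col (c i) 3 (c j) (c_ne3 i) (c_ne3 j).symm (c_ne hij) _ (hb.mem i) _ (hb.mem j)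
  ord := hb.ord

/-- the involution `t_k = zz k 3` acts as `dg k` -/
theorem rep_zz (h : Sys p X z e) (hb : Gn p X b) (k : Fin 3) :
    Rep b (zz z e (c k) 3) (dg k : S3 (ZMod p)).1 := by
  have hB := bas h hb
  intro m
  by_cases hm : m = k
  · subst hm
    have e1 : zz z e (c m) 3 * b m * (zz z e (c m) 3)⁻¹ = b m := by
      rw [mul_inv_eq_iff_eq_mul]
      exact h.z_fix _ _ (c_ne3 m) _ (hb.mem m)
    rw [e1]
    nth_rw 1 [← al_single (p := p) b m]
    congr 1
    ext i
    have := dg_coe (F := ZMod p) m i m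
    rw [en] at this
    rw [this, Pi.single_apply]
    by_cases him : i = m <;> simp [him]
  · have e1 : zz z e (c k) 3 * b m * (zz z e (c k) 3)⁻¹ = (b m)⁻¹ := by
      rw [zz_symm]
      exact h.z_col 3 (c k) (c m) (c_ne3 k).symm (c_ne (Ne.symm hm)) (c_ne3 m).symm _ (hb.mem m)
    rw [e1]
    nth_rw 1 [← al_single (p := p) b m]
    rw [← al_neg hB]
    congr 1
    ext i
    have := dg_coe (F := ZMod p) k i m
    rw [en] at this
    rw [this, Pi.neg_apply, Pi.single_apply]
    by_cases him : i = m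
    · subst him; simp [hm]
    · simp [him]

theorem dg_vec (k : Fin 3) (v : Fin 3 → ZMod p) :
    v + (dg k : S3 (ZMod p)).1 *ᵥ v = (2 * v k) • Pi.single k (1 : ZMod p) := by
  ext i
  have hd : ∀ m, (dg k : S3 (ZMod p)).1 i m = if i = m then (if i = k then 1 else -1) else 0 := fun m => dg_coe k i m
  rw [Pi.add_apply, Matrix.mulVec, dotProduct]
  simp only [hd, ite_mul, zero_mul, Finset.sum_ite_eq, Finset.mem_univ, if_true, Pi.smul_apply, Pi.single_apply,
    smul_eq_mul]
  by_cases hik : i = k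
  · subst hik; simp; ring
  · simp [hik]

theorem mul_conj_zz (h : Sys p X z e) (hb : Gn p X b) (k : Fin 3) (v : Fin 3 → ZMod p) :
    al b v * (zz z e (c k) 3 * al b v * (zz z e (c k) 3)⁻¹) = pw (b k) (2 * v k) := by
  have hB := bas h hb
  rw [rep_apply hB (rep_zz h hb k), ← al_add hB, dg_vec, al_smul hB, al_single]

theorem two_ne (hp : 3 < p) : (2 : ZMod p) ≠ 0 := by
  intro h
  have h1 : ((2 : ℕ) : ZMod p) = 0 := by exact_mod_cast h
  rw [ZMod.natCast_eq_zero_iff] at h1
  have := Nat.le_of_dvd (by norm_num) h1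
  omega

theorem al_inj (hp : 3 < p) (h : Sys p X z e) (hb : Gn p X b) :
    Function.Injective (al b : (Fin 3 → ZMod p) → G) := by
  have hB := bas h hb
  have key : ∀ v : Fin 3 → ZMod p, al b v = 1 → v = 0 := by
    intro v hv
    ext k
    have h1 := mul_conj_zz h hb k v
    rw [hv, mul_one, mul_inv_cancel, mul_one] at h1
    have h2 := pw_eq_one (hb.ord k) (hb.ne k) h1.symm
    rcases mul_eq_zero.1 h2 with h3 | h3
    · exact absurd h3 (two_ne hp)
    · exact h3
  intro v w hvw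
  have := key (v - w) (by rw [al_sub hB, hvw, mul_inv_cancel])
  exact sub_eq_zero.1 this

/-- the three-dimensional part of the system -/
def Y (X : Fin 4 → Fin 4 → Subgroup G) (i j : Fin 3) : Subgroup G := X (c i) (c j)

theorem rep_X (h : Sys p X z e) (hb : Gn p X b) (i j : Fin 3) (hij : i ≠ j) (x : G) (hx : x ∈ Y X i j) :
    ∃ a : ZMod p, Rep b x (SpecialLinearGroup.transvection hij a : S3 (ZMod p)).1 := by
  have hB := bas h hb
  have h1 := h.com (c i) (c j) 3 (c_ne hij) (c_ne3 j) (c_ne3 i) x hx (b j) (hb.mem j)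
  obtain ⟨a, ha⟩ := hb.gen i _ h1
  refine ⟨a, rep_transvection hB hij ?_ ?_⟩
  · intro k hk
    by_cases hki : k = i
    · subst hki
      exact h.row (c k) (c j) 3 (c_ne hij) (c_ne3 j) (c_ne3 k) x hx _ (hb.mem k)
    · exact h.opp (c i) (c j) (c k) 3 (c_ne hij) (c_ne (Ne.symm hki)) (c_ne3 i) (c_ne (Ne.symm hk)) (c_ne3 j)
        (c_ne3 k) x hx _ (hb.mem k)
  · rw [mul_inv_eq_iff_eq_mul] at ha
    rw [ha]
    have : pw (b i) a * pw (b j) (1 : ZMod p) = pw (b j) (1 : ZMod p) * pw (b i) a := pw_comm (hB.comm i j) _ _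
    rw [pw_one] at this
    exact this

theorem tr_inv {i j : Fin 3} (hij : i ≠ j) (a : ZMod p) :
    ((SpecialLinearGroup.transvection hij a)⁻¹ : S3 (ZMod p)) = SpecialLinearGroup.transvection hij (-a) :=
  (Cfsg.Agent.CTFrame.SL3.tr_neg hij a).symm

/-- the elements acting as a transvection of type `i j` -/
def T (hB : Bas p b) {i j : Fin 3} (hij : i ≠ j) : Subgroup G where
  carrier := {g | ∃ a : ZMod p, Rep b g (SpecialLinearGroup.transvection hij a : S3 (ZMod p)).1}
  one_mem' := ⟨0, by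
    rw [Cfsg.Agent.CTFrame.SL3.tr_zero hij]
    exact rep_one b⟩
  mul_mem' := by
    rintro x y ⟨a, ha⟩ ⟨a', ha'⟩
    refine ⟨a + a', ?_⟩
    rw [Cfsg.Agent.CTFrame.SL3.tr_add hij]
    exact rep_mul hB ha ha'
  inv_mem' := by
    rintro x ⟨a, ha⟩
    refine ⟨-a, ?_⟩
    rw [← tr_inv hij]
    exact rep_inv hB ha

/-- the centraliser of `⟨b⟩` -/
def C (b : Fin 3 → G) : Subgroup G := Subgroup.centralizer (Set.range b)

theorem mem_C {g : G} : g ∈ C b ↔ ∀ k, g * b k = b k * g := by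
  rw [C, Subgroup.mem_centralizer_iff]
  constructor
  · intro h k
    exact (h (b k) ⟨k, rfl⟩).symm
  · rintro h _ ⟨k, rfl⟩
    exact (h k).symm

theorem mem_C_of_rep_one {g : G} (hg : Rep b g (1 : Matrix (Fin 3) (Fin 3) (ZMod p))) : g ∈ C b := by
  rw [mem_C]
  intro k
  have := (hg k).trans (rep_one (p := p) b k).symm
  rw [one_mul, inv_one, mul_one] at this
  exact mul_inv_eq_iff_eq_mul.1 this

theorem rep_one_of_mem_C {g : G} (hg : g ∈ C b) : Rep b g (1 : Matrix (Fin 3) (Fin 3) (ZMod p)) := by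
  intro k
  rw [mem_C.1 hg k, mul_inv_cancel_right]
  have := rep_one (p := p) b k
  rw [one_mul, inv_one, mul_one] at this
  exact this

theorem commutator_T_le (hB : Bas p b) {i j : Fin 3} (hij : i ≠ j) : ⁅T hB hij, T hB hij⁆ ≤ C b := by
  rw [Subgroup.commutator_le]
  rintro x ⟨a, ha⟩ y ⟨a', ha'⟩
  apply mem_C_of_rep_one (p := p)
  have h1 := rep_mul hB (rep_mul hB (rep_mul hB ha ha') (rep_inv hB ha)) (rep_inv hB ha')
  have h2 : (SpecialLinearGroup.transvection hij a : S3 (ZMod p)).1 * (SpecialLinearGroup.transvection hij a' : S3 (ZMod p)).1 *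
      ((SpecialLinearGroup.transvection hij a)⁻¹ : S3 (ZMod p)).1 *
      ((SpecialLinearGroup.transvection hij a')⁻¹ : S3 (ZMod p)).1 = 1 := by
    have h3 : (SpecialLinearGroup.transvection hij a : S3 (ZMod p)) * SpecialLinearGroup.transvection hij a' *
        (SpecialLinearGroup.transvection hij a)⁻¹ * (SpecialLinearGroup.transvection hij a')⁻¹ = 1 := by
      rw [tr_inv, tr_inv, ← Cfsg.Agent.CTFrame.SL3.tr_add, ← Cfsg.Agent.CTFrame.SL3.tr_add,
        ← Cfsg.Agent.CTFrame.SL3.tr_add]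
      have : a + a' + -a + -a' = 0 := by ring
      rw [this, Cfsg.Agent.CTFrame.SL3.tr_zero]
    exact congrArg Subtype.val h3
  rw [h2] at h1
  exact h1

theorem K_perfect (hp : 3 < p) (h : Sys p X z e) {i j : Fin 4} (hij : i ≠ j) : ⁅K X i j, K X i j⁆ = K X i j := by
  obtain ⟨f⟩ := h.iso i j hij
  have h1 := commutator_eq_top hp f
  rw [commutator_def] at h1
  have h2 := congrArg (Subgroup.map (K X i j).subtype) h1
  rw [Subgroup.map_commutator, ← MonoidHom.range_eq_map, Subgroup.range_subtype] at h2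
  exact h2

/-- `zz i j` does not centralise `⟨b⟩` -/
theorem zz_notMem_C (hp : 3 < p) (h : Sys p X z e) (hb : Gn p X b) {i j : Fin 3} (hij : i ≠ j) :
    zz z e (c i) (c j) ∉ C b := by
  intro hc
  have h1 := mem_C.1 hc i
  have h2 := h.z_row (c i) (c j) 3 (c_ne hij) (c_ne3 j) (c_ne3 i) _ (hb.mem i)
  rw [h1, mul_inv_cancel_right] at h2
  have h3 : pw (b i) (2 : ZMod p) = 1 := by
    have : (2 : ZMod p) = 1 + 1 := by norm_num
    rw [this, pw_add (hb.ord i), pw_one]
    nth_rw 1 [h2]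
    exact inv_mul_cancel _
  exact two_ne hp (pw_eq_one (hb.ord i) (hb.ne i) h3)

theorem rep_X' (hp : 3 < p) (h : Sys p X z e) (hb : Gn p X b) (i j : Fin 3) (hij : i ≠ j) (a : ZMod p) :
    ∃ x ∈ Y X i j, Rep b x (SpecialLinearGroup.transvection hij a : S3 (ZMod p)).1 := by
  have hB := bas h hb
  have hi := al_inj hp h hb
  -- some element acts non-trivially
  have hex : ∃ x ∈ Y X i j, ∃ a : ZMod p, a ≠ 0 ∧ Rep b x (SpecialLinearGroup.transvection hij a : S3 (ZMod p)).1 := by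
    by_contra hno
    push Not at hno
    have h1 : Y X i j ≤ C b := by
      intro x hx
      obtain ⟨a, ha⟩ := rep_X h hb i j hij x hx
      have : a = 0 := by
        by_contra ha0
        exact hno x hx a ha0 ha
      subst this
      rw [Cfsg.Agent.CTFrame.SL3.tr_zero hij] at ha
      exact mem_C_of_rep_one ha
    have h2 : K X (c i) (c j) ≤ T hB hij.symm := by
      refine sup_le ?_ ?_
      · intro x hx
        refine ⟨0, ?_⟩
        rw [Cfsg.Agent.CTFrame.SL3.tr_zero]
        exact rep_one_of_mem_C (h1 hx)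
      · intro x hx
        exact rep_X h hb j i hij.symm x hx
    have h3 : K X (c i) (c j) ≤ C b := by
      rw [← K_perfect hp h (c_ne hij)]
      exact (Subgroup.commutator_mono h2 h2).trans (commutator_T_le hB _)
    exact zz_notMem_C hp h hb hij (h3 (h.z_mem _ _ (c_ne hij)))
  obtain ⟨x, hx, a0, ha0, hr⟩ := hex
  have hpow : ∀ n : ℕ, Rep b (x ^ n) (SpecialLinearGroup.transvection hij ((n : ZMod p) * a0) : S3 (ZMod p)).1 := by
    intro n
    induction n with
    | zero =>
      rw [pow_zero, Nat.cast_zero, zero_mul, Cfsg.Agent.CTFrame.SL3.tr_zero]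
      exact rep_one b
    | succ n ih =>
      rw [pow_succ, Nat.cast_succ, add_mul, one_mul, Cfsg.Agent.CTFrame.SL3.tr_add]
      exact rep_mul hB ih hr
  refine ⟨x ^ (a / a0).val, (Y X i j).pow_mem hx _, ?_⟩
  have := hpow (a / a0).val
  rw [ZMod.natCast_zmod_val, div_mul_cancel₀ _ ha0] at this
  exact this

/-- the elements acting as an element of the block group `Blk m` -/
def TB (hB : Bas p b) (m : Fin 3) : Subgroup G where
  carrier := {g | ∃ M ∈ (Blk m : Subgroup (S3 (ZMod p))), Rep b g M.1}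
  one_mem' := ⟨1, (Blk m).one_mem, rep_one b⟩
  mul_mem' := by
    rintro x y ⟨M, hM, h1⟩ ⟨N, hN, h2⟩
    exact ⟨M * N, (Blk m).mul_mem hM hN, rep_mul hB h1 h2⟩
  inv_mem' := by
    rintro x ⟨M, hM, h1⟩
    exact ⟨M⁻¹, (Blk m).inv_mem hM, rep_inv hB h1⟩

theorem K_le_TB (h : Sys p X z e) (hb : Gn p X b) {i j k : Fin 3} (hij : i ≠ j) (hjk : j ≠ k) (hik : i ≠ k) :
    K X (c i) (c j) ≤ TB (bas h hb) k := by
  refine sup_le ?_ ?_
  · intro x hx
    obtain ⟨a, ha⟩ := rep_X h hb i j hij x hx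
    exact ⟨_, X_le_Blk hij hjk hik (tr_mem hij a), ha⟩
  · intro x hx
    obtain ⟨a, ha⟩ := rep_X h hb j i hij.symm x hx
    exact ⟨_, X_le_Blk hij.symm hik hjk (tr_mem hij.symm a), ha⟩

/-- `K i j` acts faithfully on `⟨b⟩` -/
theorem K_faithful (hp : 3 < p) (h : Sys p X z e) (hb : Gn p X b) {i j : Fin 3} (hij : i ≠ j) {g : G}
    (hg : g ∈ K X (c i) (c j)) (hgC : g ∈ C b) : g = 1 := by
  have hB := bas h hb
  obtain ⟨f⟩ := h.iso (c i) (c j) (c_ne hij)
  obtain ⟨k, hjk, hik⟩ := third hij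
  have ht := h.z_mem _ _ (c_ne hij)
  have hN : ((C b).subgroupOf (K X (c i) (c j))).Normal := by
    refine ⟨fun n hn g => ?_⟩
    rw [Subgroup.mem_subgroupOf] at hn ⊢
    obtain ⟨M, _, hM⟩ := K_le_TB h hb hij hjk hik g.2
    apply mem_C_of_rep_one (p := p)
    have h1 := rep_mul hB (rep_mul hB hM (rep_one_of_mem_C (p := p) hn)) (rep_inv hB hM)
    have h2 : M.1 * 1 * (M⁻¹ : S3 (ZMod p)).1 = 1 := by
      rw [mul_one]
      have : M * M⁻¹ = 1 := mul_inv_cancel M
      exact congrArg Subtype.val this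
    rw [h2] at h1
    exact h1
  have h1 := normal_eq_bot hp f (t := ⟨zz z e (c i) (c j), ht⟩) (fun h' => h.z_ne _ _ (c_ne hij) (congrArg Subtype.val h'))
    (by
      rintro ⟨x, hx⟩
      apply Subtype.ext
      show zz z e (c i) (c j) * x = x * zz z e (c i) (c j)
      have h2 : K X (c i) (c j) ≤ Subgroup.centralizer {zz z e (c i) (c j)} := by
        refine sup_le ?_ ?_
        · intro y hy
          rw [Subgroup.mem_centralizer_singleton_iff]
          exact (h.z_fix _ _ (c_ne hij) y hy).symm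
        · intro y hy
          rw [Subgroup.mem_centralizer_singleton_iff, zz_symm]
          exact (h.z_fix _ _ (c_ne hij).symm y hy).symm
      exact (Subgroup.mem_centralizer_singleton_iff.1 (h2 hx)).symm) hN
    (by
      rw [Subgroup.mem_subgroupOf]
      exact zz_notMem_C hp h hb hij)
  have h3 : (⟨g, hg⟩ : K X (c i) (c j)) ∈ (C b).subgroupOf (K X (c i) (c j)) := by
    rw [Subgroup.mem_subgroupOf]; exact hgC
  rw [h1, Subgroup.mem_bot] at h3
  exact congrArg Subtype.val h3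

/-- conjugation by an element acting by a matrix preserves `C` -/
theorem conj_mem_C (hB : Bas p b) {t : G} {M : S3 (ZMod p)} (hM : Rep b t M.1) {g : G} (hg : g ∈ C b) :
    t * g * t⁻¹ ∈ C b := by
  apply mem_C_of_rep_one (p := p)
  have h1 := rep_mul hB (rep_mul hB hM (rep_one_of_mem_C (p := p) hg)) (rep_inv hB hM)
  have h2 : M.1 * 1 * (M⁻¹ : S3 (ZMod p)).1 = 1 := by
    rw [mul_one]
    have : M * M⁻¹ = 1 := mul_inv_cancel M
    exact congrArg Subtype.val this
  rw [h2] at h1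
  exact h1

theorem exists_other (i : Fin 3) : ∃ j k : Fin 3, i ≠ j ∧ j ≠ k ∧ i ≠ k := by
  revert i; decide

/-- the centraliser of `⟨b⟩` is contained in the odd groups `Q i` -/
theorem exists_Q (hp : 3 < p) (h : Sys p X z e) (hb : Gn p X b) (i : Fin 3) : ∃ Q : Subgroup G, Odd (Nat.card Q) ∧
    C b ≤ Q ∧ ∀ q ∈ Q, q * zz z e (c i) 3 = zz z e (c i) 3 * q → q ∈ X (c i) 3 := by
  have hB := bas h hb
  have hi := al_inj hp h hb
  obtain ⟨j, k, hij, hjk, hik⟩ := exists_other i
  obtain ⟨Q, hodd, hdec, hcent, hcomm, -, -, hj3, hk3⟩ := h.core (c i) 3 (c j) (c k) (c_ne3 i) (c_ne hij) (c_ne hik)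
    (c_ne3 j).symm (c_ne3 k).symm (c_ne hjk)
  refine ⟨Q, hodd, ?_, hcent⟩
  intro g hg
  obtain ⟨q, hq, k', hk', rfl⟩ := hdec g (by
    intro x hx
    obtain ⟨a, rfl⟩ := hb.gen i x hx
    have := pw_comm (p := p) (mem_C.1 hg i) 1 a
    rw [pw_one] at this
    exact this)
  obtain ⟨M, hM, hr⟩ := K_le_TB h hb hjk (Ne.symm hik) (Ne.symm hij) hk'
  have hmQ : ∀ m, m ≠ i → b m ∈ Q := by
    intro m hm
    rcases cases3 hij hjk hik m with rfl | rfl | rfl
    · exact absurd rfl hm
    · exact hj3 (hb.mem _)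
    · exact hk3 (hb.mem _)
  have hk1 : k' ∈ C b := by
    rw [mem_C]
    intro m
    rw [← mul_inv_eq_iff_eq_mul]
    by_cases hm : m = i
    · subst hm
      refine (hr m).trans (Eq.trans (congrArg (al b) ?_) (al_single (p := p) b m))
      ext l
      rw [Pi.single_apply]
      exact (hM l).1
    · have h1 : q⁻¹ * b m * q * (b m)⁻¹ ∈ X (c i) 3 := by
        have := hcomm q⁻¹ (Q.inv_mem hq) (b m) (hmQ m hm)
        rw [inv_inv] at this
        exact this
      obtain ⟨a, ha⟩ := hb.gen i _ h1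
      have h2 : k' * b m * k'⁻¹ = pw (b i) a * b m := by
        have h3 := mem_C.1 hg m
        have h4 : k' * b m * k'⁻¹ = q⁻¹ * b m * q := by
          have h5 : q * k' * b m * k'⁻¹ * q⁻¹ = b m := by
            rw [h3]; group
          calc k' * b m * k'⁻¹ = q⁻¹ * (q * k' * b m * k'⁻¹ * q⁻¹) * q := by group
            _ = q⁻¹ * b m * q := by rw [h5]
        rw [h4]
        exact mul_inv_eq_iff_eq_mul.1 ha
      have h3 : al b (fun l => M.1 l m) = al b (a • Pi.single i 1 + Pi.single m 1) := by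
        rw [← hr m, h2, al_add hB, al_smul hB, al_single, al_single]
      have h4 := congrFun (hi h3) i
      have h5 : M.1 i m = 0 := by
        have := (hM m).2
        rw [if_neg hm] at this
        exact this
      have h6 : a = 0 := by
        simp only [h5, Pi.add_apply, Pi.smul_apply, Pi.single_apply, smul_eq_mul, if_true, mul_one,
          if_neg (Ne.symm hm), add_zero] at h4
        exact h4.symm
      rw [h2, h6, pw_zero, one_mul]
  have := K_faithful hp h hb hjk hk' hk1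
  rw [this, mul_one]
  exact hq

/-- the group `⟨b⟩` -/
def A (hB : Bas p b) : Subgroup G where
  carrier := {g | ∃ v : Fin 3 → ZMod p, g = al b v}
  one_mem' := ⟨0, (al_zero b).symm⟩
  mul_mem' := by
    rintro x y ⟨v, rfl⟩ ⟨w, rfl⟩
    exact ⟨v + w, (al_add hB v w).symm⟩
  inv_mem' := by
    rintro x ⟨v, rfl⟩
    exact ⟨-v, (al_neg hB v).symm⟩

/-- `C_G(⟨b⟩) = ⟨b⟩` -/
theorem C_le [Finite G] (hp : 3 < p) (h : Sys p X z e) (hb : Gn p X b) : C b ≤ A (bas h hb) := by
  have hB := bas h hb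
  have hodd : Odd (Nat.card (C b)) := by
    obtain ⟨Q, h1, h2, -⟩ := exists_Q hp h hb 0
    exact Odd.of_dvd_nat h1 (Subgroup.card_dvd_of_le h2)
  have key : ∀ i : Fin 3, C b ⊓ Subgroup.centralizer {zz z e (c i) 3} ≤ A hB := by
    intro i g hg
    obtain ⟨Q, -, h2, h3⟩ := exists_Q hp h hb i
    have h4 := h3 g (h2 hg.1) (Subgroup.mem_centralizer_singleton_iff.1 hg.2)
    obtain ⟨a, rfl⟩ := hb.gen i g h4
    refine ⟨a • Pi.single i 1, ?_⟩
    rw [al_smul hB, al_single]
  have hconj : ∀ i : Fin 3, ∀ g ∈ C b, zz z e (c i) 3 * g * (zz z e (c i) 3)⁻¹ ∈ C b := fun i g hg =>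
    conj_mem_C hB (rep_zz h hb i) hg
  have hsq : zz z e (c 0) 3 * zz z e (c 0) 3 = 1 := by
    show e * z * (e * z) = 1
    rw [mul_assoc, ← mul_assoc z e z, h.ze, mul_assoc e z z, h.sqz, mul_one, h.sqe]
  have hm : zz z e (c 0) 3 * zz z e (c 1) 3 = zz z e (c 2) 3 := by
    show e * z * e = z
    rw [mul_assoc, h.ze, ← mul_assoc, h.sqe, one_mul]
  refine Cfsg.Agent.Lib.KleinGen.le_of_klein (C b) (A hB) hodd (zz z e (c 0) 3) (zz z e (c 1) 3) hsq h.sqe ?_
    (hconj 0) (hconj 1) (key 0) (key 1) ?_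
  · show e * z * e = e * (e * z)
    rw [mul_assoc, h.ze]
  · rw [hm]; exact key 2

/-- **The action of `J` is faithful.** -/
theorem hker [Finite G] (hp : 3 < p) (h : Sys p X z e) (hb : Gn p X b) :
    ∀ g ∈ J (Y X), (∀ k, g * b k = b k * g) → g = 1 := by
  intro g hgJ hgC
  have hB := bas h hb
  obtain ⟨v, rfl⟩ := C_le hp h hb (mem_C.2 hgC)
  suffices hv : v = 0 by rw [hv, al_zero]
  ext k
  rw [Pi.zero_apply]
  by_contra hk
  obtain ⟨i, j, hki, hij, hkj⟩ := exists_other k
  -- `b k ∈ J`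
  have hY : ∀ i j : Fin 3, i ≠ j → X (c i) (c j) ≤ J (Y X) := fun i j hij => le_J (X := Y X) hij
  have htJ : zz z e (c k) 3 ∈ J (Y X) := by
    rw [← zz_compl hij (Ne.symm hkj) (Ne.symm hki)]
    exact (sup_le (hY i j hij) (hY j i hij.symm) : K X (c i) (c j) ≤ J (Y X)) (h.z_mem _ _ (c_ne hij))
  have hu : pw (b k) (2 * v k) ∈ J (Y X) := by
    rw [← mul_conj_zz h hb k v]
    exact (J (Y X)).mul_mem hgJ ((J (Y X)).mul_mem ((J (Y X)).mul_mem htJ hgJ) ((J (Y X)).inv_mem htJ))
  have h2v : 2 * v k ≠ 0 := mul_ne_zero (two_ne hp) hk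
  have hbJ : b k ∈ J (Y X) := by
    have h1 : pw (pw (b k) (2 * v k)) (2 * v k)⁻¹ ∈ J (Y X) := (J (Y X)).pow_mem hu _
    rw [pw_pw (hb.ord k), inv_mul_cancel₀ h2v, pw_one] at h1
    exact h1
  -- the dual module
  set S : Set G := ⋃ i : Fin 3, (X 3 (c i) : Set G) with hS
  set A' : Subgroup G := Subgroup.closure S with hA'
  have hle : ∀ i : Fin 3, X 3 (c i) ≤ A' := fun i x hx => Subgroup.subset_closure (Set.mem_iUnion.2 ⟨i, hx⟩)
  have hcomm : ∀ x ∈ A', ∀ y ∈ A', x * y = y * x := by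
    have h1 : A' ≤ Subgroup.centralizer (A' : Set G) := by
      rw [hA', Subgroup.centralizer_closure, Subgroup.closure_le]
      intro x hx
      obtain ⟨i, hi⟩ := Set.mem_iUnion.1 hx
      show x ∈ Subgroup.centralizer S
      rw [Subgroup.mem_centralizer_iff]
      intro y hy
      obtain ⟨j, hj⟩ := Set.mem_iUnion.1 hy
      by_cases hij : i = j
      · subst hij
        obtain ⟨w, -, -, -, hw⟩ := exists_gen (p := p) (h.card 3 (c i) (c_ne3 i).symm)
        obtain ⟨s, rfl⟩ := hw x hi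
        obtain ⟨s', rfl⟩ := hw y hj
        exact pw_comm rfl _ _
      · exact (h.row 3 (c i) (c j) (c_ne3 i).symm (c_ne hij) (c_ne3 j).symm x hi y hj).symm
    intro x hx y hy
    exact (Subgroup.mem_centralizer_iff.1 (h1 hx) y hy).symm
  have hnorm : J (Y X) ≤ Subgroup.normalizer (A' : Set G) := by
    refine J_le fun i j hij x hx => ?_
    refine Subgroup.mem_normalizer_fintype (S := (A' : Set G)) ?_
    intro y hy
    have h1 : A' ≤ A'.comap (MulAut.conj x).toMonoidHom := by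
      rw [hA', Subgroup.closure_le]
      intro y hy
      obtain ⟨m, hm⟩ := Set.mem_iUnion.1 hy
      show x * y * x⁻¹ ∈ A'
      by_cases hmi : m = i
      · subst hmi
        have h2 := h.com 3 (c m) (c j) (c_ne3 m).symm (c_ne hij) (c_ne3 j).symm y hm x hx
        have h3 : x * y * x⁻¹ = (y * x * y⁻¹ * x⁻¹)⁻¹ * y := by group
        rw [h3]
        exact A'.mul_mem (A'.inv_mem (hle j h2)) (hle m hm)
      · have h2 : x * y = y * x := by
          by_cases hmj : m = j
          · subst hmj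
            exact h.col (c i) (c m) 3 (c_ne hij) (c_ne3 m) (c_ne3 i) x hx y hm
          · exact h.opp (c i) (c j) 3 (c m) (c_ne hij) (c_ne3 i) (c_ne (Ne.symm hmi)) (c_ne3 j)
              (c_ne (Ne.symm hmj)) (c_ne3 m).symm x hx y hm
        rw [h2, mul_inv_cancel_right]
        exact hle m hm
    exact h1 hy
  have hKN : K X (c k) 3 ≤ Subgroup.normalizer (A' : Set G) := by
    refine sup_le ?_ ?_
    · intro x hx
      obtain ⟨a, rfl⟩ := hb.gen k x hx
      exact (Subgroup.normalizer (A' : Set G)).pow_mem (hnorm hbJ) _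
    · exact (hle k).trans Subgroup.le_normalizer
  obtain ⟨w, hw, hw1, hwp, -⟩ := exists_gen (p := p) (h.card 3 (c k) (c_ne3 k).symm)
  have hN : (A'.subgroupOf (K X (c k) 3)).Normal := by
    refine ⟨fun n hn g => ?_⟩
    rw [Subgroup.mem_subgroupOf] at hn ⊢
    exact (Subgroup.mem_normalizer_iff.1 (hKN g.2) n).1 hn
  obtain ⟨f⟩ := h.iso (c k) 3 (c_ne3 k)
  have hwK : w ∈ K X (c k) 3 := (le_sup_right : X 3 (c k) ≤ K X (c k) 3) hw
  have hfin := sq_eq_one_of_abelian_normal hp f hN (by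
    intro x hx y hy
    apply Subtype.ext
    exact hcomm _ (Subgroup.mem_subgroupOf.1 hx) _ (Subgroup.mem_subgroupOf.1 hy)) (x := ⟨w, hwK⟩)
    (Subgroup.mem_subgroupOf.2 (hle k hw))
  have h3 : pw w (2 : ZMod p) = 1 := by
    have : (2 : ZMod p) = 1 + 1 := by norm_num
    rw [this, pw_add hwp, pw_one]
    exact congrArg Subtype.val hfin
  exact two_ne hp (pw_eq_one hwp hw1 h3)

/-- **Step (6).** -/
theorem exists_hom [Finite G] (hp : 3 < p) (h : Sys p X z e) :
    ∃ φ : S3 (ZMod p) →* G, Function.Injective φ ∧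
      ∀ i j : Fin 3, i ≠ j → (Cfsg.Agent.CTFrame.SL3.std i j : Subgroup (S3 (ZMod p))).map φ = K X (c i) (c j) := by
  obtain ⟨b, hb⟩ := exists_gn h
  obtain ⟨φ, h1, h2, h3, h4⟩ := SixMod.exists_hom (bas h hb) (al_inj hp h hb) (X := Y X) (rep_X h hb) (rep_X' hp h hb)
    (hker hp h hb)
  refine ⟨φ, h1, fun i j hij => ?_⟩
  rw [Cfsg.Agent.CTFrame.SL3.std, Subgroup.map_sup, h2 i j hij, h2 j i hij.symm]
  rfl

end Cfsg.Agent.LFourFive.SixAbs
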