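import Cfsg.Agent.CTFrame.SL3
import Cfsg.Agent.LieClassical.SLGen

/-!
# From a faithful action on `(ZMod p)³` by transvections to `SL₃(p)`

`b : Fin 3 → G` commuting elements of order `p`, `al b : (ZMod p)³ → G`, `Rep b g M` : `g` acts on `⟨b⟩` by the matrix `M`.
`exists_hom` : if the root groups `X i j` act as the transvection groups and `⟨X⟩` acts faithfully, there is an injective
`φ : SL₃(p) →* G` mapping the transvection group `X i j` onto `X i j`.
-/

set_option autoImplicit false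
set_option linter.unusedSectionVars false

namespace Cfsg.Agent.LFourFive.SixMod

open Matrix
open Cfsg.Agent.CTFrame.SL3 (S3 mem_X tr_mem)

universe u

variable {p : ℕ} [Fact p.Prime] {G : Type u} [Group G]

/-- powers with exponent in `ZMod p` -/
def pw (g : G) (a : ZMod p) : G := g ^ a.val

theorem pw_zero (g : G) : pw g (0 : ZMod p) = 1 := by
  rw [pw, ZMod.val_zero, pow_zero]

theorem pw_one (g : G) : pw g (1 : ZMod p) = g := by
  rw [pw, ZMod.val_one, pow_one]

theorem pw_add {g : G} (hg : g ^ p = 1) (a b : ZMod p) : pw g (a + b) = pw g a * pw g b := by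
  rw [pw, pw, pw, ZMod.val_add, ← pow_add, ← pow_eq_pow_mod _ hg]

theorem pw_pw {g : G} (hg : g ^ p = 1) (a b : ZMod p) : pw (pw g a) b = pw g (b * a) := by
  rw [pw, pw, pw, ZMod.val_mul, ← pow_mul, mul_comm b.val, ← pow_eq_pow_mod _ hg]

theorem pw_comm {g h : G} (hgh : g * h = h * g) (a b : ZMod p) : pw g a * pw h b = pw h b * pw g a :=
  (Commute.pow_pow (show Commute g h from hgh) _ _).eq

theorem mul_pw {g h : G} (hgh : g * h = h * g) (a : ZMod p) : pw (g * h) a = pw g a * pw h a :=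
  (show Commute g h from hgh).mul_pow _

theorem conj_pw (n g : G) (a : ZMod p) : n * pw g a * n⁻¹ = pw (n * g * n⁻¹) a := by
  rw [pw, pw, conj_pow]

/-- commuting elements of order dividing `p` -/
structure Bas (p : ℕ) (b : Fin 3 → G) : Prop where
  comm : ∀ i j, b i * b j = b j * b i
  ord : ∀ i, b i ^ p = 1

/-- the parametrisation of `⟨b⟩` -/
def al (b : Fin 3 → G) (v : Fin 3 → ZMod p) : G := pw (b 0) (v 0) * pw (b 1) (v 1) * pw (b 2) (v 2)

variable {b : Fin 3 → G}

theorem al_zero (b : Fin 3 → G) : al b (0 : Fin 3 → ZMod p) = 1 := by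
  simp only [al, Pi.zero_apply, pw_zero, mul_one]

theorem al_add (h : Bas p b) (v w : Fin 3 → ZMod p) : al b (v + w) = al b v * al b w := by
  have h10 := pw_comm (p := p) (h.comm 1 0)
  have h20 := pw_comm (p := p) (h.comm 2 0)
  have h21 := pw_comm (p := p) (h.comm 2 1)
  simp only [al, Pi.add_apply, pw_add (h.ord _)]
  calc pw (b 0) (v 0) * pw (b 0) (w 0) * (pw (b 1) (v 1) * pw (b 1) (w 1)) * (pw (b 2) (v 2) * pw (b 2) (w 2))
      = pw (b 0) (v 0) * (pw (b 0) (w 0) * pw (b 1) (v 1)) * pw (b 1) (w 1) * pw (b 2) (v 2) * pw (b 2) (w 2) := by group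
    _ = pw (b 0) (v 0) * (pw (b 1) (v 1) * pw (b 0) (w 0)) * pw (b 1) (w 1) * pw (b 2) (v 2) * pw (b 2) (w 2) := by
        rw [h10]
    _ = pw (b 0) (v 0) * pw (b 1) (v 1) * pw (b 0) (w 0) * (pw (b 1) (w 1) * pw (b 2) (v 2)) * pw (b 2) (w 2) := by group
    _ = pw (b 0) (v 0) * pw (b 1) (v 1) * pw (b 0) (w 0) * (pw (b 2) (v 2) * pw (b 1) (w 1)) * pw (b 2) (w 2) := by
        rw [h21]
    _ = pw (b 0) (v 0) * pw (b 1) (v 1) * (pw (b 0) (w 0) * pw (b 2) (v 2)) * pw (b 1) (w 1) * pw (b 2) (w 2) := by group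
    _ = pw (b 0) (v 0) * pw (b 1) (v 1) * (pw (b 2) (v 2) * pw (b 0) (w 0)) * pw (b 1) (w 1) * pw (b 2) (w 2) := by
        rw [h20]
    _ = _ := by group

theorem al_comm (h : Bas p b) (v w : Fin 3 → ZMod p) : al b v * al b w = al b w * al b v := by
  rw [← al_add h, ← al_add h, add_comm]

theorem al_smul (h : Bas p b) (c : ZMod p) (v : Fin 3 → ZMod p) : al b (c • v) = pw (al b v) c := by
  have h10 := pw_comm (p := p) (h.comm 0 1)
  have e1 : (pw (b 0) (v 0) * pw (b 1) (v 1)) * pw (b 2) (v 2) = pw (b 2) (v 2) * (pw (b 0) (v 0) * pw (b 1) (v 1)) := by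
    rw [mul_assoc, pw_comm (h.comm 1 2), ← mul_assoc, pw_comm (h.comm 0 2), mul_assoc]
  rw [al, al, mul_pw e1, mul_pw (h10 _ _), pw_pw (h.ord 0), pw_pw (h.ord 1), pw_pw (h.ord 2)]
  rfl

theorem al_single (b : Fin 3 → G) (k : Fin 3) : al b (Pi.single k (1 : ZMod p)) = b k := by
  fin_cases k <;> simp [al, pw_zero, pw_one]

/-- `g` acts on `⟨b⟩` by the matrix `M` (columns = images of the basis) -/
def Rep (b : Fin 3 → G) (g : G) (M : Matrix (Fin 3) (Fin 3) (ZMod p)) : Prop :=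
  ∀ k, g * b k * g⁻¹ = al b (fun i => M i k)

theorem rep_apply (h : Bas p b) {g : G} {M : Matrix (Fin 3) (Fin 3) (ZMod p)} (hM : Rep b g M)
    (v : Fin 3 → ZMod p) : g * al b v * g⁻¹ = al b (M *ᵥ v) := by
  have e : M *ᵥ v = v 0 • (fun i => M i 0) + v 1 • (fun i => M i 1) + v 2 • (fun i => M i 2) := by
    ext i
    simp only [Matrix.mulVec, dotProduct, Fin.sum_univ_three, Pi.add_apply, Pi.smul_apply, smul_eq_mul]
    ring
  rw [e, al_add h, al_add h, al_smul h, al_smul h, al_smul h, ← hM 0, ← hM 1, ← hM 2, ← conj_pw, ← conj_pw,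
    ← conj_pw, al]
  group

theorem rep_mul (h : Bas p b) {g g' : G} {M M' : Matrix (Fin 3) (Fin 3) (ZMod p)} (hM : Rep b g M)
    (hM' : Rep b g' M') : Rep b (g * g') (M * M') := by
  intro k
  have e : g * g' * b k * (g * g')⁻¹ = g * (g' * b k * g'⁻¹) * g⁻¹ := by group
  rw [e, hM' k, rep_apply h hM]
  rfl

theorem rep_one (b : Fin 3 → G) : Rep b 1 (1 : Matrix (Fin 3) (Fin 3) (ZMod p)) := by
  intro k
  rw [one_mul, inv_one, mul_one]
  nth_rw 1 [← al_single (p := p) b k]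
  congr 1
  ext i
  rw [Matrix.one_apply, Pi.single_apply]

theorem rep_inv (h : Bas p b) {g : G} {M : S3 (ZMod p)} (hM : Rep b g M.1) : Rep b g⁻¹ (M⁻¹ : S3 (ZMod p)).1 := by
  intro k
  have e1 : M.1 * (M⁻¹ : S3 (ZMod p)).1 = 1 := by
    have : M * M⁻¹ = 1 := mul_inv_cancel M
    exact congrArg Subtype.val this
  have e2 := rep_apply h hM (fun i => (M⁻¹ : S3 (ZMod p)).1 i k)
  have e3 : M.1 *ᵥ (fun i => (M⁻¹ : S3 (ZMod p)).1 i k) = Pi.single k 1 := by
    ext i
    have : (M.1 * (M⁻¹ : S3 (ZMod p)).1) i k = (1 : Matrix (Fin 3) (Fin 3) (ZMod p)) i k := by rw [e1]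
    rw [Matrix.one_apply] at this
    rw [Pi.single_apply]
    exact this
  rw [e3, al_single] at e2
  rw [← e2]
  group

theorem rep_inj (hi : Function.Injective (al b : (Fin 3 → ZMod p) → G)) {g : G}
    {M M' : Matrix (Fin 3) (Fin 3) (ZMod p)} (hM : Rep b g M) (hM' : Rep b g M') : M = M' := by
  ext i k
  have := hi ((hM k).symm.trans (hM' k))
  exact congrFun this i

theorem rep_transvection (h : Bas p b) {i j : Fin 3} (hij : i ≠ j) {g : G} {c : ZMod p}
    (h1 : ∀ k, k ≠ j → g * b k = b k * g) (h2 : g * b j * g⁻¹ = b j * pw (b i) c) :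
    Rep b g (SpecialLinearGroup.transvection hij c : S3 (ZMod p)).1 := by
  intro k
  by_cases hk : k = j
  · subst hk
    rw [h2]
    nth_rw 1 [← al_single (p := p) b k]
    rw [← al_single (p := p) b i, ← al_smul h, ← al_add h]
    congr 1
    ext l
    rw [SpecialLinearGroup.transvection_coe, Matrix.add_apply, Matrix.one_apply, Matrix.single_apply, Pi.add_apply,
      Pi.single_apply, Pi.smul_apply, Pi.single_apply, smul_eq_mul]
    simp [eq_comm]
  · rw [h1 k hk, mul_inv_cancel_right]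
    nth_rw 1 [← al_single (p := p) b k]
    congr 1
    ext l
    rw [SpecialLinearGroup.transvection_coe, Matrix.add_apply, Matrix.one_apply, Matrix.single_apply,
      Pi.single_apply]
    simp [Ne.symm hk]

/-- the group generated by the root groups -/
def J (X : Fin 3 → Fin 3 → Subgroup G) : Subgroup G := ⨆ (i : Fin 3) (j : Fin 3) (_ : i ≠ j), X i j

theorem le_J {X : Fin 3 → Fin 3 → Subgroup G} {i j : Fin 3} (hij : i ≠ j) : X i j ≤ J X :=
  le_iSup_of_le i (le_iSup_of_le j (le_iSup_of_le hij le_rfl))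

theorem J_le {X : Fin 3 → Fin 3 → Subgroup G} {H : Subgroup G} (h : ∀ i j, i ≠ j → X i j ≤ H) : J X ≤ H :=
  iSup_le fun i => iSup_le fun j => iSup_le fun hij => h i j hij

/-- the elements acting by a matrix of determinant one -/
def W (h : Bas p b) : Subgroup G where
  carrier := {g | ∃ M : S3 (ZMod p), Rep b g M.1}
  one_mem' := ⟨1, rep_one b⟩
  mul_mem' := by
    rintro x y ⟨M, hM⟩ ⟨N, hN⟩
    exact ⟨M * N, rep_mul h hM hN⟩
  inv_mem' := by
    rintro x ⟨M, hM⟩
    exact ⟨M⁻¹, rep_inv h hM⟩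

/-- **Theorem.** A faithful action by the transvection groups gives `SL₃(p)`. -/
theorem exists_hom (h : Bas p b) (hi : Function.Injective (al b : (Fin 3 → ZMod p) → G))
    {X : Fin 3 → Fin 3 → Subgroup G}
    (hX : ∀ i j (hij : i ≠ j), ∀ x ∈ X i j, ∃ c : ZMod p,
      Rep b x (SpecialLinearGroup.transvection hij c : S3 (ZMod p)).1)
    (hX' : ∀ i j (hij : i ≠ j) (c : ZMod p), ∃ x ∈ X i j,
      Rep b x (SpecialLinearGroup.transvection hij c : S3 (ZMod p)).1)
    (hker : ∀ g ∈ J X, (∀ k, g * b k = b k * g) → g = 1) :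
    ∃ φ : S3 (ZMod p) →* G, Function.Injective φ ∧
      (∀ i j, i ≠ j → (Cfsg.Agent.CTFrame.SL3.X i j : Subgroup (S3 (ZMod p))).map φ = X i j) ∧
      (∀ M, Rep b (φ M) M.1) ∧ φ.range = J X := by
  have huniq : ∀ g ∈ J X, ∀ g' ∈ J X, ∀ M : S3 (ZMod p), Rep b g M.1 → Rep b g' M.1 → g = g' := by
    intro g hg g' hg' M h1 h2
    have h3 := rep_mul h h1 (rep_inv h h2)
    have h4 : M.1 * (M⁻¹ : S3 (ZMod p)).1 = 1 := by
      have : M * M⁻¹ = 1 := mul_inv_cancel M
      exact congrArg Subtype.val this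
    rw [h4] at h3
    have h5 := hker (g * g'⁻¹) ((J X).mul_mem hg ((J X).inv_mem hg')) (by
      intro k
      have := (h3 k).trans (rep_one (p := p) b k).symm
      rw [one_mul, inv_one, mul_one] at this
      exact mul_inv_eq_iff_eq_mul.1 this)
    exact mul_inv_eq_one.1 h5
  have hJW : J X ≤ W h := J_le fun i j hij x hx => by
    obtain ⟨c, hc⟩ := hX i j hij x hx
    exact ⟨_, hc⟩
  have hex : ∀ M : S3 (ZMod p), ∃ g ∈ J X, Rep b g M.1 := by
    intro M
    refine Cfsg.Agent.LieClassical.SLGen.transvection_induction (fun M : S3 (ZMod p) => ∃ g ∈ J X, Rep b g M.1)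
      ?_ ?_ M
    · intro i j hij c
      obtain ⟨x, hx, hxc⟩ := hX' i j hij c
      exact ⟨x, le_J hij hx, hxc⟩
    · rintro A B ⟨g, hg, hgA⟩ ⟨g', hg', hgB⟩
      exact ⟨g * g', (J X).mul_mem hg hg', rep_mul h hgA hgB⟩
  choose f hfJ hf using hex
  let φ : S3 (ZMod p) →* G :=
    { toFun := f
      map_one' := huniq _ (hfJ 1) 1 (J X).one_mem 1 (hf 1) (rep_one b)
      map_mul' := fun M N => huniq _ (hfJ (M * N)) _ ((J X).mul_mem (hfJ M) (hfJ N)) (M * N) (hf (M * N))
        (rep_mul h (hf M) (hf N)) }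
  have hφ : ∀ M, φ M = f M := fun _ => rfl
  have hrep : ∀ M, Rep b (φ M) M.1 := hf
  have hX1 : ∀ i j, i ≠ j → (Cfsg.Agent.CTFrame.SL3.X i j : Subgroup (S3 (ZMod p))).map φ = X i j := by
    intro i j hij
    ext x
    constructor
    · rintro ⟨M, hM, rfl⟩
      obtain ⟨t, rfl⟩ := (mem_X hij).1 hM
      obtain ⟨x, hx, hxc⟩ := hX' i j hij t
      have := huniq _ (hfJ _) x (le_J hij hx) _ (hf _) hxc
      show f _ ∈ _
      rw [this]; exact hx
    · intro hx
      obtain ⟨c, hc⟩ := hX i j hij x hx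
      exact ⟨SpecialLinearGroup.transvection hij c, tr_mem hij c, huniq _ (hfJ _) x (le_J hij hx) _ (hf _) hc⟩
  refine ⟨φ, ?_, hX1, hrep, ?_⟩
  · intro M N hMN
    have h1 := hrep M
    have h2 := hrep N
    rw [hMN] at h1
    exact Subtype.ext (rep_inj hi h1 h2)
  · refine le_antisymm ?_ (J_le fun i j hij => ?_)
    · rintro _ ⟨M, rfl⟩
      exact hfJ M
    · rw [← hX1 i j hij]
      exact Subgroup.map_le_range φ _

end Cfsg.Agent.LFourFive.SixMod
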