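import Mathlib

/-!
# Statement S0510, type B5, `|F| = 5`, steps (1), (2): four root groups commute

`A = K₁₃`, `B = K₂₄` (commuting, with the involution `e` in both), `c = n₁n₂` interchanges them, `P`, `M` are the two
root groups of `A`, `h = h₁`, `n = n₁`, `σ` of order `3` acts on `h`, `n` and on `e`, `c`. The group
`⟨P, P^c, P^n, P^{cn}⟩` is abelian.
-/

set_option autoImplicit false

namespace Cfsg.Agent.LFourFive.UAb

variable {G : Type*} [Group G]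

/-- the hypotheses -/
structure In (z e c h n σ : G) (A B P M : Subgroup G) : Prop where
  zz : z * z = 1
  ee : e * e = 1
  e_ne : e ≠ 1
  cc : c * c = 1
  ze : z * e = e * z
  zc : z * c = c * z
  ec : e * c = c * e
  comm : ∀ a ∈ A, ∀ b ∈ B, a * b = b * a
  eA : e ∈ A
  eB : e ∈ B
  inf : ∀ x ∈ A, x ∈ B → x = 1 ∨ x = e
  cA : ∀ a ∈ A, c * a * c⁻¹ ∈ B
  cB : ∀ b ∈ B, c * b * c⁻¹ ∈ A
  zA : ∀ a ∈ A, z * a * z⁻¹ ∈ A
  odd : ∀ x, x * e = e * x → x ^ 5 = 1 → ∃ a ∈ A, ∃ b ∈ B, x = a * b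
  PA : P ≤ A
  MA : M ≤ A
  cardP : Nat.card P = 5
  cardM : Nat.card M = 5
  ne : P ≠ M
  two : ∀ a ∈ A, a ^ 5 = 1 → z * a * z⁻¹ = a⁻¹ → a ∈ P ∨ a ∈ M
  invP : ∀ x ∈ P, z * x * z⁻¹ = x⁻¹
  invM : ∀ x ∈ M, z * x * z⁻¹ = x⁻¹
  hP : ∀ x ∈ P, h * x * h⁻¹ ∈ P
  hM : ∀ x ∈ M, h * x * h⁻¹ ∈ M
  hh : h * h = z
  nn : n * n = z
  nh : n * h * n⁻¹ = h⁻¹
  ch : c * h * c⁻¹ = h⁻¹
  cn : c * n = n * c
  σz : σ * z * σ⁻¹ = z
  σe : σ * e * σ⁻¹ = c
  σc : σ * c * σ⁻¹ = e * c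
  σh : σ * h * σ⁻¹ = n
  σn : σ * n * σ⁻¹ = h * n
  σ3 : σ * σ * σ = 1

/-- `A` and `B` commute elementwise -/
def CC (A B : Subgroup G) : Prop := ∀ a ∈ A, ∀ b ∈ B, a * b = b * a

/-- conjugate subgroup -/
def cg (g : G) (H : Subgroup G) : Subgroup G := H.map (MulAut.conj g).toMonoidHom

theorem mem_cg {g x : G} {H : Subgroup G} : x ∈ cg g H ↔ g⁻¹ * x * g ∈ H := by
  constructor
  · rintro ⟨y, hy, rfl⟩
    have : g⁻¹ * (MulAut.conj g).toMonoidHom y * g = y := by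
      change g⁻¹ * (g * y * g⁻¹) * g = y
      group
    rw [this]; exact hy
  · intro hx
    refine ⟨_, hx, ?_⟩
    change g * (g⁻¹ * x * g) * g⁻¹ = x
    group

theorem cg_mem {g x : G} {H : Subgroup G} (hx : x ∈ H) : g * x * g⁻¹ ∈ cg g H := ⟨x, hx, rfl⟩

theorem cg_cg (a b : G) (H : Subgroup G) : cg a (cg b H) = cg (a * b) H := by
  ext x
  rw [mem_cg, mem_cg, mem_cg]
  have : b⁻¹ * (a⁻¹ * x * a) * b = (a * b)⁻¹ * x * (a * b) := by group
  rw [this]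

theorem cg_one (H : Subgroup G) : cg 1 H = H := by
  ext x; rw [mem_cg]; simp

theorem CC.cg {A B : Subgroup G} (h : CC A B) (g : G) : CC (cg g A) (UAb.cg g B) := by
  intro a ha b hb
  rw [mem_cg] at ha hb
  have h1 := h _ ha _ hb
  calc a * b = g * ((g⁻¹ * a * g) * (g⁻¹ * b * g)) * g⁻¹ := by group
    _ = g * ((g⁻¹ * b * g) * (g⁻¹ * a * g)) * g⁻¹ := by rw [h1]
    _ = b * a := by group

theorem CC.symm {A B : Subgroup G} (h : CC A B) : CC B A := fun a ha b hb => (h b hb a ha).symm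

theorem CC.sup_left {A B C : Subgroup G} (h1 : CC A C) (h2 : CC B C) : CC (A ⊔ B) C := by
  have h3 : A ⊔ B ≤ Subgroup.centralizer (C : Set G) := by
    refine sup_le ?_ ?_
    · intro a ha
      rw [Subgroup.mem_centralizer_iff]
      exact fun b hb => (h1 a ha b hb).symm
    · intro a ha
      rw [Subgroup.mem_centralizer_iff]
      exact fun b hb => (h2 a ha b hb).symm
  intro a ha b hb
  exact ((Subgroup.mem_centralizer_iff.1 (h3 ha)) b hb).symm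

theorem CC.sup_right {A B C : Subgroup G} (h1 : CC C A) (h2 : CC C B) : CC C (A ⊔ B) :=
  (CC.sup_left h1.symm h2.symm).symm

theorem CC.mono {A B A' B' : Subgroup G} (h : CC A B) (h1 : A' ≤ A) (h2 : B' ≤ B) : CC A' B' :=
  fun a ha b hb => h a (h1 ha) b (h2 hb)

/-- two elements of order `5` root: `x⁶ = x` -/
theorem pow_five {P : Subgroup G} (hP : Nat.card P = 5) {x : G} (hx : x ∈ P) : x ^ 5 = 1 := by
  have h1 : (⟨x, hx⟩ : P) ^ Nat.card P = 1 := pow_card_eq_one'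
  rw [hP] at h1
  exact congrArg Subtype.val h1

namespace In

variable {z e c h n σ : G} {A B P M : Subgroup G}

/-- symmetry in the two root groups -/
theorem swap (H : In z e c h n σ A B P M) : In z e c h n σ A B M P :=
  { H with
    PA := H.MA
    MA := H.PA
    cardP := H.cardM
    cardM := H.cardP
    ne := H.ne.symm
    two := fun a ha h1 h2 => (H.two a ha h1 h2).symm
    invP := H.invM
    invM := H.invP
    hP := H.hM
    hM := H.hP }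

variable (H : In z e c h n σ A B P M)

include H

theorem ci : c⁻¹ = c := inv_eq_of_mul_eq_one_left H.cc
theorem zi : z⁻¹ = z := inv_eq_of_mul_eq_one_left H.zz
theorem ei : e⁻¹ = e := inv_eq_of_mul_eq_one_left H.ee

/-- `e` centralises `A` -/
theorem e_A {a : G} (ha : a ∈ A) : a * e = e * a := H.comm a ha e H.eB

theorem hi : h⁻¹ = z * h := by
  rw [← H.hh]
  have : h * h * h = h * (h * h) := mul_assoc _ _ _
  have hz : (h * h) * (h * h) = 1 := by rw [H.hh, H.zz]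
  rw [inv_eq_iff_mul_eq_one, ← hz]
  simp only [mul_assoc]

theorem zh : z * h = h * z := by rw [← H.hh, mul_assoc]

theorem e5 : e ^ 5 = e := by
  calc e ^ 5 = (e * e) * (e * e) * e := by simp only [pow_succ, pow_zero, one_mul, mul_assoc]
    _ = e := by rw [H.ee]; simp

theorem h_c : h * c = c * h⁻¹ := by
  calc h * c = (c * c) * h * c⁻¹ := by rw [H.cc, H.ci, one_mul]
    _ = c * (c * h * c⁻¹) := by group
    _ = c * h⁻¹ := by rw [H.ch]

theorem zn : z * n = n * z := by rw [← H.nn, mul_assoc]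

/-- the diagonal subgroup `R = {x · cxc⁻¹ : x ∈ P}` -/
def R (H : In z e c h n σ A B P M) : Subgroup G where
  carrier := {r | ∃ x ∈ P, r = x * (c * x * c⁻¹)}
  one_mem' := ⟨1, P.one_mem, by simp⟩
  mul_mem' := by
    rintro _ _ ⟨x, hx, rfl⟩ ⟨y, hy, rfl⟩
    refine ⟨x * y, mul_mem hx hy, ?_⟩
    have h1 := H.comm y (H.PA hy) (c * x * c⁻¹) (H.cA x (H.PA hx))
    calc x * (c * x * c⁻¹) * (y * (c * y * c⁻¹)) = x * ((c * x * c⁻¹) * y) * (c * y * c⁻¹) := by group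
      _ = x * (y * (c * x * c⁻¹)) * (c * y * c⁻¹) := by rw [h1]
      _ = _ := by group
  inv_mem' := by
    rintro _ ⟨x, hx, rfl⟩
    refine ⟨x⁻¹, inv_mem hx, ?_⟩
    have h1 := H.comm x⁻¹ (inv_mem (H.PA hx)) (c * x⁻¹ * c⁻¹) (H.cA _ (inv_mem (H.PA hx)))
    rw [h1]
    group

theorem mem_R {r : G} : r ∈ H.R ↔ ∃ x ∈ P, r = x * (c * x * c⁻¹) := Iff.rfl

/-- the abelian group `P · cPc⁻¹` -/
theorem cc_P : CC (P ⊔ cg c P) (P ⊔ cg c P) := by
  have hab : ∀ x ∈ P, ∀ y ∈ P, x * y = y * x := by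
    have : Fact (Nat.Prime 5) := ⟨by norm_num⟩
    have hc : IsCyclic P := isCyclic_of_prime_card H.cardP
    intro x hx y hy
    have := IsCyclic.commGroup.mul_comm (⟨x, hx⟩ : P) ⟨y, hy⟩
    exact congrArg Subtype.val this
  have h1 : CC P P := hab
  have h2 : CC P (cg c P) := by
    rintro x hx _ ⟨y, hy, rfl⟩
    exact H.comm x (H.PA hx) _ (H.cA y (H.PA hy))
  exact CC.sup_left (CC.sup_right h1 h2) (CC.sup_right h2.symm (h1.cg c))

theorem R_le : H.R ≤ P ⊔ cg c P := by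
  rintro _ ⟨x, hx, rfl⟩
  exact mul_mem ((le_sup_left : P ≤ _) hx) ((le_sup_right : cg c P ≤ _) (cg_mem hx))

theorem h_inv_conj {x : G} (hx : x ∈ P) : h⁻¹ * x * h = (h * x * h⁻¹)⁻¹ := by
  have h1 := H.invP _ (H.hP x hx)
  rw [← h1, H.hi]
  have : h⁻¹ * z⁻¹ = (z * h)⁻¹ := by group
  calc z * h * x * h = z * (h * x) * h := by group
    _ = z * (h * x * h⁻¹) * (h * h) := by group
    _ = z * (h * x * h⁻¹) * z := by rw [H.hh]
    _ = z * (h * x * (z * h)) * z⁻¹ := by rw [← H.hi, H.zi]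

/-- `h P h⁻¹ = P`, `h (cPc⁻¹) h⁻¹ = cPc⁻¹` -/
theorem hR_le : cg h H.R ≤ P ⊔ cg c P := by
  rintro _ ⟨_, ⟨x, hx, rfl⟩, rfl⟩
  change h * (x * (c * x * c⁻¹)) * h⁻¹ ∈ _
  have e1 : h * (x * (c * x * c⁻¹)) * h⁻¹ = (h * x * h⁻¹) * (h * c * x * c⁻¹ * h⁻¹) := by group
  have e2 : h * c = c * h⁻¹ := H.h_c
  have e3 : c⁻¹ * h⁻¹ = h * c⁻¹ := by
    have := congrArg (fun t => t⁻¹) e2
    simpa [mul_inv_rev] using this
  have e4 : h * c * x * c⁻¹ * h⁻¹ = c * (h⁻¹ * x * h) * c⁻¹ := by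
    calc h * c * x * c⁻¹ * h⁻¹ = (h * c) * x * (c⁻¹ * h⁻¹) := by group
      _ = (c * h⁻¹) * x * (h * c⁻¹) := by rw [e2, e3]
      _ = _ := by group
  rw [e1, e4, H.h_inv_conj hx]
  exact mul_mem ((le_sup_left : P ≤ _) (H.hP x hx)) ((le_sup_right : cg c P ≤ _) (cg_mem (inv_mem (H.hP x hx))))

/-- claim 1 -/
theorem R_hR : CC H.R (cg h H.R) := H.cc_P.mono H.R_le H.hR_le

/-- `W = R · hRh⁻¹` contains `P` and `cPc⁻¹` -/
theorem P_le : P ≤ H.R ⊔ cg h H.R := by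
  intro x hx
  -- `x² = r(x) · h r(h⁻¹ x h) h⁻¹`
  have hx1 : h⁻¹ * x * h ∈ P := by rw [H.h_inv_conj hx]; exact inv_mem (H.hP x hx)
  set y := h⁻¹ * x * h with hy
  have e0 : h * y * h⁻¹ = x := by rw [hy]; group
  have e2 : h * c = c * h⁻¹ := H.h_c
  have e3 : c⁻¹ * h⁻¹ = h * c⁻¹ := by
    have := congrArg (fun t => t⁻¹) e2
    simpa [mul_inv_rev] using this
  have e4 : h * (y * (c * y * c⁻¹)) * h⁻¹ = x * (c * x⁻¹ * c⁻¹) := by
    calc h * (y * (c * y * c⁻¹)) * h⁻¹ = (h * y * h⁻¹) * ((h * c) * y * (c⁻¹ * h⁻¹)) := by group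
      _ = (h * y * h⁻¹) * ((c * h⁻¹) * y * (h * c⁻¹)) := by rw [e2, e3]
      _ = (h * y * h⁻¹) * (c * (h⁻¹ * y * h) * c⁻¹) := by group
      _ = (h * y * h⁻¹) * (c * (h * y * h⁻¹)⁻¹ * c⁻¹) := by rw [H.h_inv_conj hx1]
      _ = x * (c * x⁻¹ * c⁻¹) := by rw [e0]
  have h1 : x * (c * x * c⁻¹) ∈ H.R ⊔ cg h H.R := (le_sup_left : H.R ≤ _) ⟨x, hx, rfl⟩
  have h2 : x * (c * x⁻¹ * c⁻¹) ∈ H.R ⊔ cg h H.R := by
    rw [← e4]
    exact (le_sup_right : cg h H.R ≤ _) (cg_mem ⟨y, hx1, rfl⟩)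
  have h3 : x * (c * x * c⁻¹) * (x * (c * x⁻¹ * c⁻¹)) = x * x := by
    have h4 := H.comm x (H.PA hx) (c * x * c⁻¹) (H.cA x (H.PA hx))
    calc x * (c * x * c⁻¹) * (x * (c * x⁻¹ * c⁻¹)) = x * ((c * x * c⁻¹) * x) * (c * x⁻¹ * c⁻¹) := by group
      _ = x * (x * (c * x * c⁻¹)) * (c * x⁻¹ * c⁻¹) := by rw [h4]
      _ = x * x := by group
  have h5 : x * x ∈ H.R ⊔ cg h H.R := by rw [← h3]; exact mul_mem h1 h2
  have h6 : x = (x * x) ^ 3 := by
    have := pow_five H.cardP hx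
    calc x = x ^ 5 * x := by rw [this, one_mul]
      _ = (x * x) ^ 3 := by rw [← pow_two, ← pow_mul, ← pow_succ]
  rw [h6]
  exact pow_mem h5 3

theorem c_R : ∀ r ∈ H.R, c * r * c⁻¹ ∈ H.R := by
  rintro _ ⟨x, hx, rfl⟩
  refine ⟨x, hx, ?_⟩
  have h4 := H.comm x (H.PA hx) (c * x * c⁻¹) (H.cA x (H.PA hx))
  calc c * (x * (c * x * c⁻¹)) * c⁻¹ = (c * x * c⁻¹) * ((c * c) * x * (c * c)⁻¹) := by group
    _ = (c * x * c⁻¹) * x := by rw [H.cc]; simp
    _ = x * (c * x * c⁻¹) := h4.symm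

theorem z_R : ∀ r ∈ H.R, z * r * z⁻¹ ∈ H.R := by
  rintro _ ⟨x, hx, rfl⟩
  refine ⟨x⁻¹, inv_mem hx, ?_⟩
  have e1 : z * c = c * z := H.zc
  have e2 : c⁻¹ * z⁻¹ = z⁻¹ * c⁻¹ := by
    have := congrArg (fun t => t⁻¹) e1
    simpa [mul_inv_rev] using this
  calc z * (x * (c * x * c⁻¹)) * z⁻¹ = (z * x * z⁻¹) * ((z * c) * x * (c⁻¹ * z⁻¹)) := by group
    _ = (z * x * z⁻¹) * ((c * z) * x * (z⁻¹ * c⁻¹)) := by rw [e1, e2]
    _ = (z * x * z⁻¹) * (c * (z * x * z⁻¹) * c⁻¹) := by group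
    _ = _ := by rw [H.invP x hx]

theorem cg_z_R : cg z H.R = H.R := by
  apply le_antisymm
  · rintro _ ⟨r, hr, rfl⟩
    exact H.z_R r hr
  · intro r hr
    rw [mem_cg, H.zi]
    have := H.z_R r hr
    rwa [H.zi] at this

theorem cg_c_R : cg c H.R = H.R := by
  apply le_antisymm
  · rintro _ ⟨r, hr, rfl⟩
    exact H.c_R r hr
  · intro r hr
    rw [mem_cg, H.ci]
    have := H.c_R r hr
    rwa [H.ci] at this

theorem cP_le : cg c P ≤ H.R ⊔ cg h H.R := by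
  have h1 : cg c P ≤ cg c (H.R ⊔ cg h H.R) := Subgroup.map_mono H.P_le
  refine h1.trans ?_
  have h2 : cg c (H.R ⊔ cg h H.R) = cg c H.R ⊔ cg c (cg h H.R) := Subgroup.map_sup _ _ _
  rw [h2, H.cg_c_R, cg_cg]
  have h3 : c * h = h * (z * c) := by
    have h4 : c * h = h⁻¹ * c := by rw [← H.ch]; group
    rw [h4, H.hi, H.zh, mul_assoc]
  rw [h3, ← cg_cg, ← cg_cg, H.cg_c_R, H.cg_z_R]

/-- a fifth root of `1` commuting with `e`, `c` and inverted by `z` lies in one of the two diagonal groups -/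
theorem diag {p : G} (h5 : p ^ 5 = 1) (he : p * e = e * p) (hc : p * c = c * p) (hz : z * p * z⁻¹ = p⁻¹) :
    p ∈ H.R ∨ p ∈ H.swap.R := by
  obtain ⟨a, ha, b, hb, rfl⟩ := H.odd p he h5
  -- make `a` of order dividing `5`
  have key : ∃ a' ∈ A, ∃ b' ∈ B, a * b = a' * b' ∧ a' ^ 5 = 1 := by
    have h1 : (a * b) ^ 5 = a ^ 5 * b ^ 5 := (show Commute a b from H.comm a ha b hb).mul_pow 5
    rw [h5] at h1
    have h2 : a ^ 5 = (b ^ 5)⁻¹ := eq_inv_of_mul_eq_one_left h1.symm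
    rcases H.inf (a ^ 5) (pow_mem ha 5) (by rw [h2]; exact inv_mem (pow_mem hb 5)) with h3 | h3
    · exact ⟨a, ha, b, hb, rfl, h3⟩
    · refine ⟨a * e, mul_mem ha H.eA, e * b, mul_mem H.eB hb, ?_, ?_⟩
      · calc a * b = a * (e * e) * b := by rw [H.ee, mul_one]
          _ = a * e * (e * b) := by group
      · have h4 : (a * e) ^ 5 = a ^ 5 * e ^ 5 := (show Commute a e from H.e_A ha).mul_pow 5
        rw [h4, h3, H.e5, H.ee]
  obtain ⟨a', ha', b', hb', hab, ha5⟩ := key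
  rw [hab] at h5 he hc hz ⊢
  clear hab ha hb
  have hcomm : a' * b' = b' * a' := H.comm a' ha' b' hb'
  have hb5 : b' ^ 5 = 1 := by
    have h1 : (a' * b') ^ 5 = a' ^ 5 * b' ^ 5 := (show Commute a' b' from hcomm).mul_pow 5
    rw [h5, ha5, one_mul] at h1
    exact h1.symm
  -- `c b c⁻¹ = a`
  have hcb := H.cB b' hb'
  have hca := H.cA a' ha'
  have h7 : c * b' * c⁻¹ = a' := by
    have h8 : a' * b' = (c * b' * c⁻¹) * (c * a' * c⁻¹) := by
      rw [H.comm _ hcb _ hca]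
      calc a' * b' = (a' * b') * c * c⁻¹ := by group
        _ = c * (a' * b') * c⁻¹ := by rw [hc]
        _ = (c * a' * c⁻¹) * (c * b' * c⁻¹) := by group
    have h9 : (c * b' * c⁻¹)⁻¹ * a' = (c * a' * c⁻¹) * b'⁻¹ := by
      calc (c * b' * c⁻¹)⁻¹ * a' = (c * b' * c⁻¹)⁻¹ * (a' * b') * b'⁻¹ := by group
        _ = (c * b' * c⁻¹)⁻¹ * ((c * b' * c⁻¹) * (c * a' * c⁻¹)) * b'⁻¹ := by rw [← h8]
        _ = _ := by group
    rcases H.inf _ (mul_mem (inv_mem hcb) ha') (by rw [h9]; exact mul_mem hca (inv_mem hb')) with h10 | h10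
    · exact (inv_mul_eq_one.1 h10)
    · -- `a = c b c⁻¹ e`
      have h11 : a' = (c * b' * c⁻¹) * e := by rw [← h10]; group
      exfalso
      have h12 : ((c * b' * c⁻¹) * e) ^ 5 = (c * b' * c⁻¹) ^ 5 * e ^ 5 :=
        (show Commute (c * b' * c⁻¹) e from H.e_A hcb).mul_pow 5
      have h13 : (c * b' * c⁻¹) ^ 5 = 1 := by rw [conj_pow, hb5]; group
      rw [← h11, ha5, h13, one_mul, H.e5] at h12
      exact H.e_ne h12.symm
  have h16 : b' = c * a' * c⁻¹ := by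
    rw [← h7]
    calc b' = (c * c) * b' * (c * c)⁻¹ := by rw [H.cc]; group
      _ = c * (c * b' * c⁻¹) * c⁻¹ := by group
  -- `z a z⁻¹ = a⁻¹`
  have hza := H.zA a' ha'
  have hzb : z * b' * z⁻¹ ∈ B := by
    have e1 : z * c = c * z := H.zc
    have e2 : c⁻¹ * z⁻¹ = z⁻¹ * c⁻¹ := by
      have := congrArg (fun t => t⁻¹) e1
      simpa [mul_inv_rev] using this
    have e3 : z * b' * z⁻¹ = c * (z * a' * z⁻¹) * c⁻¹ := by
      rw [h16]
      calc z * (c * a' * c⁻¹) * z⁻¹ = (z * c) * a' * (c⁻¹ * z⁻¹) := by group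
        _ = (c * z) * a' * (z⁻¹ * c⁻¹) := by rw [e1, e2]
        _ = _ := by group
    rw [e3]
    exact H.cA _ hza
  have h17 : (z * a' * z⁻¹ * a') * (z * b' * z⁻¹ * b') = 1 := by
    have h18 := H.comm a' ha' (z * b' * z⁻¹) hzb
    calc (z * a' * z⁻¹ * a') * (z * b' * z⁻¹ * b') = z * a' * z⁻¹ * (a' * (z * b' * z⁻¹)) * b' := by group
      _ = z * a' * z⁻¹ * ((z * b' * z⁻¹) * a') * b' := by rw [h18]
      _ = (z * (a' * b') * z⁻¹) * (a' * b') := by group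
      _ = 1 := by rw [hz]; group
  have h19 : z * a' * z⁻¹ * a' = (z * b' * z⁻¹ * b')⁻¹ := eq_inv_of_mul_eq_one_left h17
  have h20 : z * a' * z⁻¹ = a'⁻¹ := by
    rcases H.inf _ (mul_mem hza ha') (by rw [h19]; exact inv_mem (mul_mem hzb hb')) with h21 | h21
    · exact eq_inv_of_mul_eq_one_left h21
    · exfalso
      have h22 : z * a' * z⁻¹ = e * a'⁻¹ := by rw [← h21]; group
      have h23 : (e * a'⁻¹) ^ 5 = e ^ 5 * (a'⁻¹) ^ 5 :=
        (show Commute e a'⁻¹ from (H.e_A (inv_mem ha')).symm).mul_pow 5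
      rw [← h22, conj_pow, ha5, H.e5, inv_pow, ha5] at h23
      apply H.e_ne
      simpa using h23.symm
  rcases H.two a' ha' ha5 h20 with h21 | h21
  · left; exact ⟨a', h21, by rw [h16]⟩
  · right; exact ⟨a', h21, by rw [h16]⟩

theorem e_R {r : G} (hr : r ∈ H.R) : r * e = e * r := by
  obtain ⟨x, hx, rfl⟩ := hr
  have h1 := H.e_A (H.PA hx)
  have h2 : c⁻¹ * e = e * c⁻¹ := by rw [H.ci, H.ec]
  calc x * (c * x * c⁻¹) * e = x * (c * x * (c⁻¹ * e)) := by group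
    _ = x * (c * (x * e) * c⁻¹) := by rw [h2]; group
    _ = x * ((c * e) * x * c⁻¹) := by rw [h1]; group
    _ = x * ((e * c) * x * c⁻¹) := by rw [H.ec]
    _ = (x * e) * (c * x * c⁻¹) := by group
    _ = _ := by rw [h1]; group

theorem comm_c_R {r : G} (hr : r ∈ H.R) : r * c = c * r := by
  obtain ⟨x, hx, rfl⟩ := hr
  have h4 := H.comm x (H.PA hx) (c * x * c⁻¹) (H.cA x (H.PA hx))
  calc x * (c * x * c⁻¹) * c = x * c * x := by group
    _ = (c * c) * x * c * x := by rw [H.cc, one_mul]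
    _ = c * ((c * x * c⁻¹) * x) * (x⁻¹ * (c * c) * x) := by group
    _ = c * ((c * x * c⁻¹) * x) := by rw [H.cc]; group
    _ = _ := by rw [h4]

theorem z_inv_R {r : G} (hr : r ∈ H.R) : z * r * z⁻¹ = r⁻¹ := by
  obtain ⟨x, hx, rfl⟩ := hr
  have e1 : z * c = c * z := H.zc
  have e2 : c⁻¹ * z⁻¹ = z⁻¹ * c⁻¹ := by
    have := congrArg (fun t => t⁻¹) e1
    simpa [mul_inv_rev] using this
  have h4 := H.comm x (H.PA hx) (c * x * c⁻¹) (H.cA x (H.PA hx))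
  calc z * (x * (c * x * c⁻¹)) * z⁻¹ = (z * x * z⁻¹) * ((z * c) * x * (c⁻¹ * z⁻¹)) := by group
    _ = (z * x * z⁻¹) * ((c * z) * x * (z⁻¹ * c⁻¹)) := by rw [e1, e2]
    _ = (z * x * z⁻¹) * (c * (z * x * z⁻¹) * c⁻¹) := by group
    _ = x⁻¹ * (c * x⁻¹ * c⁻¹) := by rw [H.invP x hx]
    _ = ((c * x * c⁻¹) * x)⁻¹ := by group
    _ = _ := by rw [h4]

theorem R5 {r : G} (hr : r ∈ H.R) : r ^ 5 = 1 := by
  obtain ⟨x, hx, rfl⟩ := hr
  have h4 := H.comm x (H.PA hx) (c * x * c⁻¹) (H.cA x (H.PA hx))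
  rw [(show Commute x (c * x * c⁻¹) from h4).mul_pow 5, conj_pow, pow_five H.cardP hx]
  group

/-- `σ r σ⁻¹` lies in one of the two diagonal groups -/
theorem σ_R {r : G} (hr : r ∈ H.R) : σ * r * σ⁻¹ ∈ H.R ∨ σ * r * σ⁻¹ ∈ H.swap.R := by
  have h1 := H.e_R hr
  have h2 := H.comm_c_R hr
  have k : ∀ a b : G, r * a = a * r → σ * a * σ⁻¹ = b → (σ * r * σ⁻¹) * b = b * (σ * r * σ⁻¹) := by
    rintro a b hab rfl
    calc (σ * r * σ⁻¹) * (σ * a * σ⁻¹) = σ * (r * a) * σ⁻¹ := by group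
      _ = σ * (a * r) * σ⁻¹ := by rw [hab]
      _ = _ := by group
  have h3 : (σ * r * σ⁻¹) * c = c * (σ * r * σ⁻¹) := k e c h1 H.σe
  have h4 : (σ * r * σ⁻¹) * (e * c) = (e * c) * (σ * r * σ⁻¹) := k c _ h2 H.σc
  have h5 : (σ * r * σ⁻¹) * e = e * (σ * r * σ⁻¹) := by
    have k2 : ∀ t : G, t * c = c * t → t * (e * c) = (e * c) * t → t * e = e * t := by
      intro t ht1 ht2
      calc t * e = t * (e * (c * c)) := by rw [H.cc, mul_one]
        _ = (t * (e * c)) * c := by simp only [mul_assoc]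
        _ = (e * c) * (t * c) := by rw [ht2]; simp only [mul_assoc]
        _ = e * (c * c) * t := by rw [ht1]; simp only [mul_assoc]
        _ = _ := by rw [H.cc, mul_one]
    exact k2 _ h3 h4
  refine H.diag ?_ h5 h3 ?_
  · rw [conj_pow, H.R5 hr]; group
  · have h6 := H.z_inv_R hr
    have h7 : z * σ = σ * z := by
      calc z * σ = (σ * z * σ⁻¹) * σ := by rw [H.σz]
        _ = σ * z := by group
    calc z * (σ * r * σ⁻¹) * z⁻¹ = (z * σ) * r * (z * σ)⁻¹ := by group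
      _ = (σ * z) * r * (σ * z)⁻¹ := by rw [h7]
      _ = σ * (z * r * z⁻¹) * σ⁻¹ := by group
      _ = _ := by rw [h6]; group

theorem not_R_le : ¬ H.R ≤ H.swap.R := by
  intro hle
  have h1 : P ≤ M := by
    intro x hx
    obtain ⟨y, hy, hxy⟩ := hle (show x * (c * x * c⁻¹) ∈ H.R from ⟨x, hx, rfl⟩)
    have h2 : y⁻¹ * x = (c * y * c⁻¹) * (c * x * c⁻¹)⁻¹ := by
      calc y⁻¹ * x = y⁻¹ * (x * (c * x * c⁻¹)) * (c * x * c⁻¹)⁻¹ := by group
        _ = _ := by rw [hxy]; group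
    rcases H.inf (y⁻¹ * x) (mul_mem (inv_mem (H.MA hy)) (H.PA hx))
      (by rw [h2]; exact mul_mem (H.cA y (H.MA hy)) (inv_mem (H.cA x (H.PA hx)))) with h3 | h3
    · rw [← inv_mul_eq_one.1 h3]; exact hy
    · exfalso
      have h4 : x = y * e := by rw [← h3]; group
      have h5 : (y * e) ^ 5 = y ^ 5 * e ^ 5 := (show Commute y e from H.e_A (H.MA hy)).mul_pow 5
      rw [← h4, pow_five H.cardP hx, pow_five H.cardM hy, H.e5, one_mul] at h5
      exact H.e_ne h5.symm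
  have hf : Finite M := Nat.finite_of_card_ne_zero (by rw [H.cardM]; norm_num)
  exact H.ne (Subgroup.eq_of_le_of_card_ge h1 (by rw [H.cardP, H.cardM]))

theorem cg_σ_cases : cg σ H.R ≤ H.R ∨ cg σ H.R ≤ H.swap.R := by
  by_contra hcon
  push Not at hcon
  obtain ⟨h1, h2⟩ := hcon
  rw [SetLike.not_le_iff_exists] at h1 h2
  obtain ⟨_, ⟨r1, hr1, rfl⟩, h1'⟩ := h1
  obtain ⟨_, ⟨r2, hr2, rfl⟩, h2'⟩ := h2
  have h1' : σ * r1 * σ⁻¹ ∉ H.R := h1'
  have h2' : σ * r2 * σ⁻¹ ∉ H.swap.R := h2'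
  have a1 := (H.σ_R hr1).resolve_left h1'
  have a2 := (H.σ_R hr2).resolve_right h2'
  have e1 : σ * (r1 * r2) * σ⁻¹ = (σ * r1 * σ⁻¹) * (σ * r2 * σ⁻¹) := by group
  rcases H.σ_R (mul_mem hr1 hr2) with h3 | h3
  · rw [e1] at h3
    exact h1' ((Subgroup.mul_mem_cancel_right _ a2).1 h3)
  · rw [e1] at h3
    exact h2' ((Subgroup.mul_mem_cancel_left _ a1).1 h3)

theorem cg3 (K : Subgroup G) : cg σ (cg σ (cg σ K)) = K := by
  rw [cg_cg, cg_cg, H.σ3, cg_one]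

omit H in
theorem mono (g : G) {K L : Subgroup G} (h1 : K ≤ L) : cg g K ≤ cg g L := Subgroup.map_mono h1

/-- `σ` normalizes `R` -/
theorem cg_σ : cg σ H.R = H.R := by
  have h1 : cg σ H.R ≤ H.R := by
    rcases H.cg_σ_cases with h1 | h1
    · exact h1
    · exfalso
      apply H.not_R_le
      rcases H.swap.cg_σ_cases with h2 | h2
      · calc H.R = cg σ (cg σ (cg σ H.R)) := (H.cg3 _).symm
          _ ≤ cg σ (cg σ H.swap.R) := mono σ (mono σ h1)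
          _ ≤ cg σ H.swap.R := mono σ h2
          _ ≤ H.swap.R := h2
      · calc H.R = cg σ (cg σ (cg σ H.R)) := (H.cg3 _).symm
          _ ≤ cg σ (cg σ H.swap.R) := mono σ (mono σ h1)
          _ ≤ cg σ H.R := mono σ h2
          _ ≤ H.swap.R := h1
  apply le_antisymm h1
  calc H.R = cg σ (cg σ (cg σ H.R)) := (H.cg3 _).symm
    _ ≤ cg σ (cg σ H.R) := mono σ (mono σ h1)
    _ ≤ cg σ H.R := mono σ h1

/-- claim 3 -/
theorem R_nR : CC H.R (cg n H.R) := by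
  have h1 := H.R_hR.cg σ
  have h2 : σ * h = n * σ := by rw [← H.σh]; group
  rw [H.cg_σ, cg_cg, h2, ← cg_cg, H.cg_σ] at h1
  exact h1

/-- claim 4 -/
theorem R_hnR : CC H.R (cg (h * n) H.R) := by
  have h1 := H.R_nR.cg σ
  have h2 : σ * n = (h * n) * σ := by rw [← H.σn]; group
  rw [H.cg_σ, cg_cg, h2, ← cg_cg, H.cg_σ] at h1
  exact h1

theorem n_h : n * h = h⁻¹ * n := by rw [← H.nh]; group

theorem hi_n : h⁻¹ * n = (h * n) * z := by rw [H.hi, H.zh, mul_assoc, H.zn, mul_assoc]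

/-- **(1), (2)** -/
theorem W : CC (H.R ⊔ cg h H.R) (cg n (H.R ⊔ cg h H.R)) := by
  have e1 : cg n (H.R ⊔ cg h H.R) = cg n H.R ⊔ cg n (cg h H.R) := Subgroup.map_sup _ _ _
  have e2 : cg n (cg h H.R) = cg (h * n) H.R := by
    rw [cg_cg, H.n_h, H.hi_n, ← cg_cg, H.cg_z_R]
  have e3 : cg (h⁻¹ * n) H.R = cg (h * n) H.R := by
    rw [H.hi_n, ← cg_cg, H.cg_z_R]
  have e4 : CC (cg h H.R) (cg n H.R) := by
    have h1 : CC H.R (cg (h⁻¹ * n) H.R) := by rw [e3]; exact H.R_hnR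
    have h2 := h1.cg h
    rw [cg_cg] at h2
    have h3 : h * (h⁻¹ * n) = n := by group
    rwa [h3] at h2
  have e5 : CC (cg h H.R) (cg (h * n) H.R) := by
    have h1 := H.R_nR.cg h
    rwa [cg_cg] at h1
  rw [e1, e2]
  exact CC.sup_left (CC.sup_right H.R_nR H.R_hnR) (CC.sup_right e4 e5)

theorem P_nP : CC P (cg n P) := H.W.mono H.P_le (mono n H.P_le)

theorem P_ncP : CC P (cg n (cg c P)) := H.W.mono H.P_le (mono n H.cP_le)

end In

end Cfsg.Agent.LFourFive.UAb
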